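import Mathlib
import Cfsg.Agent.Rec.HN.Cod
import Cfsg.Agent.Rec.Wit

/-! # Involution centralizers in the Harada–Norton group: words, codes and search trees -/

set_option autoImplicit false
set_option maxRecDepth 100000

namespace Cfsg.Agent.KFI.SpD.HNd

open Cfsg.Agent.Spor Cfsg.Agent.Spor.MHN Cfsg.Agent.Rec Cfsg.Agent.Rec.HN

/-- A word. -/
def wa : List ℕ := [6]
/-- An element of `2.HS.2`. -/
noncomputable def a : HH := evalW g wa

/-- A word. -/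
def wz : List ℕ := [12,7,26,37,31,27,40,40,39]
/-- An element of `2.HS.2`. -/
noncomputable def z : HH := evalW g wz

/-- A word. -/
def wa8 : List ℕ := [1,9,26,37,31,27,40,40,39]
/-- An element of `2.HS.2`. -/
noncomputable def a8 : HH := evalW g wa8

/-- A word. -/
def wy : List ℕ := [4,1]
/-- An element of `2.HS.2`. -/
noncomputable def y : HH := evalW g wy

/-- A word. -/
def wq1 : List ℕ := [8,18,32,32,41,39]
/-- An element of `2.HS.2`. -/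
noncomputable def q1 : HH := evalW g wq1

/-- A word. -/
def wq2 : List ℕ := [13,8,1,24,37,41,39]
/-- An element of `2.HS.2`. -/
noncomputable def q2 : HH := evalW g wq2

/-- A word. -/
def wq3 : List ℕ := [16,8,20,15]
/-- An element of `2.HS.2`. -/
noncomputable def q3 : HH := evalW g wq3

/-- A word. -/
def wq4 : List ℕ := [6]
/-- An element of `2.HS.2`. -/
noncomputable def q4 : HH := evalW g wq4

/-- A word. -/
def wq5 : List ℕ := [2,4,17]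
/-- An element of `2.HS.2`. -/
noncomputable def q5 : HH := evalW g wq5

/-- A word. -/
def wq6 : List ℕ := [18,4,1,16]
/-- An element of `2.HS.2`. -/
noncomputable def q6 : HH := evalW g wq6

/-- A word. -/
def ws1 : List ℕ := [35,12,4,39,16,40,40]
/-- An element of `2.HS.2`. -/
noncomputable def s1 : HH := evalW g ws1

/-- A word. -/
def ws2 : List ℕ := [14,8,23,32,32,40]
/-- An element of `2.HS.2`. -/
noncomputable def s2 : HH := evalW g ws2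

/-- A word. -/
def ws3 : List ℕ := [9,17,17]
/-- An element of `2.HS.2`. -/
noncomputable def s3 : HH := evalW g ws3

/-- A word. -/
def ws4 : List ℕ := [31,9,0,26,38,27,39]
/-- An element of `2.HS.2`. -/
noncomputable def s4 : HH := evalW g ws4

/-- A word. -/
def ws5 : List ℕ := [13,7,7,20,16,27,28,27,40,40,39]
/-- An element of `2.HS.2`. -/
noncomputable def s5 : HH := evalW g ws5

/-- A word. -/
def ws6 : List ℕ := [19,22,10,23,25,38,34,39]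
/-- An element of `2.HS.2`. -/
noncomputable def s6 : HH := evalW g ws6

/-- A word. -/
def ws7 : List ℕ := [11,10,8,18,30,27,40,40,39]
/-- An element of `2.HS.2`. -/
noncomputable def s7 : HH := evalW g ws7

/-- A word. -/
def ws8 : List ℕ := [34,13,9,26,15,34,36,40,39]
/-- An element of `2.HS.2`. -/
noncomputable def s8 : HH := evalW g ws8

/-- A word. -/
def wf3 : List ℕ := [35,31,39]
/-- An element of `2.HS.2`. -/
noncomputable def f3 : HH := evalW g wf3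

/-- A word. -/
def wf5 : List ℕ := [40,13,34,37,41]
/-- An element of `2.HS.2`. -/
noncomputable def f5 : HH := evalW g wf5

/-- A word. -/
def wv : List ℕ := [9,8,21,38,30,41]
/-- An element of `2.HS.2`. -/
noncomputable def v : HH := evalW g wv

/-- A word. -/
def wk1 : List ℕ := [126]
/-- An element of `2.HS.2`. -/
noncomputable def k1 : HH := evalW g wk1

/-- A word. -/
def wk2 : List ℕ := [127]
/-- An element of `2.HS.2`. -/
noncomputable def k2 : HH := evalW g wk2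

/-- Codes. -/
def cS : List ℕ := [(nat_lit 0x496d9598106), (nat_lit 0xadc29cb037b), (nat_lit 0x37524b3015), (nat_lit 0x8943f4b2bf5)]
theorem hS : C0.RepL cS [s1, s2, s3, s4] :=
  repL_words (W := [ws1, ws2, ws3, ws4]) (by decide +kernel)

/-- Codes. -/
def cX : List ℕ := [(nat_lit 0x496d9598106), (nat_lit 0xadc29cb037b), (nat_lit 0x37524b3015), (nat_lit 0x8943f4b2bf5), (nat_lit 0x3bec4d06d07), (nat_lit 0x25adbe00d0b), (nat_lit 0x34b150a8af2), (nat_lit 0x258db9fd50a)]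
theorem hX : C0.RepL cX [s1, s2, s3, s4, s5, s6, s7, s8] :=
  repL_words (W := [ws1, ws2, ws3, ws4, ws5, ws6, ws7, ws8]) (by decide +kernel)

/-- Codes. -/
def cR : List ℕ := [(nat_lit 0xc2d581f81c), (nat_lit 0x322c044b805), (nat_lit 0x58ce8409996), (nat_lit 0x4b74955d81f), (nat_lit 0x40e80d913), (nat_lit 0x80f6cc7807), (nat_lit 0xd2f6c130f6)]
theorem hR : C0.RepL cR [y, q1, q2, q3, q4, q5, q6] :=
  repL_words (W := [wy, wq1, wq2, wq3, wq4, wq5, wq6]) (by decide +kernel)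

/-- Codes. -/
def c3 : List ℕ := [(nat_lit 0x34cc0c800)]
theorem h3 : C0.RepL c3 [f3] :=
  repL_words (W := [wf3]) (by decide +kernel)

/-- Codes. -/
def c5 : List ℕ := [(nat_lit 0x7b6d9999548)]
theorem h5 : C0.RepL c5 [f5] :=
  repL_words (W := [wf5]) (by decide +kernel)

/-- Codes. -/
def cE : List ℕ := [(nat_lit 0x40e80d913), (nat_lit 0x2d73bc02016), (nat_lit 0x2cd3b801818), (nat_lit 0xc2d581f81c), (nat_lit 0x322c044b805), (nat_lit 0x58ce8409996), (nat_lit 0x4b74955d81f), (nat_lit 0x4cc0d60971), (nat_lit 0x6232fd8fa6b), (nat_lit 0x796d728340b), (nat_lit 0x34cc0c800), (nat_lit 0x7b6d9999548), (nat_lit 0x496d9598106), (nat_lit 0xadc29cb037b), (nat_lit 0x37524b3015), (nat_lit 0x8943f4b2bf5)]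
theorem hE : C0.RepL cE [a, z, a8, y, q1, q2, q3, v, k1, k2, f3, f5, s1, s2, s3, s4] :=
  repL_words (W := [wa, wz, wa8, wy, wq1, wq2, wq3, wv, wk1, wk2, wf3, wf5, ws1, ws2, ws3, ws4]) (by decide +kernel)

/-- A search tree. -/
noncomputable def tS : ST :=
(.node (nat_lit 0x4d40f99e30a) (.node (nat_lit 0x21440e26546) (.node (nat_lit 0xd80515b561) (.node (nat_lit 0x6014634118) (.node (nat_lit 0x2c6640b96b) (.node (nat_lit 0x1074c0e03f) (.node (nat_lit 0x880400990) (.node (nat_lit 0x40e80d913) (.node (nat_lit 0x20e40c800) (.node (nat_lit 0xf78c8001) (.node (nat_lit 0x774c8001) (.leaf (nat_lit 0x664c8001) (nat_lit 1281))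
 (.leaf (nat_lit 0x774c8001) (nat_lit 2049))
) (.node (nat_lit 0x1504c8001) (.leaf (nat_lit 0xf78c8001) (nat_lit 2050))
 (.leaf (nat_lit 0x1504c8001) (nat_lit 1792))
)) (.node (nat_lit 0x275c0c800) (.node (nat_lit 0x26740c800) (.leaf (nat_lit 0x20e40c800) (nat_lit 0))
 (.leaf (nat_lit 0x26740c800) (nat_lit 1795))
) (.node (nat_lit 0x33bc0c800) (.leaf (nat_lit 0x275c0c800) (nat_lit 1795))
 (.leaf (nat_lit 0x33bc0c800) (nat_lit 1025))
))) (.node (nat_lit 0x680c0118e) (.node (nat_lit 0x47580d913) (.node (nat_lit 0x46700d913) (.leaf (nat_lit 0x40e80d913) (nat_lit 1026))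
 (.leaf (nat_lit 0x46700d913) (nat_lit 2304))
) (.node (nat_lit 0x53b80d913) (.leaf (nat_lit 0x47580d913) (nat_lit 1795))
 (.leaf (nat_lit 0x53b80d913) (nat_lit 1538))
)) (.node (nat_lit 0x6e400118e) (.node (nat_lit 0x6d900118e) (.leaf (nat_lit 0x680c0118e) (nat_lit 770))
 (.leaf (nat_lit 0x6d900118e) (nat_lit 2050))
) (.node (nat_lit 0x75240118e) (.leaf (nat_lit 0x6e400118e) (nat_lit 2051))
 (.leaf (nat_lit 0x75240118e) (nat_lit 1280))
)))) (.node (nat_lit 0xc8000398f) (.node (nat_lit 0xa80804191) (.node (nat_lit 0x8e4800990) (.node (nat_lit 0x8d8800990) (.leaf (nat_lit 0x880400990) (nat_lit 770))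
 (.leaf (nat_lit 0x8d8800990) (nat_lit 2051))
) (.node (nat_lit 0x952c00990) (.leaf (nat_lit 0x8e4800990) (nat_lit 1537))
 (.leaf (nat_lit 0x952c00990) (nat_lit 1282))
)) (.node (nat_lit 0xae4c04191) (.node (nat_lit 0xad8c04191) (.leaf (nat_lit 0xa80804191) (nat_lit 1793))
 (.leaf (nat_lit 0xad8c04191) (nat_lit 1026))
) (.node (nat_lit 0xb52004191) (.leaf (nat_lit 0xae4c04191) (nat_lit 1027))
 (.leaf (nat_lit 0xb52004191) (nat_lit 1793))
))) (.node (nat_lit 0xe7480d040) (.node (nat_lit 0xce440398f) (.node (nat_lit 0xcd940398f) (.leaf (nat_lit 0xc8000398f) (nat_lit 1795))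
 (.leaf (nat_lit 0xcd940398f) (nat_lit 1026))
) (.node (nat_lit 0xd5280398f) (.leaf (nat_lit 0xce440398f) (nat_lit 1025))
 (.leaf (nat_lit 0xd5280398f) (nat_lit 1794))
)) (.node (nat_lit 0xf2600d040) (.node (nat_lit 0xeb880d040) (.leaf (nat_lit 0xe7480d040) (nat_lit 1280))
 (.leaf (nat_lit 0xeb880d040) (nat_lit 1537))
) (.node (nat_lit 0xf4080d040) (.leaf (nat_lit 0xf2600d040) (nat_lit 768))
 (.leaf (nat_lit 0xf4080d040) (nat_lit 1536))
))))) (.node (nat_lit 0x1a11d152c2) (.node (nat_lit 0x160e550868) (.node (nat_lit 0x120e952866) (.node (nat_lit 0x112640e03f) (.node (nat_lit 0x10b800e03f) (.leaf (nat_lit 0x1074c0e03f) (nat_lit 1283))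
 (.leaf (nat_lit 0x10b800e03f) (nat_lit 2049))
) (.node (nat_lit 0x1140c0e03f) (.leaf (nat_lit 0x112640e03f) (nat_lit 1283))
 (.leaf (nat_lit 0x1140c0e03f) (nat_lit 2051))
)) (.node (nat_lit 0x1275952866) (.node (nat_lit 0x1267152866) (.leaf (nat_lit 0x120e952866) (nat_lit 771))
 (.leaf (nat_lit 0x1267152866) (nat_lit 1537))
) (.node (nat_lit 0x133b952866) (.leaf (nat_lit 0x1275952866) (nat_lit 2051))
 (.leaf (nat_lit 0x133b952866) (nat_lit 1281))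
))) (.node (nat_lit 0x1811512ac3) (.node (nat_lit 0x1675d50868) (.node (nat_lit 0x1667550868) (.leaf (nat_lit 0x160e550868) (nat_lit 1282))
 (.leaf (nat_lit 0x1667550868) (nat_lit 2050))
) (.node (nat_lit 0x173bd50868) (.leaf (nat_lit 0x1675d50868) (nat_lit 2050))
 (.leaf (nat_lit 0x173bd50868) (nat_lit 1283))
)) (.node (nat_lit 0x1890512ac3) (.node (nat_lit 0x1815512ac3) (.leaf (nat_lit 0x1811512ac3) (nat_lit 2049))
 (.leaf (nat_lit 0x1815512ac3) (nat_lit 1282))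
) (.node (nat_lit 0x18c7512ac3) (.leaf (nat_lit 0x1890512ac3) (nat_lit 1539))
 (.leaf (nat_lit 0x18c7512ac3) (nat_lit 1283))
)))) (.node (nat_lit 0x2826d2d9e6) (.node (nat_lit 0x26265299e7) (.node (nat_lit 0x1a901152c2) (.node (nat_lit 0x1a15d152c2) (.leaf (nat_lit 0x1a11d152c2) (nat_lit 1539))
 (.leaf (nat_lit 0x1a15d152c2) (nat_lit 1795))
) (.node (nat_lit 0x1ac7d152c2) (.leaf (nat_lit 0x1a901152c2) (nat_lit 2050))
 (.leaf (nat_lit 0x1ac7d152c2) (nat_lit 1283))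
)) (.node (nat_lit 0x26bb1299e7) (.node (nat_lit 0x26ad1299e7) (.leaf (nat_lit 0x26265299e7) (nat_lit 1794))
 (.leaf (nat_lit 0x26ad1299e7) (nat_lit 1539))
) (.node (nat_lit 0x26f61299e7) (.leaf (nat_lit 0x26bb1299e7) (nat_lit 1536))
 (.leaf (nat_lit 0x26f61299e7) (nat_lit 1793))
))) (.node (nat_lit 0x2ad688981b) (.node (nat_lit 0x28bb52d9e6) (.node (nat_lit 0x28ad92d9e6) (.leaf (nat_lit 0x2826d2d9e6) (nat_lit 1792))
 (.leaf (nat_lit 0x28ad92d9e6) (nat_lit 1539))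
) (.node (nat_lit 0x28f652d9e6) (.leaf (nat_lit 0x28bb52d9e6) (nat_lit 1027))
 (.leaf (nat_lit 0x28f652d9e6) (nat_lit 1794))
)) (.node (nat_lit 0x2afb08981b) (.node (nat_lit 0x2adcc8981b) (.leaf (nat_lit 0x2ad688981b) (nat_lit 1795))
 (.leaf (nat_lit 0x2adcc8981b) (nat_lit 1025))
) (.node (nat_lit 0x2b2388981b) (.leaf (nat_lit 0x2afb08981b) (nat_lit 1792))
 (.leaf (nat_lit 0x2b2388981b) (nat_lit 1539))
)))))) (.node (nat_lit 0x402ecf3a53) (.node (nat_lit 0x34800b6862) (.node (nat_lit 0x306600a966) (.node (nat_lit 0x2ed6c00019) (.node (nat_lit 0x2cf780b96b) (.node (nat_lit 0x2c7740b96b) (.leaf (nat_lit 0x2c6640b96b) (nat_lit 1282))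
 (.leaf (nat_lit 0x2c7740b96b) (nat_lit 2049))
) (.node (nat_lit 0x2d5040b96b) (.leaf (nat_lit 0x2cf780b96b) (nat_lit 2051))
 (.leaf (nat_lit 0x2d5040b96b) (nat_lit 1794))
)) (.node (nat_lit 0x2efb400019) (.node (nat_lit 0x2eddc00019) (.leaf (nat_lit 0x2ed6c00019) (nat_lit 1283))
 (.leaf (nat_lit 0x2eddc00019) (nat_lit 1025))
) (.node (nat_lit 0x2f24000019) (.leaf (nat_lit 0x2efb400019) (nat_lit 1795))
 (.leaf (nat_lit 0x2f24000019) (nat_lit 1539))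
))) (.node (nat_lit 0x32804b5817) (.node (nat_lit 0x30f7c0a966) (.node (nat_lit 0x307780a966) (.leaf (nat_lit 0x306600a966) (nat_lit 1280))
 (.leaf (nat_lit 0x307780a966) (nat_lit 1538))
) (.node (nat_lit 0x315000a966) (.leaf (nat_lit 0x30f7c0a966) (nat_lit 2050))
 (.leaf (nat_lit 0x315000a966) (nat_lit 769))
)) (.node (nat_lit 0x32e48b5817) (.node (nat_lit 0x32d88b5817) (.leaf (nat_lit 0x32804b5817) (nat_lit 768))
 (.leaf (nat_lit 0x32d88b5817) (nat_lit 2050))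
) (.node (nat_lit 0x3352cb5817) (.leaf (nat_lit 0x32e48b5817) (nat_lit 2051))
 (.leaf (nat_lit 0x3352cb5817) (nat_lit 1282))
)))) (.node (nat_lit 0x38808b6061) (.node (nat_lit 0x3680cb3015) (.node (nat_lit 0x34e44b6862) (.node (nat_lit 0x34d94b6862) (.leaf (nat_lit 0x34800b6862) (nat_lit 1795))
 (.leaf (nat_lit 0x34d94b6862) (nat_lit 1539))
) (.node (nat_lit 0x35528b6862) (.leaf (nat_lit 0x34e44b6862) (nat_lit 1538))
 (.leaf (nat_lit 0x35528b6862) (nat_lit 1795))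
)) (.node (nat_lit 0x36e40b3015) (.node (nat_lit 0x36d90b3015) (.leaf (nat_lit 0x3680cb3015) (nat_lit 1281))
 (.leaf (nat_lit 0x36d90b3015) (nat_lit 2049))
) (.node (nat_lit 0x37524b3015) (.leaf (nat_lit 0x36e40b3015) (nat_lit 2050))
 (.leaf (nat_lit 0x37524b3015) (nat_lit 258))
))) (.node (nat_lit 0x3e2e8f325b) (.node (nat_lit 0x38e4cb6061) (.node (nat_lit 0x38d8cb6061) (.leaf (nat_lit 0x38808b6061) (nat_lit 1794))
 (.leaf (nat_lit 0x38d8cb6061) (nat_lit 1024))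
) (.node (nat_lit 0x39520b6061) (.leaf (nat_lit 0x38e4cb6061) (nat_lit 1027))
 (.leaf (nat_lit 0x39520b6061) (nat_lit 1794))
)) (.node (nat_lit 0x3e6b8f325b) (.node (nat_lit 0x3e3e0f325b) (.leaf (nat_lit 0x3e2e8f325b) (nat_lit 1539))
 (.leaf (nat_lit 0x3e3e0f325b) (nat_lit 1794))
) (.node (nat_lit 0x3f058f325b) (.leaf (nat_lit 0x3e6b8f325b) (nat_lit 1536))
 (.leaf (nat_lit 0x3f058f325b) (nat_lit 1280))
))))) (.node (nat_lit 0x4cc0d60971) (.node (nat_lit 0x48370dc8d3) (.node (nat_lit 0x46384dd0d1) (.node (nat_lit 0x406bcf3a53) (.node (nat_lit 0x403f8f3a53) (.leaf (nat_lit 0x402ecf3a53) (nat_lit 1536))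
 (.leaf (nat_lit 0x403f8f3a53) (nat_lit 1794))
) (.node (nat_lit 0x4105cf3a53) (.leaf (nat_lit 0x406bcf3a53) (nat_lit 1539))
 (.leaf (nat_lit 0x4105cf3a53) (nat_lit 1281))
)) (.node (nat_lit 0x469c0dd0d1) (.node (nat_lit 0x46630dd0d1) (.leaf (nat_lit 0x46384dd0d1) (nat_lit 2050))
 (.leaf (nat_lit 0x46630dd0d1) (nat_lit 1283))
) (.node (nat_lit 0x46c20dd0d1) (.leaf (nat_lit 0x469c0dd0d1) (nat_lit 2051))
 (.leaf (nat_lit 0x46c20dd0d1) (nat_lit 768))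
))) (.node (nat_lit 0x4a07cd72a6) (.node (nat_lit 0x489b8dc8d3) (.node (nat_lit 0x48628dc8d3) (.leaf (nat_lit 0x48370dc8d3) (nat_lit 1539))
 (.leaf (nat_lit 0x48628dc8d3) (nat_lit 1280))
) (.node (nat_lit 0x48c2cdc8d3) (.leaf (nat_lit 0x489b8dc8d3) (nat_lit 2050))
 (.leaf (nat_lit 0x48c2cdc8d3) (nat_lit 1283))
)) (.node (nat_lit 0x4a65cd72a6) (.node (nat_lit 0x4a4e4d72a6) (.leaf (nat_lit 0x4a07cd72a6) (nat_lit 1794))
 (.leaf (nat_lit 0x4a4e4d72a6) (nat_lit 1539))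
) (.node (nat_lit 0x4a8ecd72a6) (.leaf (nat_lit 0x4a65cd72a6) (nat_lit 1794))
 (.leaf (nat_lit 0x4a8ecd72a6) (nat_lit 2051))
)))) (.node (nat_lit 0x50c0559970) (.node (nat_lit 0x4e080d7aa7) (.node (nat_lit 0x4cd5d60971) (.node (nat_lit 0x4ccc960971) (.leaf (nat_lit 0x4cc0d60971) (nat_lit 1793))
 (.leaf (nat_lit 0x4ccc960971) (nat_lit 1795))
) (.node (nat_lit 0x4d4e160971) (.leaf (nat_lit 0x4cd5d60971) (nat_lit 1025))
 (.leaf (nat_lit 0x4d4e160971) (nat_lit 1536))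
)) (.node (nat_lit 0x4e658d7aa7) (.node (nat_lit 0x4e4e0d7aa7) (.leaf (nat_lit 0x4e080d7aa7) (nat_lit 1793))
 (.leaf (nat_lit 0x4e4e0d7aa7) (nat_lit 1539))
) (.node (nat_lit 0x4e8e8d7aa7) (.leaf (nat_lit 0x4e658d7aa7) (nat_lit 1794))
 (.leaf (nat_lit 0x4e8e8d7aa7) (nat_lit 1539))
))) (.node (nat_lit 0x5e13e3691b) (.node (nat_lit 0x50d5959970) (.node (nat_lit 0x50ccd59970) (.leaf (nat_lit 0x50c0559970) (nat_lit 1794))
 (.leaf (nat_lit 0x50ccd59970) (nat_lit 1794))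
) (.node (nat_lit 0x514e559970) (.leaf (nat_lit 0x50d5959970) (nat_lit 1026))
 (.leaf (nat_lit 0x514e559970) (nat_lit 1538))
)) (.node (nat_lit 0x5ef363691b) (.node (nat_lit 0x5e3f63691b) (.leaf (nat_lit 0x5e13e3691b) (nat_lit 1539))
 (.leaf (nat_lit 0x5e3f63691b) (nat_lit 1539))
) (.node (nat_lit 0x5f5c23691b) (.leaf (nat_lit 0x5ef363691b) (nat_lit 1792))
 (.leaf (nat_lit 0x5f5c23691b) (nat_lit 1792))
))))))) (.node (nat_lit 0x98460da3cd) (.node (nat_lit 0x7c7c254031) (.node (nat_lit 0x6e0f4f8a96) (.node (nat_lit 0x649540683d) (.node (nat_lit 0x629440603e) (.node (nat_lit 0x60f3e34118) (.node (nat_lit 0x603f234118) (.leaf (nat_lit 0x6014634118) (nat_lit 1539))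
 (.leaf (nat_lit 0x603f234118) (nat_lit 1027))
) (.node (nat_lit 0x615ba34118) (.leaf (nat_lit 0x60f3e34118) (nat_lit 1794))
 (.leaf (nat_lit 0x615ba34118) (nat_lit 1793))
)) (.node (nat_lit 0x62aa80603e) (.node (nat_lit 0x62a580603e) (.leaf (nat_lit 0x629440603e) (nat_lit 1539))
 (.leaf (nat_lit 0x62a580603e) (nat_lit 1793))
) (.node (nat_lit 0x62c440603e) (.leaf (nat_lit 0x62aa80603e) (nat_lit 1536))
 (.leaf (nat_lit 0x62c440603e) (nat_lit 1283))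
))) (.node (nat_lit 0x6c0f8f8299) (.node (nat_lit 0x64aac0683d) (.node (nat_lit 0x64a640683d) (.leaf (nat_lit 0x649540683d) (nat_lit 1026))
 (.leaf (nat_lit 0x64a640683d) (nat_lit 1280))
) (.node (nat_lit 0x64c280683d) (.leaf (nat_lit 0x64aac0683d) (nat_lit 2051))
 (.leaf (nat_lit 0x64c280683d) (nat_lit 1793))
)) (.node (nat_lit 0x6c3fcf8299) (.node (nat_lit 0x6c1ecf8299) (.leaf (nat_lit 0x6c0f8f8299) (nat_lit 1795))
 (.leaf (nat_lit 0x6c1ecf8299) (nat_lit 1537))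
) (.node (nat_lit 0x6d29cf8299) (.leaf (nat_lit 0x6c3fcf8299) (nat_lit 1536))
 (.leaf (nat_lit 0x6d29cf8299) (nat_lit 1792))
)))) (.node (nat_lit 0x7400db23ed) (.node (nat_lit 0x72011b13ec) (.node (nat_lit 0x6e400f8a96) (.node (nat_lit 0x6e1f0f8a96) (.leaf (nat_lit 0x6e0f4f8a96) (nat_lit 1793))
 (.leaf (nat_lit 0x6e1f0f8a96) (nat_lit 1539))
) (.node (nat_lit 0x6f2acf8a96) (.leaf (nat_lit 0x6e400f8a96) (nat_lit 2050))
 (.leaf (nat_lit 0x6f2acf8a96) (nat_lit 1793))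
)) (.node (nat_lit 0x72a85b13ec) (.node (nat_lit 0x72065b13ec) (.leaf (nat_lit 0x72011b13ec) (nat_lit 1283))
 (.leaf (nat_lit 0x72065b13ec) (nat_lit 1795))
) (.node (nat_lit 0x72e7db13ec) (.leaf (nat_lit 0x72a85b13ec) (nat_lit 2050))
 (.leaf (nat_lit 0x72e7db13ec) (nat_lit 2050))
))) (.node (nat_lit 0x7a7c653032) (.node (nat_lit 0x74a95b23ed) (.node (nat_lit 0x7406db23ed) (.leaf (nat_lit 0x7400db23ed) (nat_lit 1283))
 (.leaf (nat_lit 0x7406db23ed) (nat_lit 1280))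
) (.node (nat_lit 0x74e6db23ed) (.leaf (nat_lit 0x74a95b23ed) (nat_lit 1538))
 (.leaf (nat_lit 0x74e6db23ed) (nat_lit 1538))
)) (.node (nat_lit 0x7acfa53032) (.node (nat_lit 0x7a88653032) (.leaf (nat_lit 0x7a7c653032) (nat_lit 1538))
 (.leaf (nat_lit 0x7a88653032) (nat_lit 1795))
) (.node (nat_lit 0x7af0e53032) (.leaf (nat_lit 0x7acfa53032) (nat_lit 1538))
 (.leaf (nat_lit 0x7af0e53032) (nat_lit 1795))
))))) (.node (nat_lit 0x88919af2e1) (.node (nat_lit 0x8066cc7807) (.node (nat_lit 0x7e668c8808) (.node (nat_lit 0x7ccf254031) (.node (nat_lit 0x7c87654031) (.leaf (nat_lit 0x7c7c254031) (nat_lit 2049))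
 (.leaf (nat_lit 0x7c87654031) (nat_lit 771))
) (.node (nat_lit 0x7cf1254031) (.leaf (nat_lit 0x7ccf254031) (nat_lit 1537))
 (.leaf (nat_lit 0x7cf1254031) (nat_lit 1795))
)) (.node (nat_lit 0x7ef74c8808) (.node (nat_lit 0x7e768c8808) (.leaf (nat_lit 0x7e668c8808) (nat_lit 1793))
 (.leaf (nat_lit 0x7e768c8808) (nat_lit 1539))
) (.node (nat_lit 0x7f508c8808) (.leaf (nat_lit 0x7ef74c8808) (nat_lit 1538))
 (.leaf (nat_lit 0x7f508c8808) (nat_lit 1795))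
))) (.node (nat_lit 0x8691dafae5) (.node (nat_lit 0x80f6cc7807) (.node (nat_lit 0x80770c7807) (.leaf (nat_lit 0x8066cc7807) (nat_lit 1792))
 (.leaf (nat_lit 0x80770c7807) (nat_lit 1538))
) (.node (nat_lit 0x8150cc7807) (.leaf (nat_lit 0x80f6cc7807) (nat_lit 1539))
 (.leaf (nat_lit 0x8150cc7807) (nat_lit 1794))
)) (.node (nat_lit 0x87511afae5) (.node (nat_lit 0x86961afae5) (.leaf (nat_lit 0x8691dafae5) (nat_lit 1536))
 (.leaf (nat_lit 0x86961afae5) (nat_lit 1539))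
) (.node (nat_lit 0x8751dafae5) (.leaf (nat_lit 0x87511afae5) (nat_lit 770))
 (.leaf (nat_lit 0x8751dafae5) (nat_lit 1282))
)))) (.node (nat_lit 0x8e0c955a1d) (.node (nat_lit 0x8a0c555221) (.node (nat_lit 0x89515af2e1) (.node (nat_lit 0x88949af2e1) (.leaf (nat_lit 0x88919af2e1) (nat_lit 2048))
 (.leaf (nat_lit 0x88949af2e1) (nat_lit 1539))
) (.node (nat_lit 0x89519af2e1) (.leaf (nat_lit 0x89515af2e1) (nat_lit 1794))
 (.leaf (nat_lit 0x89519af2e1) (nat_lit 1792))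
)) (.node (nat_lit 0x8a89555221) (.node (nat_lit 0x8a26955221) (.leaf (nat_lit 0x8a0c555221) (nat_lit 1795))
 (.leaf (nat_lit 0x8a26955221) (nat_lit 1026))
) (.node (nat_lit 0x8aadd55221) (.leaf (nat_lit 0x8a89555221) (nat_lit 1283))
 (.leaf (nat_lit 0x8aadd55221) (nat_lit 1025))
))) (.node (nat_lit 0x9646cdbbcf) (.node (nat_lit 0x8e8a955a1d) (.node (nat_lit 0x8e27155a1d) (.leaf (nat_lit 0x8e0c955a1d) (nat_lit 1283))
 (.leaf (nat_lit 0x8e27155a1d) (nat_lit 1537))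
) (.node (nat_lit 0x8ead555a1d) (.leaf (nat_lit 0x8e8a955a1d) (nat_lit 1795))
 (.leaf (nat_lit 0x8ead555a1d) (nat_lit 1536))
)) (.node (nat_lit 0x96bd4dbbcf) (.node (nat_lit 0x965d0dbbcf) (.leaf (nat_lit 0x9646cdbbcf) (nat_lit 1282))
 (.leaf (nat_lit 0x965d0dbbcf) (nat_lit 1537))
) (.node (nat_lit 0x96fd4dbbcf) (.leaf (nat_lit 0x96bd4dbbcf) (nat_lit 1794))
 (.leaf (nat_lit 0x96fd4dbbcf) (nat_lit 1536))
)))))) (.node (nat_lit 0xc8668140f3) (.node (nat_lit 0xae0c94c9f0) (.node (nat_lit 0xa229d4a3e1) (.node (nat_lit 0x9e2a54abe5) (.node (nat_lit 0x98bd0da3cd) (.node (nat_lit 0x985e8da3cd) (.leaf (nat_lit 0x98460da3cd) (nat_lit 1792))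
 (.leaf (nat_lit 0x985e8da3cd) (nat_lit 1537))
) (.node (nat_lit 0x98fd0da3cd) (.leaf (nat_lit 0x98bd0da3cd) (nat_lit 1283))
 (.leaf (nat_lit 0x98fd0da3cd) (nat_lit 1025))
)) (.node (nat_lit 0x9e8514abe5) (.node (nat_lit 0x9e5954abe5) (.leaf (nat_lit 0x9e2a54abe5) (nat_lit 1537))
 (.leaf (nat_lit 0x9e5954abe5) (nat_lit 1027))
) (.node (nat_lit 0x9f1b54abe5) (.leaf (nat_lit 0x9e8514abe5) (nat_lit 1794))
 (.leaf (nat_lit 0x9f1b54abe5) (nat_lit 1794))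
))) (.node (nat_lit 0xaa0c54b1f1) (.node (nat_lit 0xa28494a3e1) (.node (nat_lit 0xa25a94a3e1) (.leaf (nat_lit 0xa229d4a3e1) (nat_lit 1539))
 (.leaf (nat_lit 0xa25a94a3e1) (nat_lit 1537))
) (.node (nat_lit 0xa31a14a3e1) (.leaf (nat_lit 0xa28494a3e1) (nat_lit 1792))
 (.leaf (nat_lit 0xa31a14a3e1) (nat_lit 1795))
)) (.node (nat_lit 0xaa8954b1f1) (.node (nat_lit 0xaa2694b1f1) (.leaf (nat_lit 0xaa0c54b1f1) (nat_lit 2050))
 (.leaf (nat_lit 0xaa2694b1f1) (nat_lit 1281))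
) (.node (nat_lit 0xaaadd4b1f1) (.leaf (nat_lit 0xaa8954b1f1) (nat_lit 2048))
 (.leaf (nat_lit 0xaaadd4b1f1) (nat_lit 1793))
)))) (.node (nat_lit 0xc4c0c2001a) (.node (nat_lit 0xc2c041f81c) (.node (nat_lit 0xae8a94c9f0) (.node (nat_lit 0xae2714c9f0) (.leaf (nat_lit 0xae0c94c9f0) (nat_lit 1536))
 (.leaf (nat_lit 0xae2714c9f0) (nat_lit 1792))
) (.node (nat_lit 0xaead54c9f0) (.leaf (nat_lit 0xae8a94c9f0) (nat_lit 1536))
 (.leaf (nat_lit 0xaead54c9f0) (nat_lit 1283))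
)) (.node (nat_lit 0xc2d581f81c) (.node (nat_lit 0xc2ccc1f81c) (.leaf (nat_lit 0xc2c041f81c) (nat_lit 1537))
 (.leaf (nat_lit 0xc2ccc1f81c) (nat_lit 2049))
) (.node (nat_lit 0xc34e41f81c) (.leaf (nat_lit 0xc2d581f81c) (nat_lit 1283))
 (.leaf (nat_lit 0xc34e41f81c) (nat_lit 1281))
))) (.node (nat_lit 0xc607c5d524) (.node (nat_lit 0xc4d5c2001a) (.node (nat_lit 0xc4cc82001a) (.leaf (nat_lit 0xc4c0c2001a) (nat_lit 1537))
 (.leaf (nat_lit 0xc4cc82001a) (nat_lit 1537))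
) (.node (nat_lit 0xc54e02001a) (.leaf (nat_lit 0xc4d5c2001a) (nat_lit 1283))
 (.leaf (nat_lit 0xc54e02001a) (nat_lit 1281))
)) (.node (nat_lit 0xc665c5d524) (.node (nat_lit 0xc64e45d524) (.leaf (nat_lit 0xc607c5d524) (nat_lit 1793))
 (.leaf (nat_lit 0xc64e45d524) (nat_lit 1536))
) (.node (nat_lit 0xc68ec5d524) (.leaf (nat_lit 0xc665c5d524) (nat_lit 1281))
 (.leaf (nat_lit 0xc68ec5d524) (nat_lit 1539))
))))) (.node (nat_lit 0xd06655700b) (.node (nat_lit 0xcc66157809) (.node (nat_lit 0xca0d83dc6f) (.node (nat_lit 0xc8f74140f3) (.node (nat_lit 0xc8768140f3) (.leaf (nat_lit 0xc8668140f3) (nat_lit 2048))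
 (.leaf (nat_lit 0xc8768140f3) (nat_lit 1281))
) (.node (nat_lit 0xc9508140f3) (.leaf (nat_lit 0xc8f74140f3) (nat_lit 1795))
 (.leaf (nat_lit 0xc9508140f3) (nat_lit 1539))
)) (.node (nat_lit 0xca6343dc6f) (.node (nat_lit 0xca1d83dc6f) (.leaf (nat_lit 0xca0d83dc6f) (nat_lit 1795))
 (.leaf (nat_lit 0xca1d83dc6f) (nat_lit 1536))
) (.node (nat_lit 0xca9a83dc6f) (.leaf (nat_lit 0xca6343dc6f) (nat_lit 2048))
 (.leaf (nat_lit 0xca9a83dc6f) (nat_lit 1283))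
))) (.node (nat_lit 0xce0805dd25) (.node (nat_lit 0xccf7d57809) (.node (nat_lit 0xcc77957809) (.leaf (nat_lit 0xcc66157809) (nat_lit 1539))
 (.leaf (nat_lit 0xcc77957809) (nat_lit 1794))
) (.node (nat_lit 0xcd50157809) (.leaf (nat_lit 0xccf7d57809) (nat_lit 1793))
 (.leaf (nat_lit 0xcd50157809) (nat_lit 1539))
)) (.node (nat_lit 0xce6585dd25) (.node (nat_lit 0xce4e05dd25) (.leaf (nat_lit 0xce0805dd25) (nat_lit 1793))
 (.leaf (nat_lit 0xce4e05dd25) (nat_lit 1539))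
) (.node (nat_lit 0xce8e85dd25) (.leaf (nat_lit 0xce6585dd25) (nat_lit 1793))
 (.leaf (nat_lit 0xce8e85dd25) (nat_lit 1027))
)))) (.node (nat_lit 0xd40dc3e46e) (.node (nat_lit 0xd266c130f6) (.node (nat_lit 0xd0f795700b) (.node (nat_lit 0xd07755700b) (.leaf (nat_lit 0xd06655700b) (nat_lit 1539))
 (.leaf (nat_lit 0xd07755700b) (nat_lit 1793))
) (.node (nat_lit 0xd15055700b) (.leaf (nat_lit 0xd0f795700b) (nat_lit 1793))
 (.leaf (nat_lit 0xd15055700b) (nat_lit 1025))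
)) (.node (nat_lit 0xd2f6c130f6) (.node (nat_lit 0xd2770130f6) (.leaf (nat_lit 0xd266c130f6) (nat_lit 1539))
 (.leaf (nat_lit 0xd2770130f6) (nat_lit 1281))
) (.node (nat_lit 0xd350c130f6) (.leaf (nat_lit 0xd2f6c130f6) (nat_lit 771))
 (.leaf (nat_lit 0xd350c130f6) (nat_lit 1539))
))) (.node (nat_lit 0xd604d5a55f) (.node (nat_lit 0xd464c3e46e) (.node (nat_lit 0xd41d43e46e) (.leaf (nat_lit 0xd40dc3e46e) (nat_lit 1793))
 (.leaf (nat_lit 0xd41d43e46e) (nat_lit 1536))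
) (.node (nat_lit 0xd49ac3e46e) (.leaf (nat_lit 0xd464c3e46e) (nat_lit 1026))
 (.leaf (nat_lit 0xd49ac3e46e) (nat_lit 1281))
)) (.node (nat_lit 0xd6ac15a55f) (.node (nat_lit 0xd69115a55f) (.leaf (nat_lit 0xd604d5a55f) (nat_lit 1793))
 (.leaf (nat_lit 0xd69115a55f) (nat_lit 1539))
) (.node (nat_lit 0xd72ed5a55f) (.leaf (nat_lit 0xd6ac15a55f) (nat_lit 1794))
 (.leaf (nat_lit 0xd72ed5a55f) (nat_lit 1027))
)))))))) (.node (nat_lit 0x178301eb8e1) (.node (nat_lit 0x1349463787b) (.node (nat_lit 0xf41b4d1a8b) (.node (nat_lit 0xe63c8dc4b2) (.node (nat_lit 0xde0913732d) (.node (nat_lit 0xda08d3832c) (.node (nat_lit 0xd8aed5b561) (.node (nat_lit 0xd89155b561) (.leaf (nat_lit 0xd80515b561) (nat_lit 1794))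
 (.leaf (nat_lit 0xd89155b561) (nat_lit 1539))
) (.node (nat_lit 0xd92e55b561) (.leaf (nat_lit 0xd8aed5b561) (nat_lit 1282))
 (.leaf (nat_lit 0xd92e55b561) (nat_lit 1536))
)) (.node (nat_lit 0xdac9d3832c) (.node (nat_lit 0xda68d3832c) (.leaf (nat_lit 0xda08d3832c) (nat_lit 1795))
 (.leaf (nat_lit 0xda68d3832c) (nat_lit 2050))
) (.node (nat_lit 0xdad0d3832c) (.leaf (nat_lit 0xdac9d3832c) (nat_lit 1283))
 (.leaf (nat_lit 0xdad0d3832c) (nat_lit 2050))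
))) (.node (nat_lit 0xe43c4dacb0) (.node (nat_lit 0xdeca13732d) (.node (nat_lit 0xde6953732d) (.leaf (nat_lit 0xde0913732d) (nat_lit 1281))
 (.leaf (nat_lit 0xde6953732d) (nat_lit 1538))
) (.node (nat_lit 0xded153732d) (.leaf (nat_lit 0xdeca13732d) (nat_lit 1283))
 (.leaf (nat_lit 0xded153732d) (nat_lit 2050))
)) (.node (nat_lit 0xe49d0dacb0) (.node (nat_lit 0xe4950dacb0) (.leaf (nat_lit 0xe43c4dacb0) (nat_lit 1025))
 (.leaf (nat_lit 0xe4950dacb0) (nat_lit 1794))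
) (.node (nat_lit 0xe4b70dacb0) (.leaf (nat_lit 0xe49d0dacb0) (nat_lit 1536))
 (.leaf (nat_lit 0xe4b70dacb0) (nat_lit 1793))
)))) (.node (nat_lit 0xec0f9e2255) (.node (nat_lit 0xea0f5e1a51) (.node (nat_lit 0xe69d4dc4b2) (.node (nat_lit 0xe6940dc4b2) (.leaf (nat_lit 0xe63c8dc4b2) (nat_lit 1538))
 (.leaf (nat_lit 0xe6940dc4b2) (nat_lit 1795))
) (.node (nat_lit 0xe6b68dc4b2) (.leaf (nat_lit 0xe69d4dc4b2) (nat_lit 1538))
 (.leaf (nat_lit 0xe6b68dc4b2) (nat_lit 1282))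
)) (.node (nat_lit 0xea401e1a51) (.node (nat_lit 0xea1f1e1a51) (.leaf (nat_lit 0xea0f5e1a51) (nat_lit 1537))
 (.leaf (nat_lit 0xea1f1e1a51) (nat_lit 1283))
) (.node (nat_lit 0xeb2ade1a51) (.leaf (nat_lit 0xea401e1a51) (nat_lit 771))
 (.leaf (nat_lit 0xeb2ade1a51) (nat_lit 1537))
))) (.node (nat_lit 0xf21bcd2a8d) (.node (nat_lit 0xec3fde2255) (.node (nat_lit 0xec1ede2255) (.leaf (nat_lit 0xec0f9e2255) (nat_lit 1538))
 (.leaf (nat_lit 0xec1ede2255) (nat_lit 1794))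
) (.node (nat_lit 0xed29de2255) (.leaf (nat_lit 0xec3fde2255) (nat_lit 1792))
 (.leaf (nat_lit 0xed29de2255) (nat_lit 2050))
)) (.node (nat_lit 0xf2a70d2a8d) (.node (nat_lit 0xf29ccd2a8d) (.leaf (nat_lit 0xf21bcd2a8d) (nat_lit 1793))
 (.leaf (nat_lit 0xf29ccd2a8d) (nat_lit 1539))
) (.node (nat_lit 0xf3368d2a8d) (.leaf (nat_lit 0xf2a70d2a8d) (nat_lit 1281))
 (.leaf (nat_lit 0xf3368d2a8d) (nat_lit 1538))
))))) (.node (nat_lit 0x110979ea8f2) (.node (nat_lit 0xf87c47a89c) (.node (nat_lit 0xf67c07a09a) (.node (nat_lit 0xf4a5cd1a8b) (.node (nat_lit 0xf49bcd1a8b) (.leaf (nat_lit 0xf41b4d1a8b) (nat_lit 1280))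
 (.leaf (nat_lit 0xf49bcd1a8b) (nat_lit 1539))
) (.node (nat_lit 0xf536cd1a8b) (.leaf (nat_lit 0xf4a5cd1a8b) (nat_lit 1281))
 (.leaf (nat_lit 0xf536cd1a8b) (nat_lit 2048))
)) (.node (nat_lit 0xf6cf07a09a) (.node (nat_lit 0xf68747a09a) (.leaf (nat_lit 0xf67c07a09a) (nat_lit 1282))
 (.leaf (nat_lit 0xf68747a09a) (nat_lit 1538))
) (.node (nat_lit 0xf6f107a09a) (.leaf (nat_lit 0xf6cf07a09a) (nat_lit 1793))
 (.leaf (nat_lit 0xf6f107a09a) (nat_lit 1538))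
))) (.node (nat_lit 0x10e97dea0f1) (.node (nat_lit 0xf8cf87a89c) (.node (nat_lit 0xf88847a89c) (.leaf (nat_lit 0xf87c47a89c) (nat_lit 1793))
 (.leaf (nat_lit 0xf88847a89c) (nat_lit 2051))
) (.node (nat_lit 0xf8f0c7a89c) (.leaf (nat_lit 0xf8cf87a89c) (nat_lit 1792))
 (.leaf (nat_lit 0xf8f0c7a89c) (nat_lit 1539))
)) (.node (nat_lit 0x10efddea0f1) (.node (nat_lit 0x10ef2dea0f1) (.leaf (nat_lit 0x10e97dea0f1) (nat_lit 1793))
 (.leaf (nat_lit 0x10ef2dea0f1) (nat_lit 1539))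
) (.node (nat_lit 0x10f2c9ea0f1) (.leaf (nat_lit 0x10efddea0f1) (nat_lit 1794))
 (.leaf (nat_lit 0x10f2c9ea0f1) (nat_lit 1538))
)))) (.node (nat_lit 0x13066c3116d) (.node (nat_lit 0x12e6683096c) (.node (nat_lit 0x110fe5ea8f2) (.node (nat_lit 0x110f29ea8f2) (.leaf (nat_lit 0x110979ea8f2) (nat_lit 1281))
 (.leaf (nat_lit 0x110f29ea8f2) (nat_lit 1538))
) (.node (nat_lit 0x1112c1ea8f2) (.leaf (nat_lit 0x110fe5ea8f2) (nat_lit 1281))
 (.leaf (nat_lit 0x1112c1ea8f2) (nat_lit 1536))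
)) (.node (nat_lit 0x12ef743096c) (.node (nat_lit 0x12e7683096c) (.leaf (nat_lit 0x12e6683096c) (nat_lit 1794))
 (.leaf (nat_lit 0x12e7683096c) (nat_lit 1538))
) (.node (nat_lit 0x12f5083096c) (.leaf (nat_lit 0x12ef743096c) (nat_lit 1538))
 (.leaf (nat_lit 0x12f5083096c) (nat_lit 1793))
))) (.node (nat_lit 0x13294e920ba) (.node (nat_lit 0x130f6c3116d) (.node (nat_lit 0x1307703116d) (.leaf (nat_lit 0x13066c3116d) (nat_lit 1794))
 (.leaf (nat_lit 0x1307703116d) (nat_lit 1537))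
) (.node (nat_lit 0x13150c3116d) (.leaf (nat_lit 0x130f6c3116d) (nat_lit 1539))
 (.leaf (nat_lit 0x13150c3116d) (nat_lit 1792))
)) (.node (nat_lit 0x132b1a920ba) (.node (nat_lit 0x132a62920ba) (.leaf (nat_lit 0x13294e920ba) (nat_lit 1024))
 (.leaf (nat_lit 0x132a62920ba) (nat_lit 1794))
) (.node (nat_lit 0x1331ea920ba) (.leaf (nat_lit 0x132b1a920ba) (nat_lit 1538))
 (.leaf (nat_lit 0x1331ea920ba) (nat_lit 1794))
)))))) (.node (nat_lit 0x15229a2553e) (.node (nat_lit 0x1405759a272) (.node (nat_lit 0x1389563707c) (.node (nat_lit 0x13696e928bb) (.node (nat_lit 0x134aaa3787b) (.node (nat_lit 0x134a5a3787b) (.leaf (nat_lit 0x1349463787b) (nat_lit 1795))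
 (.leaf (nat_lit 0x134a5a3787b) (nat_lit 1536))
) (.node (nat_lit 0x134c463787b) (.leaf (nat_lit 0x134aaa3787b) (nat_lit 1795))
 (.leaf (nat_lit 0x134c463787b) (nat_lit 1538))
)) (.node (nat_lit 0x136b1e928bb) (.node (nat_lit 0x136a76928bb) (.leaf (nat_lit 0x13696e928bb) (nat_lit 1539))
 (.leaf (nat_lit 0x136a76928bb) (nat_lit 1793))
) (.node (nat_lit 0x1371e6928bb) (.leaf (nat_lit 0x136b1e928bb) (nat_lit 1537))
 (.leaf (nat_lit 0x1371e6928bb) (nat_lit 1795))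
))) (.node (nat_lit 0x13e53d9aa71) (.node (nat_lit 0x138aae3707c) (.node (nat_lit 0x138a663707c) (.leaf (nat_lit 0x1389563707c) (nat_lit 1795))
 (.leaf (nat_lit 0x138a663707c) (nat_lit 1025))
) (.node (nat_lit 0x138c2a3707c) (.leaf (nat_lit 0x138aae3707c) (nat_lit 1793))
 (.leaf (nat_lit 0x138c2a3707c) (nat_lit 1537))
)) (.node (nat_lit 0x13eef99aa71) (.node (nat_lit 0x13eafd9aa71) (.leaf (nat_lit 0x13e53d9aa71) (nat_lit 1793))
 (.leaf (nat_lit 0x13eafd9aa71) (nat_lit 1538))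
) (.node (nat_lit 0x13f4199aa71) (.leaf (nat_lit 0x13eef99aa71) (nat_lit 1538))
 (.leaf (nat_lit 0x13f4199aa71) (nat_lit 1792))
)))) (.node (nat_lit 0x14c0bc278c5) (.node (nat_lit 0x14a0c0288c6) (.node (nat_lit 0x140f019a272) (.node (nat_lit 0x140b019a272) (.leaf (nat_lit 0x1405759a272) (nat_lit 1793))
 (.leaf (nat_lit 0x140b019a272) (nat_lit 1539))
) (.node (nat_lit 0x1414159a272) (.leaf (nat_lit 0x140f019a272) (nat_lit 1538))
 (.leaf (nat_lit 0x1414159a272) (nat_lit 1792))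
)) (.node (nat_lit 0x14afa8288c6) (.node (nat_lit 0x14a7f4288c6) (.leaf (nat_lit 0x14a0c0288c6) (nat_lit 1795))
 (.leaf (nat_lit 0x14a7f4288c6) (nat_lit 771))
) (.node (nat_lit 0x14b12c288c6) (.leaf (nat_lit 0x14afa8288c6) (nat_lit 2051))
 (.leaf (nat_lit 0x14b12c288c6) (nat_lit 2051))
))) (.node (nat_lit 0x14e29625d3f) (.node (nat_lit 0x14cfac278c5) (.node (nat_lit 0x14c7f0278c5) (.leaf (nat_lit 0x14c0bc278c5) (nat_lit 1282))
 (.leaf (nat_lit 0x14c7f0278c5) (nat_lit 1281))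
) (.node (nat_lit 0x14d128278c5) (.leaf (nat_lit 0x14cfac278c5) (nat_lit 1539))
 (.leaf (nat_lit 0x14d128278c5) (nat_lit 1539))
)) (.node (nat_lit 0x14e58225d3f) (.node (nat_lit 0x14e42e25d3f) (.leaf (nat_lit 0x14e29625d3f) (nat_lit 1794))
 (.leaf (nat_lit 0x14e42e25d3f) (nat_lit 1539))
) (.node (nat_lit 0x14ea5225d3f) (.leaf (nat_lit 0x14e58225d3f) (nat_lit 1027))
 (.leaf (nat_lit 0x14ea5225d3f) (nat_lit 2306))
))))) (.node (nat_lit 0x170112a344c) (.node (nat_lit 0x1682dd1440e) (.node (nat_lit 0x1662e114c0f) (.node (nat_lit 0x1525862553e) (.node (nat_lit 0x1524362553e) (.leaf (nat_lit 0x15229a2553e) (nat_lit 1793))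
 (.leaf (nat_lit 0x1524362553e) (nat_lit 1537))
) (.node (nat_lit 0x152a562553e) (.leaf (nat_lit 0x1525862553e) (nat_lit 1027))
 (.leaf (nat_lit 0x152a562553e) (nat_lit 1794))
)) (.node (nat_lit 0x166bd914c0f) (.node (nat_lit 0x16648114c0f) (.leaf (nat_lit 0x1662e114c0f) (nat_lit 1538))
 (.leaf (nat_lit 0x16648114c0f) (nat_lit 1538))
) (.node (nat_lit 0x16742514c0f) (.leaf (nat_lit 0x166bd914c0f) (nat_lit 1280))
 (.leaf (nat_lit 0x16742514c0f) (nat_lit 1282))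
))) (.node (nat_lit 0x16e10ea3c4d) (.node (nat_lit 0x168bdd1440e) (.node (nat_lit 0x16847d1440e) (.leaf (nat_lit 0x1682dd1440e) (nat_lit 2050))
 (.leaf (nat_lit 0x16847d1440e) (nat_lit 1538))
) (.node (nat_lit 0x1694211440e) (.leaf (nat_lit 0x168bdd1440e) (nat_lit 1282))
 (.leaf (nat_lit 0x1694211440e) (nat_lit 1282))
)) (.node (nat_lit 0x16e8a2a3c4d) (.node (nat_lit 0x16e526a3c4d) (.leaf (nat_lit 0x16e10ea3c4d) (nat_lit 1537))
 (.leaf (nat_lit 0x16e526a3c4d) (nat_lit 1536))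
) (.node (nat_lit 0x16efc2a3c4d) (.leaf (nat_lit 0x16e8a2a3c4d) (nat_lit 1282))
 (.leaf (nat_lit 0x16efc2a3c4d) (nat_lit 1795))
)))) (.node (nat_lit 0x17479812899) (.node (nat_lit 0x172309eb0dc) (.node (nat_lit 0x1708a6a344c) (.node (nat_lit 0x17052aa344c) (.leaf (nat_lit 0x170112a344c) (nat_lit 1537))
 (.leaf (nat_lit 0x17052aa344c) (nat_lit 1538))
) (.node (nat_lit 0x170fc6a344c) (.leaf (nat_lit 0x1708a6a344c) (nat_lit 1282))
 (.leaf (nat_lit 0x170fc6a344c) (nat_lit 1282))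
)) (.node (nat_lit 0x172efdeb0dc) (.node (nat_lit 0x172345eb0dc) (.leaf (nat_lit 0x172309eb0dc) (nat_lit 771))
 (.leaf (nat_lit 0x172345eb0dc) (nat_lit 1538))
) (.node (nat_lit 0x173339eb0dc) (.leaf (nat_lit 0x172efdeb0dc) (nat_lit 2050))
 (.leaf (nat_lit 0x173339eb0dc) (nat_lit 1281))
))) (.node (nat_lit 0x17679c1389b) (.node (nat_lit 0x1750c812899) (.node (nat_lit 0x1750a412899) (.leaf (nat_lit 0x17479812899) (nat_lit 1283))
 (.leaf (nat_lit 0x1750a412899) (nat_lit 1792))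
) (.node (nat_lit 0x17527012899) (.leaf (nat_lit 0x1750c812899) (nat_lit 1537))
 (.leaf (nat_lit 0x17527012899) (nat_lit 1537))
)) (.node (nat_lit 0x1770c41389b) (.node (nat_lit 0x1770a01389b) (.leaf (nat_lit 0x17679c1389b) (nat_lit 1282))
 (.leaf (nat_lit 0x1770a01389b) (nat_lit 1795))
) (.node (nat_lit 0x1772781389b) (.leaf (nat_lit 0x1770c41389b) (nat_lit 1536))
 (.leaf (nat_lit 0x1772781389b) (nat_lit 1537))
))))))) (.node (nat_lit 0x1e80d87fa48) (.node (nat_lit 0x1c21e8368bc) (.node (nat_lit 0x18c935120a5) (.node (nat_lit 0x18459e95343) (.node (nat_lit 0x18059295b45) (.node (nat_lit 0x178f05eb8e1) (.node (nat_lit 0x17834deb8e1) (.leaf (nat_lit 0x178301eb8e1) (nat_lit 1280))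
 (.leaf (nat_lit 0x17834deb8e1) (nat_lit 1538))
) (.node (nat_lit 0x17933deb8e1) (.leaf (nat_lit 0x178f05eb8e1) (nat_lit 1538))
 (.leaf (nat_lit 0x17933deb8e1) (nat_lit 1283))
)) (.node (nat_lit 0x180f5e95b45) (.node (nat_lit 0x180cb295b45) (.leaf (nat_lit 0x18059295b45) (nat_lit 769))
 (.leaf (nat_lit 0x180cb295b45) (nat_lit 2051))
) (.node (nat_lit 0x180fce95b45) (.leaf (nat_lit 0x180f5e95b45) (nat_lit 1538))
 (.leaf (nat_lit 0x180fce95b45) (nat_lit 1282))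
))) (.node (nat_lit 0x18a93d138a6) (.node (nat_lit 0x184f5a95343) (.node (nat_lit 0x184cb695343) (.leaf (nat_lit 0x18459e95343) (nat_lit 1283))
 (.leaf (nat_lit 0x184cb695343) (nat_lit 1539))
) (.node (nat_lit 0x184fca95343) (.leaf (nat_lit 0x184f5a95343) (nat_lit 1536))
 (.leaf (nat_lit 0x184fca95343) (nat_lit 1281))
)) (.node (nat_lit 0x18b4fd138a6) (.node (nat_lit 0x18ac39138a6) (.leaf (nat_lit 0x18a93d138a6) (nat_lit 1536))
 (.leaf (nat_lit 0x18ac39138a6) (nat_lit 1539))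
) (.node (nat_lit 0x18b531138a6) (.leaf (nat_lit 0x18b4fd138a6) (nat_lit 1795))
 (.leaf (nat_lit 0x18b531138a6) (nat_lit 1794))
)))) (.node (nat_lit 0x1a659130024) (.node (nat_lit 0x1a259d31023) (.node (nat_lit 0x18d4f9120a5) (.node (nat_lit 0x18cc25120a5) (.leaf (nat_lit 0x18c935120a5) (nat_lit 1539))
 (.leaf (nat_lit 0x18cc25120a5) (nat_lit 1024))
) (.node (nat_lit 0x18d539120a5) (.leaf (nat_lit 0x18d4f9120a5) (nat_lit 1794))
 (.leaf (nat_lit 0x18d539120a5) (nat_lit 1793))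
)) (.node (nat_lit 0x1a2f5931023) (.node (nat_lit 0x1a2cb531023) (.leaf (nat_lit 0x1a259d31023) (nat_lit 1536))
 (.leaf (nat_lit 0x1a2cb531023) (nat_lit 1793))
) (.node (nat_lit 0x1a2fc931023) (.leaf (nat_lit 0x1a2f5931023) (nat_lit 1795))
 (.leaf (nat_lit 0x1a2fc931023) (nat_lit 1025))
))) (.node (nat_lit 0x1b81e4378b9) (.node (nat_lit 0x1a6f5d30024) (.node (nat_lit 0x1a6cb130024) (.leaf (nat_lit 0x1a659130024) (nat_lit 1539))
 (.leaf (nat_lit 0x1a6cb130024) (nat_lit 1795))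
) (.node (nat_lit 0x1a6fcd30024) (.leaf (nat_lit 0x1a6f5d30024) (nat_lit 1795))
 (.leaf (nat_lit 0x1a6fcd30024) (nat_lit 1025))
)) (.node (nat_lit 0x1b90f0378b9) (.node (nat_lit 0x1b86e4378b9) (.leaf (nat_lit 0x1b81e4378b9) (nat_lit 1025))
 (.leaf (nat_lit 0x1b86e4378b9) (nat_lit 1793))
) (.node (nat_lit 0x1b9324378b9) (.leaf (nat_lit 0x1b90f0378b9) (nat_lit 1536))
 (.leaf (nat_lit 0x1b9324378b9) (nat_lit 1793))
))))) (.node (nat_lit 0x1d88cdf4d09) (.node (nat_lit 0x1cc1cd3ac8d) (.node (nat_lit 0x1ca1c93a48c) (.node (nat_lit 0x1c30f4368bc) (.node (nat_lit 0x1c26e8368bc) (.leaf (nat_lit 0x1c21e8368bc) (nat_lit 1027))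
 (.leaf (nat_lit 0x1c26e8368bc) (nat_lit 1281))
) (.node (nat_lit 0x1c3320368bc) (.leaf (nat_lit 0x1c30f4368bc) (nat_lit 1026))
 (.leaf (nat_lit 0x1c3320368bc) (nat_lit 1794))
)) (.node (nat_lit 0x1cb0353a48c) (.node (nat_lit 0x1ca6993a48c) (.leaf (nat_lit 0x1ca1c93a48c) (nat_lit 1792))
 (.leaf (nat_lit 0x1ca6993a48c) (nat_lit 1536))
) (.node (nat_lit 0x1cb1c93a48c) (.leaf (nat_lit 0x1cb0353a48c) (nat_lit 1283))
 (.leaf (nat_lit 0x1cb1c93a48c) (nat_lit 1026))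
))) (.node (nat_lit 0x1ce8c9f4508) (.node (nat_lit 0x1cd02d3ac8d) (.node (nat_lit 0x1cc69d3ac8d) (.leaf (nat_lit 0x1cc1cd3ac8d) (nat_lit 1794))
 (.leaf (nat_lit 0x1cc69d3ac8d) (nat_lit 1025))
) (.node (nat_lit 0x1cd1cd3ac8d) (.leaf (nat_lit 0x1cd02d3ac8d) (nat_lit 1794))
 (.leaf (nat_lit 0x1cd1cd3ac8d) (nat_lit 1026))
)) (.node (nat_lit 0x1cf03df4508) (.node (nat_lit 0x1ceb55f4508) (.leaf (nat_lit 0x1ce8c9f4508) (nat_lit 1537))
 (.leaf (nat_lit 0x1ceb55f4508) (nat_lit 1538))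
) (.node (nat_lit 0x1cf5bdf4508) (.leaf (nat_lit 0x1cf03df4508) (nat_lit 768))
 (.leaf (nat_lit 0x1cf5bdf4508) (nat_lit 1280))
)))) (.node (nat_lit 0x1e46e073088) (.node (nat_lit 0x1e26d472887) (.node (nat_lit 0x1d9039f4d09) (.node (nat_lit 0x1d8b51f4d09) (.leaf (nat_lit 0x1d88cdf4d09) (nat_lit 1539))
 (.leaf (nat_lit 0x1d8b51f4d09) (nat_lit 1536))
) (.node (nat_lit 0x1d95c5f4d09) (.leaf (nat_lit 0x1d9039f4d09) (nat_lit 1794))
 (.leaf (nat_lit 0x1d95c5f4d09) (nat_lit 1282))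
)) (.node (nat_lit 0x1e28dc72887) (.node (nat_lit 0x1e272872887) (.leaf (nat_lit 0x1e26d472887) (nat_lit 1281))
 (.leaf (nat_lit 0x1e272872887) (nat_lit 1539))
) (.node (nat_lit 0x1e330c72887) (.leaf (nat_lit 0x1e28dc72887) (nat_lit 1537))
 (.leaf (nat_lit 0x1e330c72887) (nat_lit 770))
))) (.node (nat_lit 0x1e674d24864) (.node (nat_lit 0x1e48d873088) (.node (nat_lit 0x1e472c73088) (.leaf (nat_lit 0x1e46e073088) (nat_lit 1282))
 (.leaf (nat_lit 0x1e472c73088) (nat_lit 1539))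
) (.node (nat_lit 0x1e530473088) (.leaf (nat_lit 0x1e48d873088) (nat_lit 1538))
 (.leaf (nat_lit 0x1e530473088) (nat_lit 1794))
)) (.node (nat_lit 0x1e726524864) (.node (nat_lit 0x1e6b8124864) (.leaf (nat_lit 0x1e674d24864) (nat_lit 1026))
 (.leaf (nat_lit 0x1e6b8124864) (nat_lit 1795))
) (.node (nat_lit 0x1e740d24864) (.leaf (nat_lit 0x1e726524864) (nat_lit 514))
 (.leaf (nat_lit 0x1e740d24864) (nat_lit 1794))
)))))) (.node (nat_lit 0x1fe7c032ab7) (.node (nat_lit 0x1f407c7c3a1) (.node (nat_lit 0x1ec74925869) (.node (nat_lit 0x1ea0dc8024a) (.node (nat_lit 0x1e86347fa48) (.node (nat_lit 0x1e81d87fa48) (.leaf (nat_lit 0x1e80d87fa48) (nat_lit 1283))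
 (.leaf (nat_lit 0x1e81d87fa48) (nat_lit 1538))
) (.node (nat_lit 0x1e89a87fa48) (.leaf (nat_lit 0x1e86347fa48) (nat_lit 2048))
 (.leaf (nat_lit 0x1e89a87fa48) (nat_lit 1281))
)) (.node (nat_lit 0x1ea64c8024a) (.node (nat_lit 0x1ea1d48024a) (.leaf (nat_lit 0x1ea0dc8024a) (nat_lit 1795))
 (.leaf (nat_lit 0x1ea1d48024a) (nat_lit 1536))
) (.node (nat_lit 0x1ea9ac8024a) (.leaf (nat_lit 0x1ea64c8024a) (nat_lit 1538))
 (.leaf (nat_lit 0x1ea9ac8024a) (nat_lit 1283))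
))) (.node (nat_lit 0x1f079aafab4) (.node (nat_lit 0x1ed26125869) (.node (nat_lit 0x1ecb8925869) (.leaf (nat_lit 0x1ec74925869) (nat_lit 1024))
 (.leaf (nat_lit 0x1ecb8925869) (nat_lit 1794))
) (.node (nat_lit 0x1ed40925869) (.leaf (nat_lit 0x1ed26125869) (nat_lit 1538))
 (.leaf (nat_lit 0x1ed40925869) (nat_lit 1793))
)) (.node (nat_lit 0x1f10caafab4) (.node (nat_lit 0x1f10a6afab4) (.leaf (nat_lit 0x1f079aafab4) (nat_lit 1539))
 (.leaf (nat_lit 0x1f10a6afab4) (nat_lit 1539))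
) (.node (nat_lit 0x1f1272afab4) (.leaf (nat_lit 0x1f10caafab4) (nat_lit 1792))
 (.leaf (nat_lit 0x1f1272afab4) (nat_lit 1282))
)))) (.node (nat_lit 0x1fa2a453227) (.node (nat_lit 0x1f829c52a24) (.node (nat_lit 0x1f465c7c3a1) (.node (nat_lit 0x1f44e47c3a1) (.leaf (nat_lit 0x1f407c7c3a1) (nat_lit 1537))
 (.leaf (nat_lit 0x1f44e47c3a1) (nat_lit 1282))
) (.node (nat_lit 0x1f48ec7c3a1) (.leaf (nat_lit 0x1f465c7c3a1) (nat_lit 1024))
 (.leaf (nat_lit 0x1f48ec7c3a1) (nat_lit 1793))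
)) (.node (nat_lit 0x1f884852a24) (.node (nat_lit 0x1f85a852a24) (.leaf (nat_lit 0x1f829c52a24) (nat_lit 1539))
 (.leaf (nat_lit 0x1f85a852a24) (nat_lit 1537))
) (.node (nat_lit 0x1f91a052a24) (.leaf (nat_lit 0x1f884852a24) (nat_lit 1795))
 (.leaf (nat_lit 0x1f91a052a24) (nat_lit 1795))
))) (.node (nat_lit 0x1fc79eb0ab6) (.node (nat_lit 0x1fa85053227) (.node (nat_lit 0x1fa59453227) (.leaf (nat_lit 0x1fa2a453227) (nat_lit 1025))
 (.leaf (nat_lit 0x1fa59453227) (nat_lit 1537))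
) (.node (nat_lit 0x1fb1b453227) (.leaf (nat_lit 0x1fa85053227) (nat_lit 1794))
 (.leaf (nat_lit 0x1fb1b453227) (nat_lit 1793))
)) (.node (nat_lit 0x1fd0c6b0ab6) (.node (nat_lit 0x1fd0a2b0ab6) (.leaf (nat_lit 0x1fc79eb0ab6) (nat_lit 1537))
 (.leaf (nat_lit 0x1fd0a2b0ab6) (nat_lit 1539))
) (.node (nat_lit 0x1fd27ab0ab6) (.leaf (nat_lit 0x1fd0c6b0ab6) (nat_lit 1792))
 (.leaf (nat_lit 0x1fd27ab0ab6) (nat_lit 1280))
))))) (.node (nat_lit 0x2080807f3a0) (.node (nat_lit 0x20439e07a29) (.node (nat_lit 0x2007c4352b5) (.node (nat_lit 0x1fecf032ab7) (.node (nat_lit 0x1fe87432ab7) (.leaf (nat_lit 0x1fe7c032ab7) (nat_lit 1280))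
 (.leaf (nat_lit 0x1fe87432ab7) (nat_lit 1537))
) (.node (nat_lit 0x1fef1032ab7) (.leaf (nat_lit 0x1fecf032ab7) (nat_lit 1793))
 (.leaf (nat_lit 0x1fef1032ab7) (nat_lit 1539))
)) (.node (nat_lit 0x200cf8352b5) (.node (nat_lit 0x200884352b5) (.leaf (nat_lit 0x2007c4352b5) (nat_lit 1281))
 (.leaf (nat_lit 0x200884352b5) (nat_lit 1539))
) (.node (nat_lit 0x200f0c352b5) (.leaf (nat_lit 0x200cf8352b5) (nat_lit 1794))
 (.leaf (nat_lit 0x200f0c352b5) (nat_lit 1537))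
))) (.node (nat_lit 0x2063b207228) (.node (nat_lit 0x204a9207a29) (.node (nat_lit 0x2048fe07a29) (.leaf (nat_lit 0x20439e07a29) (nat_lit 1539))
 (.leaf (nat_lit 0x2048fe07a29) (nat_lit 1538))
) (.node (nat_lit 0x20513607a29) (.leaf (nat_lit 0x204a9207a29) (nat_lit 1282))
 (.leaf (nat_lit 0x20513607a29) (nat_lit 1282))
)) (.node (nat_lit 0x206a8e07228) (.node (nat_lit 0x2068f607228) (.leaf (nat_lit 0x2063b207228) (nat_lit 2051))
 (.leaf (nat_lit 0x2068f607228) (nat_lit 1537))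
) (.node (nat_lit 0x20713207228) (.leaf (nat_lit 0x206a8e07228) (nat_lit 1282))
 (.leaf (nat_lit 0x20713207228) (nat_lit 1280))
)))) (.node (nat_lit 0x20cc0c34a4b) (.node (nat_lit 0x20ac0432249) (.node (nat_lit 0x2086587f3a0) (.node (nat_lit 0x2084e07f3a0) (.leaf (nat_lit 0x2080807f3a0) (nat_lit 1538))
 (.leaf (nat_lit 0x2084e07f3a0) (nat_lit 1793))
) (.node (nat_lit 0x2088e87f3a0) (.leaf (nat_lit 0x2086587f3a0) (nat_lit 1025))
 (.leaf (nat_lit 0x2088e87f3a0) (nat_lit 1795))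
)) (.node (nat_lit 0x20ad5832249) (.node (nat_lit 0x20accc32249) (.leaf (nat_lit 0x20ac0432249) (nat_lit 1793))
 (.leaf (nat_lit 0x20accc32249) (nat_lit 1794))
) (.node (nat_lit 0x20b4e432249) (.leaf (nat_lit 0x20ad5832249) (nat_lit 1024))
 (.leaf (nat_lit 0x20b4e432249) (nat_lit 1537))
))) (.node (nat_lit 0x21240a26d47) (.node (nat_lit 0x20cd5c34a4b) (.node (nat_lit 0x20ccc834a4b) (.leaf (nat_lit 0x20cc0c34a4b) (nat_lit 1793))
 (.leaf (nat_lit 0x20ccc834a4b) (nat_lit 1794))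
) (.node (nat_lit 0x20d4e034a4b) (.leaf (nat_lit 0x20cd5c34a4b) (nat_lit 1026))
 (.leaf (nat_lit 0x20d4e034a4b) (nat_lit 1538))
)) (.node (nat_lit 0x212b2a26d47) (.node (nat_lit 0x2129fa26d47) (.leaf (nat_lit 0x21240a26d47) (nat_lit 2048))
 (.leaf (nat_lit 0x2129fa26d47) (nat_lit 1283))
) (.node (nat_lit 0x212b8626d47) (.leaf (nat_lit 0x212b2a26d47) (nat_lit 2049))
 (.leaf (nat_lit 0x212b8626d47) (nat_lit 1282))
))))))))) (.node (nat_lit 0x394396393be) (.node (nat_lit 0x2e831aa73eb) (.node (nat_lit 0x29e222581b5) (.node (nat_lit 0x25c57687483) (.node (nat_lit 0x23031527830) (.node (nat_lit 0x21a0beb8435) (.node (nat_lit 0x2160c2b742b) (.node (nat_lit 0x214b2626546) (.node (nat_lit 0x214a4e26546) (.leaf (nat_lit 0x21440e26546) (nat_lit 1539))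
 (.leaf (nat_lit 0x214a4e26546) (nat_lit 1282))
) (.node (nat_lit 0x214b9626546) (.leaf (nat_lit 0x214b2626546) (nat_lit 2049))
 (.leaf (nat_lit 0x214b9626546) (nat_lit 1282))
)) (.node (nat_lit 0x216faab742b) (.node (nat_lit 0x2167f6b742b) (.leaf (nat_lit 0x2160c2b742b) (nat_lit 1538))
 (.leaf (nat_lit 0x2167f6b742b) (nat_lit 1025))
) (.node (nat_lit 0x21712eb742b) (.leaf (nat_lit 0x216faab742b) (nat_lit 1794))
 (.leaf (nat_lit 0x21712eb742b) (nat_lit 1792))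
))) (.node (nat_lit 0x226660c7002) (.node (nat_lit 0x21afaeb8435) (.node (nat_lit 0x21a7f2b8435) (.leaf (nat_lit 0x21a0beb8435) (nat_lit 1537))
 (.leaf (nat_lit 0x21a7f2b8435) (nat_lit 1026))
) (.node (nat_lit 0x21b12ab8435) (.leaf (nat_lit 0x21afaeb8435) (nat_lit 1792))
 (.leaf (nat_lit 0x21b12ab8435) (nat_lit 1795))
)) (.node (nat_lit 0x226f7cc7002) (.node (nat_lit 0x226778c7002) (.leaf (nat_lit 0x226660c7002) (nat_lit 1282))
 (.leaf (nat_lit 0x226778c7002) (nat_lit 1539))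
) (.node (nat_lit 0x227500c7002) (.leaf (nat_lit 0x226f7cc7002) (nat_lit 2050))
 (.leaf (nat_lit 0x227500c7002) (nat_lit 770))
)))) (.node (nat_lit 0x23e10ea22a4) (.node (nat_lit 0x2363192682f) (.node (nat_lit 0x230e3927830) (.node (nat_lit 0x2306d127830) (.leaf (nat_lit 0x23031527830) (nat_lit 1281))
 (.leaf (nat_lit 0x2306d127830) (nat_lit 1536))
) (.node (nat_lit 0x2310d527830) (.leaf (nat_lit 0x230e3927830) (nat_lit 1280))
 (.leaf (nat_lit 0x2310d527830) (nat_lit 1536))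
)) (.node (nat_lit 0x236e3d2682f) (.node (nat_lit 0x2366dd2682f) (.leaf (nat_lit 0x2363192682f) (nat_lit 1281))
 (.leaf (nat_lit 0x2366dd2682f) (nat_lit 1025))
) (.node (nat_lit 0x2370ad2682f) (.leaf (nat_lit 0x236e3d2682f) (nat_lit 1282))
 (.leaf (nat_lit 0x2370ad2682f) (nat_lit 1537))
))) (.node (nat_lit 0x240112a2aa3) (.node (nat_lit 0x23e8a2a22a4) (.node (nat_lit 0x23e526a22a4) (.leaf (nat_lit 0x23e10ea22a4) (nat_lit 1537))
 (.leaf (nat_lit 0x23e526a22a4) (nat_lit 1539))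
) (.node (nat_lit 0x23efc2a22a4) (.leaf (nat_lit 0x23e8a2a22a4) (nat_lit 1282))
 (.leaf (nat_lit 0x23efc2a22a4) (nat_lit 1280))
)) (.node (nat_lit 0x2408a6a2aa3) (.node (nat_lit 0x24052aa2aa3) (.leaf (nat_lit 0x240112a2aa3) (nat_lit 1537))
 (.leaf (nat_lit 0x24052aa2aa3) (nat_lit 2049))
) (.node (nat_lit 0x240fc6a2aa3) (.leaf (nat_lit 0x2408a6a2aa3) (nat_lit 1283))
 (.leaf (nat_lit 0x240fc6a2aa3) (nat_lit 1794))
))))) (.node (nat_lit 0x29291d17293) (.node (nat_lit 0x2702ee18a98) (.node (nat_lit 0x26a53e87c82) (.node (nat_lit 0x25cf0287483) (.node (nat_lit 0x25cb0287483) (.leaf (nat_lit 0x25c57687483) (nat_lit 1793))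
 (.leaf (nat_lit 0x25cb0287483) (nat_lit 1026))
) (.node (nat_lit 0x25d41687483) (.leaf (nat_lit 0x25cf0287483) (nat_lit 1026))
 (.leaf (nat_lit 0x25d41687483) (nat_lit 1794))
)) (.node (nat_lit 0x26aefa87c82) (.node (nat_lit 0x26aafe87c82) (.leaf (nat_lit 0x26a53e87c82) (nat_lit 1795))
 (.leaf (nat_lit 0x26aafe87c82) (nat_lit 1536))
) (.node (nat_lit 0x26b41a87c82) (.leaf (nat_lit 0x26aefa87c82) (nat_lit 1537))
 (.leaf (nat_lit 0x26b41a87c82) (nat_lit 1794))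
))) (.node (nat_lit 0x2722ea1929d) (.node (nat_lit 0x2706be18a98) (.node (nat_lit 0x2703fa18a98) (.leaf (nat_lit 0x2702ee18a98) (nat_lit 1283))
 (.leaf (nat_lit 0x2703fa18a98) (nat_lit 1536))
) (.node (nat_lit 0x27105e18a98) (.leaf (nat_lit 0x2706be18a98) (nat_lit 1282))
 (.leaf (nat_lit 0x27105e18a98) (nat_lit 1537))
)) (.node (nat_lit 0x2726ba1929d) (.node (nat_lit 0x2723e21929d) (.leaf (nat_lit 0x2722ea1929d) (nat_lit 1793))
 (.leaf (nat_lit 0x2723e21929d) (nat_lit 1537))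
) (.node (nat_lit 0x27305a1929d) (.leaf (nat_lit 0x2726ba1929d) (nat_lit 1795))
 (.leaf (nat_lit 0x27305a1929d) (nat_lit 1025))
)))) (.node (nat_lit 0x29830196270) (.node (nat_lit 0x2949191827e) (.node (nat_lit 0x29351117293) (.node (nat_lit 0x29296117293) (.leaf (nat_lit 0x29291d17293) (nat_lit 1539))
 (.leaf (nat_lit 0x29296117293) (nat_lit 1536))
) (.node (nat_lit 0x29351d17293) (.leaf (nat_lit 0x29351117293) (nat_lit 1792))
 (.leaf (nat_lit 0x29351d17293) (nat_lit 1282))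
)) (.node (nat_lit 0x2955151827e) (.node (nat_lit 0x2949491827e) (.leaf (nat_lit 0x2949191827e) (nat_lit 1536))
 (.leaf (nat_lit 0x2949491827e) (nat_lit 1537))
) (.node (nat_lit 0x2955191827e) (.leaf (nat_lit 0x2955151827e) (nat_lit 1282))
 (.leaf (nat_lit 0x2955191827e) (nat_lit 1282))
))) (.node (nat_lit 0x29a30996a6e) (.node (nat_lit 0x298f0596270) (.node (nat_lit 0x29834d96270) (.leaf (nat_lit 0x29830196270) (nat_lit 1793))
 (.leaf (nat_lit 0x29834d96270) (nat_lit 1538))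
) (.node (nat_lit 0x29933d96270) (.leaf (nat_lit 0x298f0596270) (nat_lit 2050))
 (.leaf (nat_lit 0x29933d96270) (nat_lit 1283))
)) (.node (nat_lit 0x29aefd96a6e) (.node (nat_lit 0x29a34596a6e) (.leaf (nat_lit 0x29a30996a6e) (nat_lit 771))
 (.leaf (nat_lit 0x29a34596a6e) (nat_lit 1537))
) (.node (nat_lit 0x29b33996a6e) (.leaf (nat_lit 0x29aefd96a6e) (nat_lit 1538))
 (.leaf (nat_lit 0x29b33996a6e) (nat_lit 1283))
)))))) (.node (nat_lit 0x2d4295f554c) (.node (nat_lit 0x2c898288cdb) (.node (nat_lit 0x2c00c1e79b7) (.node (nat_lit 0x2ba21e591b8) (.node (nat_lit 0x29f09a581b5) (.node (nat_lit 0x29ecd6581b5) (.leaf (nat_lit 0x29e222581b5) (nat_lit 1793))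
 (.leaf (nat_lit 0x29ecd6581b5) (nat_lit 1026))
) (.node (nat_lit 0x29f43e581b5) (.leaf (nat_lit 0x29f09a581b5) (nat_lit 1793))
 (.leaf (nat_lit 0x29f43e581b5) (nat_lit 1539))
)) (.node (nat_lit 0x2bb09e591b8) (.node (nat_lit 0x2bacd2591b8) (.leaf (nat_lit 0x2ba21e591b8) (nat_lit 1795))
 (.leaf (nat_lit 0x2bacd2591b8) (nat_lit 1538))
) (.node (nat_lit 0x2bb43a591b8) (.leaf (nat_lit 0x2bb09e591b8) (nat_lit 1794))
 (.leaf (nat_lit 0x2bb43a591b8) (nat_lit 1537))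
))) (.node (nat_lit 0x2c20bde69b4) (.node (nat_lit 0x2c0fa9e79b7) (.node (nat_lit 0x2c07f5e79b7) (.leaf (nat_lit 0x2c00c1e79b7) (nat_lit 1538))
 (.leaf (nat_lit 0x2c07f5e79b7) (nat_lit 1025))
) (.node (nat_lit 0x2c112de79b7) (.leaf (nat_lit 0x2c0fa9e79b7) (nat_lit 1283))
 (.leaf (nat_lit 0x2c112de79b7) (nat_lit 1794))
)) (.node (nat_lit 0x2c2fade69b4) (.node (nat_lit 0x2c27f1e69b4) (.leaf (nat_lit 0x2c20bde69b4) (nat_lit 513))
 (.leaf (nat_lit 0x2c27f1e69b4) (nat_lit 1539))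
) (.node (nat_lit 0x2c3129e69b4) (.leaf (nat_lit 0x2c2fade69b4) (nat_lit 1795))
 (.leaf (nat_lit 0x2c3129e69b4) (nat_lit 1795))
)))) (.node (nat_lit 0x2cc0e801818) (.node (nat_lit 0x2ca299f5d4e) (.node (nat_lit 0x2c92be88cdb) (.node (nat_lit 0x2c8a3688cdb) (.leaf (nat_lit 0x2c898288cdb) (nat_lit 1795))
 (.leaf (nat_lit 0x2c8a3688cdb) (nat_lit 1538))
) (.node (nat_lit 0x2c94ae88cdb) (.leaf (nat_lit 0x2c92be88cdb) (nat_lit 1281))
 (.leaf (nat_lit 0x2c94ae88cdb) (nat_lit 1537))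
)) (.node (nat_lit 0x2ca585f5d4e) (.node (nat_lit 0x2ca435f5d4e) (.leaf (nat_lit 0x2ca299f5d4e) (nat_lit 1794))
 (.leaf (nat_lit 0x2ca435f5d4e) (nat_lit 1539))
) (.node (nat_lit 0x2caa55f5d4e) (.leaf (nat_lit 0x2ca585f5d4e) (nat_lit 1027))
 (.leaf (nat_lit 0x2caa55f5d4e) (nat_lit 1793))
))) (.node (nat_lit 0x2ce98a884da) (.node (nat_lit 0x2cc75801818) (.node (nat_lit 0x2cc67001818) (.leaf (nat_lit 0x2cc0e801818) (nat_lit 1026))
 (.leaf (nat_lit 0x2cc67001818) (nat_lit 1283))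
) (.node (nat_lit 0x2cd3b801818) (.leaf (nat_lit 0x2cc75801818) (nat_lit 1792))
 (.leaf (nat_lit 0x2cd3b801818) (nat_lit 512))
)) (.node (nat_lit 0x2cf2ba884da) (.node (nat_lit 0x2cea2e884da) (.leaf (nat_lit 0x2ce98a884da) (nat_lit 1283))
 (.leaf (nat_lit 0x2cea2e884da) (nat_lit 1536))
) (.node (nat_lit 0x2cf4aa884da) (.leaf (nat_lit 0x2cf2ba884da) (nat_lit 1283))
 (.leaf (nat_lit 0x2cf4aa884da) (nat_lit 2050))
))))) (.node (nat_lit 0x2dc11c194a6) (.node (nat_lit 0x2d874c02897) (.node (nat_lit 0x2d60e402016) (.node (nat_lit 0x2d4581f554c) (.node (nat_lit 0x2d442df554c) (.leaf (nat_lit 0x2d4295f554c) (nat_lit 1794))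
 (.leaf (nat_lit 0x2d442df554c) (nat_lit 515))
) (.node (nat_lit 0x2d4a51f554c) (.leaf (nat_lit 0x2d4581f554c) (nat_lit 1025))
 (.leaf (nat_lit 0x2d4a51f554c) (nat_lit 1794))
)) (.node (nat_lit 0x2d675c02016) (.node (nat_lit 0x2d667402016) (.leaf (nat_lit 0x2d60e402016) (nat_lit 1537))
 (.leaf (nat_lit 0x2d667402016) (nat_lit 1795))
) (.node (nat_lit 0x2d73bc02016) (.leaf (nat_lit 0x2d675c02016) (nat_lit 1792))
 (.leaf (nat_lit 0x2d73bc02016) (nat_lit 514))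
))) (.node (nat_lit 0x2da74803098) (.node (nat_lit 0x2d926402897) (.node (nat_lit 0x2d8b8002897) (.leaf (nat_lit 0x2d874c02897) (nat_lit 769))
 (.leaf (nat_lit 0x2d8b8002897) (nat_lit 1537))
) (.node (nat_lit 0x2d940c02897) (.leaf (nat_lit 0x2d926402897) (nat_lit 1792))
 (.leaf (nat_lit 0x2d940c02897) (nat_lit 1537))
)) (.node (nat_lit 0x2db26003098) (.node (nat_lit 0x2dab8803098) (.leaf (nat_lit 0x2da74803098) (nat_lit 771))
 (.leaf (nat_lit 0x2dab8803098) (nat_lit 2051))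
) (.node (nat_lit 0x2db40803098) (.leaf (nat_lit 0x2db26003098) (nat_lit 1283))
 (.leaf (nat_lit 0x2db40803098) (nat_lit 1537))
)))) (.node (nat_lit 0x2e080879828) (.node (nat_lit 0x2de11418ca8) (.node (nat_lit 0x2dc900194a6) (.node (nat_lit 0x2dc15c194a6) (.leaf (nat_lit 0x2dc11c194a6) (nat_lit 2051))
 (.leaf (nat_lit 0x2dc15c194a6) (nat_lit 1280))
) (.node (nat_lit 0x2dcc7c194a6) (.leaf (nat_lit 0x2dc900194a6) (nat_lit 1537))
 (.leaf (nat_lit 0x2dcc7c194a6) (nat_lit 1794))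
)) (.node (nat_lit 0x2de90418ca8) (.node (nat_lit 0x2de15418ca8) (.leaf (nat_lit 0x2de11418ca8) (nat_lit 1538))
 (.leaf (nat_lit 0x2de15418ca8) (nat_lit 1795))
) (.node (nat_lit 0x2dec7418ca8) (.leaf (nat_lit 0x2de90418ca8) (nat_lit 1538))
 (.leaf (nat_lit 0x2dec7418ca8) (nat_lit 1793))
))) (.node (nat_lit 0x2e28007b026) (.node (nat_lit 0x2e0e4c79828) (.node (nat_lit 0x2e0d8c79828) (.leaf (nat_lit 0x2e080879828) (nat_lit 1536))
 (.leaf (nat_lit 0x2e0d8c79828) (nat_lit 1282))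
) (.node (nat_lit 0x2e152079828) (.leaf (nat_lit 0x2e0e4c79828) (nat_lit 768))
 (.leaf (nat_lit 0x2e152079828) (nat_lit 2051))
)) (.node (nat_lit 0x2e2e447b026) (.node (nat_lit 0x2e2d947b026) (.leaf (nat_lit 0x2e28007b026) (nat_lit 2051))
 (.leaf (nat_lit 0x2e2d947b026) (nat_lit 1282))
) (.node (nat_lit 0x2e35287b026) (.leaf (nat_lit 0x2e2e447b026) (nat_lit 770))
 (.leaf (nat_lit 0x2e35287b026) (nat_lit 2051))
))))))) (.node (nat_lit 0x33800d01b77) (.node (nat_lit 0x322c044b805) (.node (nat_lit 0x31a0f90eaab) (.node (nat_lit 0x3141e539b9d) (.node (nat_lit 0x2f4316a63ea) (.node (nat_lit 0x2e8e3ea73eb) (.node (nat_lit 0x2e86dea73eb) (.leaf (nat_lit 0x2e831aa73eb) (nat_lit 1536))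
 (.leaf (nat_lit 0x2e86dea73eb) (nat_lit 1793))
) (.node (nat_lit 0x2e90aea73eb) (.leaf (nat_lit 0x2e8e3ea73eb) (nat_lit 1025))
 (.leaf (nat_lit 0x2e90aea73eb) (nat_lit 1792))
)) (.node (nat_lit 0x2f4e3aa63ea) (.node (nat_lit 0x2f46d2a63ea) (.leaf (nat_lit 0x2f4316a63ea) (nat_lit 1027))
 (.leaf (nat_lit 0x2f46d2a63ea) (nat_lit 1795))
) (.node (nat_lit 0x2f50d6a63ea) (.leaf (nat_lit 0x2f4e3aa63ea) (nat_lit 1539))
 (.leaf (nat_lit 0x2f50d6a63ea) (nat_lit 1794))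
))) (.node (nat_lit 0x3181e937b9e) (.node (nat_lit 0x3150f139b9d) (.node (nat_lit 0x3146e539b9d) (.leaf (nat_lit 0x3141e539b9d) (nat_lit 768))
 (.leaf (nat_lit 0x3146e539b9d) (nat_lit 1537))
) (.node (nat_lit 0x31532539b9d) (.leaf (nat_lit 0x3150f139b9d) (nat_lit 1793))
 (.leaf (nat_lit 0x31532539b9d) (nat_lit 1537))
)) (.node (nat_lit 0x3190f537b9e) (.node (nat_lit 0x3186e937b9e) (.leaf (nat_lit 0x3181e937b9e) (nat_lit 1794))
 (.leaf (nat_lit 0x3186e937b9e) (nat_lit 1536))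
) (.node (nat_lit 0x31932137b9e) (.leaf (nat_lit 0x3190f537b9e) (nat_lit 1280))
 (.leaf (nat_lit 0x31932137b9e) (nat_lit 1537))
)))) (.node (nat_lit 0x31ec0c4c006) (.node (nat_lit 0x31cd680c003) (.node (nat_lit 0x31a3fd0eaab) (.node (nat_lit 0x31a1ed0eaab) (.leaf (nat_lit 0x31a0f90eaab) (nat_lit 2049))
 (.leaf (nat_lit 0x31a1ed0eaab) (nat_lit 1283))
) (.node (nat_lit 0x31b29d0eaab) (.leaf (nat_lit 0x31a3fd0eaab) (nat_lit 1281))
 (.leaf (nat_lit 0x31b29d0eaab) (nat_lit 1537))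
)) (.node (nat_lit 0x31cfb00c003) (.node (nat_lit 0x31cdcc0c003) (.leaf (nat_lit 0x31cd680c003) (nat_lit 1793))
 (.leaf (nat_lit 0x31cdcc0c003) (nat_lit 1539))
) (.node (nat_lit 0x31d2380c003) (.leaf (nat_lit 0x31cfb00c003) (nat_lit 1795))
 (.leaf (nat_lit 0x31d2380c003) (nat_lit 1537))
))) (.node (nat_lit 0x320d6c0b004) (.node (nat_lit 0x31ed5c4c006) (.node (nat_lit 0x31ecc84c006) (.leaf (nat_lit 0x31ec0c4c006) (nat_lit 2050))
 (.leaf (nat_lit 0x31ecc84c006) (nat_lit 2049))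
) (.node (nat_lit 0x31f4e04c006) (.leaf (nat_lit 0x31ed5c4c006) (nat_lit 1793))
 (.leaf (nat_lit 0x31f4e04c006) (nat_lit 1283))
)) (.node (nat_lit 0x320fb40b004) (.node (nat_lit 0x320ddc0b004) (.leaf (nat_lit 0x320d6c0b004) (nat_lit 1792))
 (.leaf (nat_lit 0x320ddc0b004) (nat_lit 1027))
) (.node (nat_lit 0x3212400b004) (.leaf (nat_lit 0x320fb40b004) (nat_lit 1792))
 (.leaf (nat_lit 0x3212400b004) (nat_lit 513))
))))) (.node (nat_lit 0x330055ad392) (.node (nat_lit 0x32c2ee142c6) (.node (nat_lit 0x3260f510aaa) (.node (nat_lit 0x322d584b805) (.node (nat_lit 0x322ccc4b805) (.leaf (nat_lit 0x322c044b805) (nat_lit 2049))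
 (.leaf (nat_lit 0x322ccc4b805) (nat_lit 1536))
) (.node (nat_lit 0x3234e44b805) (.leaf (nat_lit 0x322d584b805) (nat_lit 1283))
 (.leaf (nat_lit 0x3234e44b805) (nat_lit 1795))
)) (.node (nat_lit 0x32640110aaa) (.node (nat_lit 0x3261f110aaa) (.leaf (nat_lit 0x3260f510aaa) (nat_lit 1538))
 (.leaf (nat_lit 0x3261f110aaa) (nat_lit 1280))
) (.node (nat_lit 0x3272ad10aaa) (.leaf (nat_lit 0x32640110aaa) (nat_lit 1795))
 (.leaf (nat_lit 0x3272ad10aaa) (nat_lit 1537))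
))) (.node (nat_lit 0x32e2ea14ac7) (.node (nat_lit 0x32c6be142c6) (.node (nat_lit 0x32c3fa142c6) (.leaf (nat_lit 0x32c2ee142c6) (nat_lit 1539))
 (.leaf (nat_lit 0x32c3fa142c6) (nat_lit 1792))
) (.node (nat_lit 0x32d05e142c6) (.leaf (nat_lit 0x32c6be142c6) (nat_lit 1539))
 (.leaf (nat_lit 0x32d05e142c6) (nat_lit 1282))
)) (.node (nat_lit 0x32e6ba14ac7) (.node (nat_lit 0x32e3e214ac7) (.leaf (nat_lit 0x32e2ea14ac7) (nat_lit 1536))
 (.leaf (nat_lit 0x32e3e214ac7) (nat_lit 1280))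
) (.node (nat_lit 0x32f05a14ac7) (.leaf (nat_lit 0x32e6ba14ac7) (nat_lit 1539))
 (.leaf (nat_lit 0x32f05a14ac7) (nat_lit 1282))
)))) (.node (nat_lit 0x3340a1ab391) (.node (nat_lit 0x33205dadb90) (.node (nat_lit 0x330abdad392) (.node (nat_lit 0x330639ad392) (.leaf (nat_lit 0x330055ad392) (nat_lit 1537))
 (.leaf (nat_lit 0x330639ad392) (nat_lit 1538))
) (.node (nat_lit 0x3312a9ad392) (.leaf (nat_lit 0x330abdad392) (nat_lit 1283))
 (.leaf (nat_lit 0x3312a9ad392) (nat_lit 1281))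
)) (.node (nat_lit 0x332ab9adb90) (.node (nat_lit 0x332641adb90) (.leaf (nat_lit 0x33205dadb90) (nat_lit 1539))
 (.leaf (nat_lit 0x332641adb90) (nat_lit 2050))
) (.node (nat_lit 0x3332a5adb90) (.leaf (nat_lit 0x332ab9adb90) (nat_lit 769))
 (.leaf (nat_lit 0x3332a5adb90) (nat_lit 1795))
))) (.node (nat_lit 0x336099abb93) (.node (nat_lit 0x334415ab391) (.node (nat_lit 0x334185ab391) (.leaf (nat_lit 0x3340a1ab391) (nat_lit 1283))
 (.leaf (nat_lit 0x334185ab391) (nat_lit 1538))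
) (.node (nat_lit 0x334645ab391) (.leaf (nat_lit 0x334415ab391) (nat_lit 1282))
 (.leaf (nat_lit 0x334645ab391) (nat_lit 1538))
)) (.node (nat_lit 0x336419abb93) (.node (nat_lit 0x336189abb93) (.leaf (nat_lit 0x336099abb93) (nat_lit 769))
 (.leaf (nat_lit 0x336189abb93) (nat_lit 1536))
) (.node (nat_lit 0x33663dabb93) (.leaf (nat_lit 0x336419abb93) (nat_lit 1281))
 (.leaf (nat_lit 0x33663dabb93) (nat_lit 1538))
)))))) (.node (nat_lit 0x3601cc793d5) (.node (nat_lit 0x34c3c4e53f9) (.node (nat_lit 0x3463861ecce) (.node (nat_lit 0x33a01100b73) (.node (nat_lit 0x338a9501b77) (.node (nat_lit 0x33806d01b77) (.leaf (nat_lit 0x33800d01b77) (nat_lit 1027))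
 (.leaf (nat_lit 0x33806d01b77) (nat_lit 1024))
) (.node (nat_lit 0x338e6d01b77) (.leaf (nat_lit 0x338a9501b77) (nat_lit 1794))
 (.leaf (nat_lit 0x338e6d01b77) (nat_lit 1282))
)) (.node (nat_lit 0x33aa8500b73) (.node (nat_lit 0x33a06500b73) (.leaf (nat_lit 0x33a01100b73) (nat_lit 1537))
 (.leaf (nat_lit 0x33a06500b73) (nat_lit 1537))
) (.node (nat_lit 0x33ae7d00b73) (.leaf (nat_lit 0x33aa8500b73) (nat_lit 770))
 (.leaf (nat_lit 0x33ae7d00b73) (nat_lit 1794))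
))) (.node (nat_lit 0x34a3721e4cf) (.node (nat_lit 0x3469c21ecce) (.node (nat_lit 0x3466321ecce) (.leaf (nat_lit 0x3463861ecce) (nat_lit 1793))
 (.leaf (nat_lit 0x3466321ecce) (nat_lit 1025))
) (.node (nat_lit 0x346c221ecce) (.leaf (nat_lit 0x3469c21ecce) (nat_lit 1280))
 (.leaf (nat_lit 0x346c221ecce) (nat_lit 1537))
)) (.node (nat_lit 0x34a9ba1e4cf) (.node (nat_lit 0x34a62a1e4cf) (.leaf (nat_lit 0x34a3721e4cf) (nat_lit 1795))
 (.leaf (nat_lit 0x34a62a1e4cf) (nat_lit 1027))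
) (.node (nat_lit 0x34ac2e1e4cf) (.leaf (nat_lit 0x34a9ba1e4cf) (nat_lit 1283))
 (.leaf (nat_lit 0x34ac2e1e4cf) (nat_lit 1537))
)))) (.node (nat_lit 0x35c79831bd8) (.node (nat_lit 0x34e3c8e5bf7) (.node (nat_lit 0x34c9d0e53f9) (.node (nat_lit 0x34c950e53f9) (.leaf (nat_lit 0x34c3c4e53f9) (nat_lit 1282))
 (.leaf (nat_lit 0x34c950e53f9) (nat_lit 1537))
) (.node (nat_lit 0x34cb70e53f9) (.leaf (nat_lit 0x34c9d0e53f9) (nat_lit 1794))
 (.leaf (nat_lit 0x34cb70e53f9) (nat_lit 2051))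
)) (.node (nat_lit 0x34e9d4e5bf7) (.node (nat_lit 0x34e940e5bf7) (.leaf (nat_lit 0x34e3c8e5bf7) (nat_lit 1282))
 (.leaf (nat_lit 0x34e940e5bf7) (nat_lit 1537))
) (.node (nat_lit 0x34eb68e5bf7) (.leaf (nat_lit 0x34e9d4e5bf7) (nat_lit 1794))
 (.leaf (nat_lit 0x34eb68e5bf7) (nat_lit 1536))
))) (.node (nat_lit 0x35e79c33bd9) (.node (nat_lit 0x35d0c831bd8) (.node (nat_lit 0x35d0a431bd8) (.leaf (nat_lit 0x35c79831bd8) (nat_lit 1283))
 (.leaf (nat_lit 0x35d0a431bd8) (nat_lit 1794))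
) (.node (nat_lit 0x35d27031bd8) (.leaf (nat_lit 0x35d0c831bd8) (nat_lit 1537))
 (.leaf (nat_lit 0x35d27031bd8) (nat_lit 2048))
)) (.node (nat_lit 0x35f0c433bd9) (.node (nat_lit 0x35f0a033bd9) (.leaf (nat_lit 0x35e79c33bd9) (nat_lit 1280))
 (.leaf (nat_lit 0x35f0a033bd9) (nat_lit 1795))
) (.node (nat_lit 0x35f27833bd9) (.leaf (nat_lit 0x35f0c433bd9) (nat_lit 1537))
 (.leaf (nat_lit 0x35f27833bd9) (nat_lit 1025))
))))) (.node (nat_lit 0x36e935bd960) (.node (nat_lit 0x36893dbd161) (.node (nat_lit 0x3621c878bd4) (.node (nat_lit 0x36102c793d5) (.node (nat_lit 0x36069c793d5) (.leaf (nat_lit 0x3601cc793d5) (nat_lit 1795))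
 (.leaf (nat_lit 0x36069c793d5) (nat_lit 514))
) (.node (nat_lit 0x3611cc793d5) (.leaf (nat_lit 0x36102c793d5) (nat_lit 1793))
 (.leaf (nat_lit 0x3611cc793d5) (nat_lit 1537))
)) (.node (nat_lit 0x36303478bd4) (.node (nat_lit 0x36269878bd4) (.leaf (nat_lit 0x3621c878bd4) (nat_lit 1282))
 (.leaf (nat_lit 0x36269878bd4) (nat_lit 1538))
) (.node (nat_lit 0x3631c878bd4) (.leaf (nat_lit 0x36303478bd4) (nat_lit 1793))
 (.leaf (nat_lit 0x3631c878bd4) (nat_lit 1537))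
))) (.node (nat_lit 0x36a3960694f) (.node (nat_lit 0x3694fdbd161) (.node (nat_lit 0x368c39bd161) (.leaf (nat_lit 0x36893dbd161) (nat_lit 1280))
 (.leaf (nat_lit 0x368c39bd161) (nat_lit 1281))
) (.node (nat_lit 0x369531bd161) (.leaf (nat_lit 0x3694fdbd161) (nat_lit 1539))
 (.leaf (nat_lit 0x369531bd161) (nat_lit 1539))
)) (.node (nat_lit 0x36a9ca0694f) (.node (nat_lit 0x36a6c60694f) (.leaf (nat_lit 0x36a3960694f) (nat_lit 1538))
 (.leaf (nat_lit 0x36a6c60694f) (nat_lit 1539))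
) (.node (nat_lit 0x36b20e0694f) (.leaf (nat_lit 0x36a9ca0694f) (nat_lit 1794))
 (.leaf (nat_lit 0x36b20e0694f) (nat_lit 1793))
)))) (.node (nat_lit 0x3721bd944af) (.node (nat_lit 0x37039a0595d) (.node (nat_lit 0x36f4f9bd960) (.node (nat_lit 0x36ec25bd960) (.leaf (nat_lit 0x36e935bd960) (nat_lit 1280))
 (.leaf (nat_lit 0x36ec25bd960) (nat_lit 1281))
) (.node (nat_lit 0x36f539bd960) (.leaf (nat_lit 0x36f4f9bd960) (nat_lit 1536))
 (.leaf (nat_lit 0x36f539bd960) (nat_lit 1537))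
)) (.node (nat_lit 0x3709c60595d) (.node (nat_lit 0x3706c20595d) (.leaf (nat_lit 0x37039a0595d) (nat_lit 1537))
 (.leaf (nat_lit 0x3706c20595d) (nat_lit 1537))
) (.node (nat_lit 0x37120a0595d) (.leaf (nat_lit 0x3709c60595d) (nat_lit 1281))
 (.leaf (nat_lit 0x37120a0595d) (nat_lit 1792))
))) (.node (nat_lit 0x3741b593cae) (.node (nat_lit 0x372a71944af) (.node (nat_lit 0x3729cd944af) (.leaf (nat_lit 0x3721bd944af) (nat_lit 1539))
 (.leaf (nat_lit 0x3729cd944af) (nat_lit 1795))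
) (.node (nat_lit 0x373369944af) (.leaf (nat_lit 0x372a71944af) (nat_lit 1024))
 (.leaf (nat_lit 0x373369944af) (nat_lit 1795))
)) (.node (nat_lit 0x374a5d93cae) (.node (nat_lit 0x3749bd93cae) (.leaf (nat_lit 0x3741b593cae) (nat_lit 1027))
 (.leaf (nat_lit 0x3749bd93cae) (nat_lit 1795))
) (.node (nat_lit 0x37536d93cae) (.leaf (nat_lit 0x374a5d93cae) (nat_lit 1024))
 (.leaf (nat_lit 0x37536d93cae) (nat_lit 1793))
)))))))) (.node (nat_lit 0x4644253f230) (.node (nat_lit 0x40001ce91da) (.node (nat_lit 0x3ba05dbba03) (.node (nat_lit 0x3ac00ea4c90) (.node (nat_lit 0x3a401aa5333) (.node (nat_lit 0x39639a39bc0) (.node (nat_lit 0x3949ca393be) (.node (nat_lit 0x3946c6393be) (.leaf (nat_lit 0x394396393be) (nat_lit 1795))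
 (.leaf (nat_lit 0x3946c6393be) (nat_lit 1792))
) (.node (nat_lit 0x39520e393be) (.leaf (nat_lit 0x3949ca393be) (nat_lit 1026))
 (.leaf (nat_lit 0x39520e393be) (nat_lit 514))
)) (.node (nat_lit 0x3969c639bc0) (.node (nat_lit 0x3966c239bc0) (.leaf (nat_lit 0x39639a39bc0) (nat_lit 1795))
 (.leaf (nat_lit 0x3966c239bc0) (nat_lit 1281))
) (.node (nat_lit 0x39720a39bc0) (.leaf (nat_lit 0x3969c639bc0) (nat_lit 1536))
 (.leaf (nat_lit 0x39720a39bc0) (nat_lit 1538))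
))) (.node (nat_lit 0x3a6016a4332) (.node (nat_lit 0x3a45c6a5333) (.node (nat_lit 0x3a406aa5333) (.leaf (nat_lit 0x3a401aa5333) (nat_lit 1537))
 (.leaf (nat_lit 0x3a406aa5333) (nat_lit 1539))
) (.node (nat_lit 0x3a492ea5333) (.leaf (nat_lit 0x3a45c6a5333) (nat_lit 1794))
 (.leaf (nat_lit 0x3a492ea5333) (nat_lit 1794))
)) (.node (nat_lit 0x3a65c2a4332) (.node (nat_lit 0x3a6072a4332) (.leaf (nat_lit 0x3a6016a4332) (nat_lit 1539))
 (.leaf (nat_lit 0x3a6072a4332) (nat_lit 1539))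
) (.node (nat_lit 0x3a6926a4332) (.leaf (nat_lit 0x3a65c2a4332) (nat_lit 1282))
 (.leaf (nat_lit 0x3a6926a4332) (nat_lit 1282))
)))) (.node (nat_lit 0x3b40a180a00) (.node (nat_lit 0x3ae012a5c8e) (.node (nat_lit 0x3aca96a4c90) (.node (nat_lit 0x3ac06ea4c90) (.leaf (nat_lit 0x3ac00ea4c90) (nat_lit 1025))
 (.leaf (nat_lit 0x3ac06ea4c90) (nat_lit 1025))
) (.node (nat_lit 0x3ace6ea4c90) (.leaf (nat_lit 0x3aca96a4c90) (nat_lit 1282))
 (.leaf (nat_lit 0x3ace6ea4c90) (nat_lit 1282))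
)) (.node (nat_lit 0x3aea86a5c8e) (.node (nat_lit 0x3ae066a5c8e) (.leaf (nat_lit 0x3ae012a5c8e) (nat_lit 1536))
 (.leaf (nat_lit 0x3ae066a5c8e) (nat_lit 1539))
) (.node (nat_lit 0x3aee7ea5c8e) (.leaf (nat_lit 0x3aea86a5c8e) (nat_lit 1794))
 (.leaf (nat_lit 0x3aee7ea5c8e) (nat_lit 1282))
))) (.node (nat_lit 0x3b809981a02) (.node (nat_lit 0x3b441580a00) (.node (nat_lit 0x3b418580a00) (.leaf (nat_lit 0x3b40a180a00) (nat_lit 1539))
 (.leaf (nat_lit 0x3b418580a00) (nat_lit 1794))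
) (.node (nat_lit 0x3b464580a00) (.leaf (nat_lit 0x3b441580a00) (nat_lit 1539))
 (.leaf (nat_lit 0x3b464580a00) (nat_lit 1792))
)) (.node (nat_lit 0x3b841981a02) (.node (nat_lit 0x3b818981a02) (.leaf (nat_lit 0x3b809981a02) (nat_lit 1536))
 (.leaf (nat_lit 0x3b818981a02) (nat_lit 1792))
) (.node (nat_lit 0x3b863d81a02) (.leaf (nat_lit 0x3b841981a02) (nat_lit 1027))
 (.leaf (nat_lit 0x3b863d81a02) (nat_lit 1282))
))))) (.node (nat_lit 0x3e019535057) (.node (nat_lit 0x3cc094cb814) (.node (nat_lit 0x3bc055b9a01) (.node (nat_lit 0x3baab9bba03) (.node (nat_lit 0x3ba641bba03) (.leaf (nat_lit 0x3ba05dbba03) (nat_lit 1794))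
 (.leaf (nat_lit 0x3ba641bba03) (nat_lit 1282))
) (.node (nat_lit 0x3bb2a5bba03) (.leaf (nat_lit 0x3baab9bba03) (nat_lit 1539))
 (.leaf (nat_lit 0x3bb2a5bba03) (nat_lit 1539))
)) (.node (nat_lit 0x3bcabdb9a01) (.node (nat_lit 0x3bc639b9a01) (.leaf (nat_lit 0x3bc055b9a01) (nat_lit 1280))
 (.leaf (nat_lit 0x3bc639b9a01) (nat_lit 1282))
) (.node (nat_lit 0x3bd2a9b9a01) (.leaf (nat_lit 0x3bcabdb9a01) (nat_lit 1536))
 (.leaf (nat_lit 0x3bd2a9b9a01) (nat_lit 1025))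
))) (.node (nat_lit 0x3ce09ccb013) (.node (nat_lit 0x3cc3e8cb814) (.node (nat_lit 0x3cc18ccb814) (.leaf (nat_lit 0x3cc094cb814) (nat_lit 1539))
 (.leaf (nat_lit 0x3cc18ccb814) (nat_lit 1536))
) (.node (nat_lit 0x3cd57ccb814) (.leaf (nat_lit 0x3cc3e8cb814) (nat_lit 1794))
 (.leaf (nat_lit 0x3cd57ccb814) (nat_lit 1795))
)) (.node (nat_lit 0x3ce410cb013) (.node (nat_lit 0x3ce19ccb013) (.leaf (nat_lit 0x3ce09ccb013) (nat_lit 1537))
 (.leaf (nat_lit 0x3ce19ccb013) (nat_lit 1537))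
) (.node (nat_lit 0x3cf584cb013) (.leaf (nat_lit 0x3ce410cb013) (nat_lit 1792))
 (.leaf (nat_lit 0x3cf584cb013) (nat_lit 1793))
)))) (.node (nat_lit 0x3f813d0a2f5) (.node (nat_lit 0x3e21a935855) (.node (nat_lit 0x3e0b0d35057) (.node (nat_lit 0x3e03d135057) (.leaf (nat_lit 0x3e019535057) (nat_lit 1536))
 (.leaf (nat_lit 0x3e03d135057) (nat_lit 2050))
) (.node (nat_lit 0x3e12a135057) (.leaf (nat_lit 0x3e0b0d35057) (nat_lit 1792))
 (.leaf (nat_lit 0x3e12a135057) (nat_lit 1795))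
)) (.node (nat_lit 0x3e2b0935855) (.node (nat_lit 0x3e23d535855) (.leaf (nat_lit 0x3e21a935855) (nat_lit 1537))
 (.leaf (nat_lit 0x3e23d535855) (nat_lit 2050))
) (.node (nat_lit 0x3e329935855) (.leaf (nat_lit 0x3e2b0935855) (nat_lit 1795))
 (.leaf (nat_lit 0x3e329935855) (nat_lit 1283))
))) (.node (nat_lit 0x3fa145092f4) (.node (nat_lit 0x3f8f350a2f5) (.node (nat_lit 0x3f83f50a2f5) (.leaf (nat_lit 0x3f813d0a2f5) (nat_lit 1539))
 (.leaf (nat_lit 0x3f83f50a2f5) (nat_lit 1539))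
) (.node (nat_lit 0x3f95c10a2f5) (.leaf (nat_lit 0x3f8f350a2f5) (nat_lit 1281))
 (.leaf (nat_lit 0x3f95c10a2f5) (nat_lit 1792))
)) (.node (nat_lit 0x3faf3d092f4) (.node (nat_lit 0x3fa3f1092f4) (.leaf (nat_lit 0x3fa145092f4) (nat_lit 1027))
 (.leaf (nat_lit 0x3fa3f1092f4) (nat_lit 1539))
) (.node (nat_lit 0x3fb5b9092f4) (.leaf (nat_lit 0x3faf3d092f4) (nat_lit 1794))
 (.leaf (nat_lit 0x3fb5b9092f4) (nat_lit 1793))
)))))) (.node (nat_lit 0x44846dc78fc) (.node (nat_lit 0x4242941824f) (.node (nat_lit 0x404020e99dc) (.node (nat_lit 0x402004eb9de) (.node (nat_lit 0x4005b4e91da) (.node (nat_lit 0x4003d8e91da) (.leaf (nat_lit 0x40001ce91da) (nat_lit 1026))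
 (.leaf (nat_lit 0x4003d8e91da) (nat_lit 1792))
) (.node (nat_lit 0x400cc0e91da) (.leaf (nat_lit 0x4005b4e91da) (nat_lit 1026))
 (.leaf (nat_lit 0x400cc0e91da) (nat_lit 1283))
)) (.node (nat_lit 0x4025aceb9de) (.node (nat_lit 0x40202ceb9de) (.leaf (nat_lit 0x402004eb9de) (nat_lit 1538))
 (.leaf (nat_lit 0x40202ceb9de) (nat_lit 1283))
) (.node (nat_lit 0x4031c4eb9de) (.leaf (nat_lit 0x4025aceb9de) (nat_lit 1538))
 (.leaf (nat_lit 0x4031c4eb9de) (nat_lit 1281))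
))) (.node (nat_lit 0x406008eb1dd) (.node (nat_lit 0x4045b0e99dc) (.node (nat_lit 0x4043cce99dc) (.leaf (nat_lit 0x404020e99dc) (nat_lit 1538))
 (.leaf (nat_lit 0x4043cce99dc) (nat_lit 1281))
) (.node (nat_lit 0x404cc4e99dc) (.leaf (nat_lit 0x4045b0e99dc) (nat_lit 1538))
 (.leaf (nat_lit 0x404cc4e99dc) (nat_lit 1281))
)) (.node (nat_lit 0x406598eb1dd) (.node (nat_lit 0x406024eb1dd) (.leaf (nat_lit 0x406008eb1dd) (nat_lit 2050))
 (.leaf (nat_lit 0x406024eb1dd) (nat_lit 1793))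
) (.node (nat_lit 0x4071c0eb1dd) (.leaf (nat_lit 0x406598eb1dd) (nat_lit 1026))
 (.leaf (nat_lit 0x4071c0eb1dd) (nat_lit 1793))
)))) (.node (nat_lit 0x43a1943b047) (.node (nat_lit 0x42829817a4d) (.node (nat_lit 0x4245801824f) (.node (nat_lit 0x42442c1824f) (.leaf (nat_lit 0x4242941824f) (nat_lit 2048))
 (.leaf (nat_lit 0x42442c1824f) (nat_lit 1283))
) (.node (nat_lit 0x424a501824f) (.leaf (nat_lit 0x4245801824f) (nat_lit 1793))
 (.leaf (nat_lit 0x424a501824f) (nat_lit 1536))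
)) (.node (nat_lit 0x42858417a4d) (.node (nat_lit 0x42843417a4d) (.leaf (nat_lit 0x42829817a4d) (nat_lit 1537))
 (.leaf (nat_lit 0x42843417a4d) (nat_lit 771))
) (.node (nat_lit 0x428a5417a4d) (.leaf (nat_lit 0x42858417a4d) (nat_lit 1281))
 (.leaf (nat_lit 0x428a5417a4d) (nat_lit 1537))
))) (.node (nat_lit 0x4421a83a845) (.node (nat_lit 0x43ab0c3b047) (.node (nat_lit 0x43a3d03b047) (.leaf (nat_lit 0x43a1943b047) (nat_lit 1793))
 (.leaf (nat_lit 0x43a3d03b047) (nat_lit 1281))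
) (.node (nat_lit 0x43b2a03b047) (.leaf (nat_lit 0x43ab0c3b047) (nat_lit 1538))
 (.leaf (nat_lit 0x43b2a03b047) (nat_lit 1026))
)) (.node (nat_lit 0x442b083a845) (.node (nat_lit 0x4423d43a845) (.leaf (nat_lit 0x4421a83a845) (nat_lit 1792))
 (.leaf (nat_lit 0x4423d43a845) (nat_lit 1793))
) (.node (nat_lit 0x4432983a845) (.leaf (nat_lit 0x442b083a845) (nat_lit 1537))
 (.leaf (nat_lit 0x4432983a845) (nat_lit 1539))
))))) (.node (nat_lit 0x45291a23902) (.node (nat_lit 0x44e461c70fd) (.node (nat_lit 0x44a944b7ca7) (.node (nat_lit 0x448bd5c78fc) (.node (nat_lit 0x4485d1c78fc) (.leaf (nat_lit 0x44846dc78fc) (nat_lit 1539))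
 (.leaf (nat_lit 0x4485d1c78fc) (nat_lit 1792))
) (.node (nat_lit 0x448fd5c78fc) (.leaf (nat_lit 0x448bd5c78fc) (nat_lit 1539))
 (.leaf (nat_lit 0x448fd5c78fc) (nat_lit 1283))
)) (.node (nat_lit 0x44aaa8b7ca7) (.node (nat_lit 0x44aa58b7ca7) (.leaf (nat_lit 0x44a944b7ca7) (nat_lit 1539))
 (.leaf (nat_lit 0x44aa58b7ca7) (nat_lit 1281))
) (.node (nat_lit 0x44ac44b7ca7) (.leaf (nat_lit 0x44aaa8b7ca7) (nat_lit 1538))
 (.leaf (nat_lit 0x44ac44b7ca7) (nat_lit 1792))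
))) (.node (nat_lit 0x45091e23103) (.node (nat_lit 0x44ebd1c70fd) (.node (nat_lit 0x44e5e9c70fd) (.leaf (nat_lit 0x44e461c70fd) (nat_lit 1536))
 (.leaf (nat_lit 0x44e5e9c70fd) (nat_lit 768))
) (.node (nat_lit 0x44efd1c70fd) (.leaf (nat_lit 0x44ebd1c70fd) (nat_lit 2051))
 (.leaf (nat_lit 0x44efd1c70fd) (nat_lit 771))
)) (.node (nat_lit 0x45151223103) (.node (nat_lit 0x45096223103) (.leaf (nat_lit 0x45091e23103) (nat_lit 1793))
 (.leaf (nat_lit 0x45096223103) (nat_lit 1281))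
) (.node (nat_lit 0x45151e23103) (.leaf (nat_lit 0x45151223103) (nat_lit 1538))
 (.leaf (nat_lit 0x45151e23103) (nat_lit 1538))
)))) (.node (nat_lit 0x45c2dc21a33) (.node (nat_lit 0x454954b74ab) (.node (nat_lit 0x45351623902) (.node (nat_lit 0x45294a23902) (.leaf (nat_lit 0x45291a23902) (nat_lit 1795))
 (.leaf (nat_lit 0x45294a23902) (nat_lit 1795))
) (.node (nat_lit 0x45351a23902) (.leaf (nat_lit 0x45351623902) (nat_lit 1537))
 (.leaf (nat_lit 0x45351a23902) (nat_lit 1538))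
)) (.node (nat_lit 0x454aacb74ab) (.node (nat_lit 0x454a64b74ab) (.leaf (nat_lit 0x454954b74ab) (nat_lit 1539))
 (.leaf (nat_lit 0x454a64b74ab) (nat_lit 1795))
) (.node (nat_lit 0x454c28b74ab) (.leaf (nat_lit 0x454aacb74ab) (nat_lit 1538))
 (.leaf (nat_lit 0x454c28b74ab) (nat_lit 1281))
))) (.node (nat_lit 0x4602e022232) (.node (nat_lit 0x45cbdc21a33) (.node (nat_lit 0x45c47c21a33) (.leaf (nat_lit 0x45c2dc21a33) (nat_lit 1283))
 (.leaf (nat_lit 0x45c47c21a33) (nat_lit 1793))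
) (.node (nat_lit 0x45d42021a33) (.leaf (nat_lit 0x45cbdc21a33) (nat_lit 1538))
 (.leaf (nat_lit 0x45d42021a33) (nat_lit 1538))
)) (.node (nat_lit 0x460bd822232) (.node (nat_lit 0x46048022232) (.leaf (nat_lit 0x4602e022232) (nat_lit 1283))
 (.leaf (nat_lit 0x46048022232) (nat_lit 1280))
) (.node (nat_lit 0x46142422232) (.leaf (nat_lit 0x460bd822232) (nat_lit 1026))
 (.leaf (nat_lit 0x46142422232) (nat_lit 1538))
))))))) (.node (nat_lit 0x49411c4e0f5) (.node (nat_lit 0x4800c92abc4) (.node (nat_lit 0x4742ee4f47a) (.node (nat_lit 0x46c398d3ac0) (.node (nat_lit 0x46642949a2e) (.node (nat_lit 0x46510d3f230) (.node (nat_lit 0x464fa13f230) (.leaf (nat_lit 0x4644253f230) (nat_lit 1536))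
 (.leaf (nat_lit 0x464fa13f230) (nat_lit 1280))
) (.node (nat_lit 0x4651213f230) (.leaf (nat_lit 0x46510d3f230) (nat_lit 1282))
 (.leaf (nat_lit 0x4651213f230) (nat_lit 2049))
)) (.node (nat_lit 0x46710949a2e) (.node (nat_lit 0x466fa549a2e) (.leaf (nat_lit 0x46642949a2e) (nat_lit 1537))
 (.leaf (nat_lit 0x466fa549a2e) (nat_lit 1282))
) (.node (nat_lit 0x46712549a2e) (.leaf (nat_lit 0x46710949a2e) (nat_lit 1282))
 (.leaf (nat_lit 0x46712549a2e) (nat_lit 2051))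
))) (.node (nat_lit 0x46e394d32bf) (.node (nat_lit 0x46c9c4d3ac0) (.node (nat_lit 0x46c6c0d3ac0) (.leaf (nat_lit 0x46c398d3ac0) (nat_lit 1792))
 (.leaf (nat_lit 0x46c6c0d3ac0) (nat_lit 1795))
) (.node (nat_lit 0x46d208d3ac0) (.leaf (nat_lit 0x46c9c4d3ac0) (nat_lit 1026))
 (.leaf (nat_lit 0x46d208d3ac0) (nat_lit 1538))
)) (.node (nat_lit 0x46e9c8d32bf) (.node (nat_lit 0x46e6c4d32bf) (.leaf (nat_lit 0x46e394d32bf) (nat_lit 1793))
 (.leaf (nat_lit 0x46e6c4d32bf) (nat_lit 1792))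
) (.node (nat_lit 0x46f20cd32bf) (.leaf (nat_lit 0x46e9c8d32bf) (nat_lit 1026))
 (.leaf (nat_lit 0x46f20cd32bf) (nat_lit 1536))
)))) (.node (nat_lit 0x47a8ce212f6) (.node (nat_lit 0x4762ea4e479) (.node (nat_lit 0x4746be4f47a) (.node (nat_lit 0x4743fa4f47a) (.leaf (nat_lit 0x4742ee4f47a) (nat_lit 1283))
 (.leaf (nat_lit 0x4743fa4f47a) (nat_lit 1537))
) (.node (nat_lit 0x47505e4f47a) (.leaf (nat_lit 0x4746be4f47a) (nat_lit 1792))
 (.leaf (nat_lit 0x47505e4f47a) (nat_lit 1537))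
)) (.node (nat_lit 0x4766ba4e479) (.node (nat_lit 0x4763e24e479) (.leaf (nat_lit 0x4762ea4e479) (nat_lit 1794))
 (.leaf (nat_lit 0x4763e24e479) (nat_lit 1538))
) (.node (nat_lit 0x47705a4e479) (.leaf (nat_lit 0x4766ba4e479) (nat_lit 1795))
 (.leaf (nat_lit 0x47705a4e479) (nat_lit 1539))
))) (.node (nat_lit 0x47e8ca21af7) (.node (nat_lit 0x47b03a212f6) (.node (nat_lit 0x47ab52212f6) (.leaf (nat_lit 0x47a8ce212f6) (nat_lit 1538))
 (.leaf (nat_lit 0x47ab52212f6) (nat_lit 1538))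
) (.node (nat_lit 0x47b5c6212f6) (.leaf (nat_lit 0x47b03a212f6) (nat_lit 1792))
 (.leaf (nat_lit 0x47b5c6212f6) (nat_lit 1280))
)) (.node (nat_lit 0x47f03e21af7) (.node (nat_lit 0x47eb5621af7) (.leaf (nat_lit 0x47e8ca21af7) (nat_lit 1537))
 (.leaf (nat_lit 0x47eb5621af7) (nat_lit 1537))
) (.node (nat_lit 0x47f5be21af7) (.leaf (nat_lit 0x47f03e21af7) (nat_lit 1283))
 (.leaf (nat_lit 0x47f5be21af7) (nat_lit 1282))
))))) (.node (nat_lit 0x48c2cd7b442) (.node (nat_lit 0x4882663d49e) (.node (nat_lit 0x4820c528bc3) (.node (nat_lit 0x4808a92abc4) (.node (nat_lit 0x4802712abc4) (.leaf (nat_lit 0x4800c92abc4) (nat_lit 1795))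
 (.leaf (nat_lit 0x4802712abc4) (nat_lit 1537))
) (.node (nat_lit 0x480ad52abc4) (.leaf (nat_lit 0x4808a92abc4) (nat_lit 1793))
 (.leaf (nat_lit 0x480ad52abc4) (nat_lit 1538))
)) (.node (nat_lit 0x48289528bc3) (.node (nat_lit 0x48226928bc3) (.leaf (nat_lit 0x4820c528bc3) (nat_lit 1283))
 (.leaf (nat_lit 0x48226928bc3) (nat_lit 1537))
) (.node (nat_lit 0x482add28bc3) (.leaf (nat_lit 0x48289528bc3) (nat_lit 1795))
 (.leaf (nat_lit 0x482add28bc3) (nat_lit 1538))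
))) (.node (nat_lit 0x48a26e3cc9c) (.node (nat_lit 0x488bb23d49e) (.node (nat_lit 0x488ad23d49e) (.leaf (nat_lit 0x4882663d49e) (nat_lit 1537))
 (.leaf (nat_lit 0x488ad23d49e) (nat_lit 1793))
) (.node (nat_lit 0x488f623d49e) (.leaf (nat_lit 0x488bb23d49e) (nat_lit 1283))
 (.leaf (nat_lit 0x488f623d49e) (nat_lit 1537))
)) (.node (nat_lit 0x48abb63cc9c) (.node (nat_lit 0x48aada3cc9c) (.leaf (nat_lit 0x48a26e3cc9c) (nat_lit 1537))
 (.leaf (nat_lit 0x48aada3cc9c) (nat_lit 1795))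
) (.node (nat_lit 0x48af663cc9c) (.leaf (nat_lit 0x48abb63cc9c) (nat_lit 1794))
 (.leaf (nat_lit 0x48af663cc9c) (nat_lit 1538))
)))) (.node (nat_lit 0x4901144d0f4) (.node (nat_lit 0x48e2d17bc43) (.node (nat_lit 0x48cd797b442) (.node (nat_lit 0x48c8c17b442) (.leaf (nat_lit 0x48c2cd7b442) (nat_lit 2050))
 (.leaf (nat_lit 0x48c8c17b442) (nat_lit 770))
) (.node (nat_lit 0x48d11d7b442) (.leaf (nat_lit 0x48cd797b442) (nat_lit 1280))
 (.leaf (nat_lit 0x48d11d7b442) (nat_lit 1539))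
)) (.node (nat_lit 0x48ed7d7bc43) (.node (nat_lit 0x48e8b97bc43) (.leaf (nat_lit 0x48e2d17bc43) (nat_lit 1537))
 (.leaf (nat_lit 0x48e8b97bc43) (nat_lit 1282))
) (.node (nat_lit 0x48f1197bc43) (.leaf (nat_lit 0x48ed7d7bc43) (nat_lit 1793))
 (.leaf (nat_lit 0x48f1197bc43) (nat_lit 1539))
))) (.node (nat_lit 0x49280998905) (.node (nat_lit 0x4909044d0f4) (.node (nat_lit 0x4901544d0f4) (.leaf (nat_lit 0x4901144d0f4) (nat_lit 1793))
 (.leaf (nat_lit 0x4901544d0f4) (nat_lit 1539))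
) (.node (nat_lit 0x490c744d0f4) (.leaf (nat_lit 0x4909044d0f4) (nat_lit 769))
 (.leaf (nat_lit 0x490c744d0f4) (nat_lit 1538))
)) (.node (nat_lit 0x492e4d98905) (.node (nat_lit 0x492d8d98905) (.leaf (nat_lit 0x49280998905) (nat_lit 1539))
 (.leaf (nat_lit 0x492d8d98905) (nat_lit 1282))
) (.node (nat_lit 0x49352198905) (.leaf (nat_lit 0x492e4d98905) (nat_lit 1794))
 (.leaf (nat_lit 0x49352198905) (nat_lit 1539))
)))))) (.node (nat_lit 0x4a86d641d0e) (.node (nat_lit 0x4a06e24150f) (.node (nat_lit 0x49a12d7aa14) (.node (nat_lit 0x49680198106) (.node (nat_lit 0x4949004e0f5) (.node (nat_lit 0x49415c4e0f5) (.leaf (nat_lit 0x49411c4e0f5) (nat_lit 1793))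
 (.leaf (nat_lit 0x49415c4e0f5) (nat_lit 1539))
) (.node (nat_lit 0x494c7c4e0f5) (.leaf (nat_lit 0x4949004e0f5) (nat_lit 1280))
 (.leaf (nat_lit 0x494c7c4e0f5) (nat_lit 1537))
)) (.node (nat_lit 0x496e4598106) (.node (nat_lit 0x496d9598106) (.leaf (nat_lit 0x49680198106) (nat_lit 1539))
 (.leaf (nat_lit 0x496d9598106) (nat_lit 256))
) (.node (nat_lit 0x49752998106) (.leaf (nat_lit 0x496e4598106) (nat_lit 770))
 (.leaf (nat_lit 0x49752998106) (nat_lit 2048))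
))) (.node (nat_lit 0x49e1317a212) (.node (nat_lit 0x49aded7aa14) (.node (nat_lit 0x49a8917aa14) (.leaf (nat_lit 0x49a12d7aa14) (nat_lit 1537))
 (.leaf (nat_lit 0x49a8917aa14) (nat_lit 1793))
) (.node (nat_lit 0x49af857aa14) (.leaf (nat_lit 0x49aded7aa14) (nat_lit 1536))
 (.leaf (nat_lit 0x49af857aa14) (nat_lit 1794))
)) (.node (nat_lit 0x49ede97a212) (.node (nat_lit 0x49e89d7a212) (.leaf (nat_lit 0x49e1317a212) (nat_lit 1024))
 (.leaf (nat_lit 0x49e89d7a212) (nat_lit 1792))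
) (.node (nat_lit 0x49ef957a212) (.leaf (nat_lit 0x49ede97a212) (nat_lit 1538))
 (.leaf (nat_lit 0x49ef957a212) (nat_lit 1281))
)))) (.node (nat_lit 0x4a42ce84be9) (.node (nat_lit 0x4a203022875) (.node (nat_lit 0x4a08da4150f) (.node (nat_lit 0x4a072e4150f) (.leaf (nat_lit 0x4a06e24150f) (nat_lit 1538))
 (.leaf (nat_lit 0x4a072e4150f) (nat_lit 1793))
) (.node (nat_lit 0x4a13064150f) (.leaf (nat_lit 0x4a08da4150f) (nat_lit 1795))
 (.leaf (nat_lit 0x4a13064150f) (nat_lit 1027))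
)) (.node (nat_lit 0x4a292022875) (.node (nat_lit 0x4a25bc22875) (.leaf (nat_lit 0x4a203022875) (nat_lit 1794))
 (.leaf (nat_lit 0x4a25bc22875) (nat_lit 1280))
) (.node (nat_lit 0x4a31bc22875) (.leaf (nat_lit 0x4a292022875) (nat_lit 1537))
 (.leaf (nat_lit 0x4a31bc22875) (nat_lit 2051))
))) (.node (nat_lit 0x4a61ad58020) (.node (nat_lit 0x4a4d7a84be9) (.node (nat_lit 0x4a48c284be9) (.leaf (nat_lit 0x4a42ce84be9) (nat_lit 2051))
 (.leaf (nat_lit 0x4a48c284be9) (nat_lit 1281))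
) (.node (nat_lit 0x4a511e84be9) (.leaf (nat_lit 0x4a4d7a84be9) (nat_lit 1282))
 (.leaf (nat_lit 0x4a511e84be9) (nat_lit 1536))
)) (.node (nat_lit 0x4a6e8558020) (.node (nat_lit 0x4a6a9958020) (.leaf (nat_lit 0x4a61ad58020) (nat_lit 2051))
 (.leaf (nat_lit 0x4a6a9958020) (nat_lit 1794))
) (.node (nat_lit 0x4a749158020) (.leaf (nat_lit 0x4a6e8558020) (nat_lit 1536))
 (.leaf (nat_lit 0x4a749158020) (nat_lit 1282))
))))) (.node (nat_lit 0x4bc27ddf472) (.node (nat_lit 0x4b02d2843e8) (.node (nat_lit 0x4aa03423876) (.node (nat_lit 0x4a88de41d0e) (.node (nat_lit 0x4a872a41d0e) (.leaf (nat_lit 0x4a86d641d0e) (nat_lit 1024))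
 (.leaf (nat_lit 0x4a872a41d0e) (nat_lit 1793))
) (.node (nat_lit 0x4a930e41d0e) (.leaf (nat_lit 0x4a88de41d0e) (nat_lit 1792))
 (.leaf (nat_lit 0x4a930e41d0e) (nat_lit 1538))
)) (.node (nat_lit 0x4aa92823876) (.node (nat_lit 0x4aa5b823876) (.leaf (nat_lit 0x4aa03423876) (nat_lit 1281))
 (.leaf (nat_lit 0x4aa5b823876) (nat_lit 769))
) (.node (nat_lit 0x4ab1b823876) (.leaf (nat_lit 0x4aa92823876) (nat_lit 1539))
 (.leaf (nat_lit 0x4ab1b823876) (nat_lit 1538))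
))) (.node (nat_lit 0x4b61b15d81f) (.node (nat_lit 0x4b0d7e843e8) (.node (nat_lit 0x4b08ba843e8) (.leaf (nat_lit 0x4b02d2843e8) (nat_lit 1538))
 (.leaf (nat_lit 0x4b08ba843e8) (nat_lit 1792))
) (.node (nat_lit 0x4b111a843e8) (.leaf (nat_lit 0x4b0d7e843e8) (nat_lit 1282))
 (.leaf (nat_lit 0x4b111a843e8) (nat_lit 1538))
)) (.node (nat_lit 0x4b6e815d81f) (.node (nat_lit 0x4b6a9d5d81f) (.leaf (nat_lit 0x4b61b15d81f) (nat_lit 1537))
 (.leaf (nat_lit 0x4b6a9d5d81f) (nat_lit 1792))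
) (.node (nat_lit 0x4b74955d81f) (.leaf (nat_lit 0x4b6e815d81f) (nat_lit 2049))
 (.leaf (nat_lit 0x4b74955d81f) (nat_lit 1792))
)))) (.node (nat_lit 0x4c02f1e0cc9) (.node (nat_lit 0x4be281e0473) (.node (nat_lit 0x4bcf55df472) (.node (nat_lit 0x4bc4d5df472) (.leaf (nat_lit 0x4bc27ddf472) (nat_lit 1794))
 (.leaf (nat_lit 0x4bc4d5df472) (nat_lit 1793))
) (.node (nat_lit 0x4bd235df472) (.leaf (nat_lit 0x4bcf55df472) (nat_lit 1024))
 (.leaf (nat_lit 0x4bd235df472) (nat_lit 1538))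
)) (.node (nat_lit 0x4bef51e0473) (.node (nat_lit 0x4be4b9e0473) (.leaf (nat_lit 0x4be281e0473) (nat_lit 1281))
 (.leaf (nat_lit 0x4be4b9e0473) (nat_lit 1792))
) (.node (nat_lit 0x4bf231e0473) (.leaf (nat_lit 0x4bef51e0473) (nat_lit 1538))
 (.leaf (nat_lit 0x4bf231e0473) (nat_lit 1538))
))) (.node (nat_lit 0x4c42e5dfcc8) (.node (nat_lit 0x4c0e79e0cc9) (.node (nat_lit 0x4c0531e0cc9) (.leaf (nat_lit 0x4c02f1e0cc9) (nat_lit 1283))
 (.leaf (nat_lit 0x4c0531e0cc9) (nat_lit 1281))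
) (.node (nat_lit 0x4c1445e0cc9) (.leaf (nat_lit 0x4c0e79e0cc9) (nat_lit 1536))
 (.leaf (nat_lit 0x4c1445e0cc9) (nat_lit 2050))
)) (.node (nat_lit 0x4c4e75dfcc8) (.node (nat_lit 0x4c4535dfcc8) (.leaf (nat_lit 0x4c42e5dfcc8) (nat_lit 1281))
 (.leaf (nat_lit 0x4c4535dfcc8) (nat_lit 1281))
) (.node (nat_lit 0x4c5441dfcc8) (.leaf (nat_lit 0x4c4e75dfcc8) (nat_lit 1538))
 (.leaf (nat_lit 0x4c5441dfcc8) (nat_lit 1538))
)))))))))) (.node (nat_lit 0x7b609999548) (.node (nat_lit 0x6101ea6dd11) (.node (nat_lit 0x56026563428) (.node (nat_lit 0x52c0318e837) (.node (nat_lit 0x4e86d4d8c27) (.node (nat_lit 0x4e01e94b94c) (.node (nat_lit 0x4dc1e54e14d) (.node (nat_lit 0x4d60f59f311) (.node (nat_lit 0x4d43fd9e30a) (.node (nat_lit 0x4d41ed9e30a) (.leaf (nat_lit 0x4d40f99e30a) (nat_lit 1281))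
 (.leaf (nat_lit 0x4d41ed9e30a) (nat_lit 1538))
) (.node (nat_lit 0x4d529d9e30a) (.leaf (nat_lit 0x4d43fd9e30a) (nat_lit 2051))
 (.leaf (nat_lit 0x4d529d9e30a) (nat_lit 1793))
)) (.node (nat_lit 0x4d64019f311) (.node (nat_lit 0x4d61f19f311) (.leaf (nat_lit 0x4d60f59f311) (nat_lit 1280))
 (.leaf (nat_lit 0x4d61f19f311) (nat_lit 2048))
) (.node (nat_lit 0x4d72ad9f311) (.leaf (nat_lit 0x4d64019f311) (nat_lit 2049))
 (.leaf (nat_lit 0x4d72ad9f311) (nat_lit 1793))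
))) (.node (nat_lit 0x4de08d843f3) (.node (nat_lit 0x4dd0f14e14d) (.node (nat_lit 0x4dc6e54e14d) (.leaf (nat_lit 0x4dc1e54e14d) (nat_lit 1027))
 (.leaf (nat_lit 0x4dc6e54e14d) (nat_lit 1795))
) (.node (nat_lit 0x4dd3254e14d) (.leaf (nat_lit 0x4dd0f14e14d) (nat_lit 1539))
 (.leaf (nat_lit 0x4dd3254e14d) (nat_lit 1793))
)) (.node (nat_lit 0x4dec9d843f3) (.node (nat_lit 0x4de68d843f3) (.leaf (nat_lit 0x4de08d843f3) (nat_lit 1026))
 (.leaf (nat_lit 0x4de68d843f3) (nat_lit 1792))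
) (.node (nat_lit 0x4ded0d843f3) (.leaf (nat_lit 0x4dec9d843f3) (nat_lit 1536))
 (.leaf (nat_lit 0x4ded0d843f3) (nat_lit 1792))
)))) (.node (nat_lit 0x4e41c92a0a0) (.node (nat_lit 0x4e21cd2809f) (.node (nat_lit 0x4e10f54b94c) (.node (nat_lit 0x4e06e94b94c) (.leaf (nat_lit 0x4e01e94b94c) (nat_lit 1538))
 (.leaf (nat_lit 0x4e06e94b94c) (nat_lit 1793))
) (.node (nat_lit 0x4e13214b94c) (.leaf (nat_lit 0x4e10f54b94c) (nat_lit 1025))
 (.leaf (nat_lit 0x4e13214b94c) (nat_lit 1793))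
)) (.node (nat_lit 0x4e302d2809f) (.node (nat_lit 0x4e269d2809f) (.leaf (nat_lit 0x4e21cd2809f) (nat_lit 2051))
 (.leaf (nat_lit 0x4e269d2809f) (nat_lit 1794))
) (.node (nat_lit 0x4e31cd2809f) (.leaf (nat_lit 0x4e302d2809f) (nat_lit 2049))
 (.leaf (nat_lit 0x4e31cd2809f) (nat_lit 1795))
))) (.node (nat_lit 0x4e609185bf2) (.node (nat_lit 0x4e50352a0a0) (.node (nat_lit 0x4e46992a0a0) (.leaf (nat_lit 0x4e41c92a0a0) (nat_lit 1536))
 (.leaf (nat_lit 0x4e46992a0a0) (nat_lit 1792))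
) (.node (nat_lit 0x4e51c92a0a0) (.leaf (nat_lit 0x4e50352a0a0) (nat_lit 2049))
 (.leaf (nat_lit 0x4e51c92a0a0) (nat_lit 1282))
)) (.node (nat_lit 0x4e6ca185bf2) (.node (nat_lit 0x4e669585bf2) (.leaf (nat_lit 0x4e609185bf2) (nat_lit 1024))
 (.leaf (nat_lit 0x4e669585bf2) (nat_lit 1793))
) (.node (nat_lit 0x4e6d1585bf2) (.leaf (nat_lit 0x4e6ca185bf2) (nat_lit 1025))
 (.leaf (nat_lit 0x4e6d1585bf2) (nat_lit 1281))
))))) (.node (nat_lit 0x51a2f060079) (.node (nat_lit 0x4fc39d6a94a) (.node (nat_lit 0x4ea6e0d8426) (.node (nat_lit 0x4e88dcd8c27) (.node (nat_lit 0x4e8728d8c27) (.leaf (nat_lit 0x4e86d4d8c27) (nat_lit 1282))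
 (.leaf (nat_lit 0x4e8728d8c27) (nat_lit 1537))
) (.node (nat_lit 0x4e930cd8c27) (.leaf (nat_lit 0x4e88dcd8c27) (nat_lit 2051))
 (.leaf (nat_lit 0x4e930cd8c27) (nat_lit 1281))
)) (.node (nat_lit 0x4ea8d8d8426) (.node (nat_lit 0x4ea72cd8426) (.leaf (nat_lit 0x4ea6e0d8426) (nat_lit 1282))
 (.leaf (nat_lit 0x4ea72cd8426) (nat_lit 1536))
) (.node (nat_lit 0x4eb304d8426) (.leaf (nat_lit 0x4ea8d8d8426) (nat_lit 1537))
 (.leaf (nat_lit 0x4eb304d8426) (nat_lit 1793))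
))) (.node (nat_lit 0x5162e46107a) (.node (nat_lit 0x4fca916a94a) (.node (nat_lit 0x4fc8fd6a94a) (.leaf (nat_lit 0x4fc39d6a94a) (nat_lit 1794))
 (.leaf (nat_lit 0x4fc8fd6a94a) (nat_lit 1795))
) (.node (nat_lit 0x4fd1356a94a) (.leaf (nat_lit 0x4fca916a94a) (nat_lit 1538))
 (.leaf (nat_lit 0x4fd1356a94a) (nat_lit 1538))
)) (.node (nat_lit 0x516e746107a) (.node (nat_lit 0x5165346107a) (.leaf (nat_lit 0x5162e46107a) (nat_lit 513))
 (.leaf (nat_lit 0x5165346107a) (nat_lit 1025))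
) (.node (nat_lit 0x5174406107a) (.leaf (nat_lit 0x516e746107a) (nat_lit 1795))
 (.leaf (nat_lit 0x5174406107a) (nat_lit 1795))
)))) (.node (nat_lit 0x5280c07e38f) (.node (nat_lit 0x5263b16a149) (.node (nat_lit 0x51ae7860079) (.node (nat_lit 0x51a53060079) (.leaf (nat_lit 0x51a2f060079) (nat_lit 1027))
 (.leaf (nat_lit 0x51a53060079) (nat_lit 1539))
) (.node (nat_lit 0x51b44460079) (.leaf (nat_lit 0x51ae7860079) (nat_lit 1280))
 (.leaf (nat_lit 0x51b44460079) (nat_lit 1792))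
)) (.node (nat_lit 0x526a8d6a149) (.node (nat_lit 0x5268f56a149) (.leaf (nat_lit 0x5263b16a149) (nat_lit 1793))
 (.leaf (nat_lit 0x5268f56a149) (nat_lit 1792))
) (.node (nat_lit 0x5271316a149) (.leaf (nat_lit 0x526a8d6a149) (nat_lit 1536))
 (.leaf (nat_lit 0x5271316a149) (nat_lit 1538))
))) (.node (nat_lit 0x52a0bc7eb8e) (.node (nat_lit 0x528fa87e38f) (.node (nat_lit 0x5287f47e38f) (.leaf (nat_lit 0x5280c07e38f) (nat_lit 769))
 (.leaf (nat_lit 0x5287f47e38f) (nat_lit 1280))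
) (.node (nat_lit 0x52912c7e38f) (.leaf (nat_lit 0x528fa87e38f) (nat_lit 1537))
 (.leaf (nat_lit 0x52912c7e38f) (nat_lit 2051))
)) (.node (nat_lit 0x52afac7eb8e) (.node (nat_lit 0x52a7f07eb8e) (.leaf (nat_lit 0x52a0bc7eb8e) (nat_lit 1283))
 (.leaf (nat_lit 0x52a7f07eb8e) (nat_lit 1283))
) (.node (nat_lit 0x52b1287eb8e) (.leaf (nat_lit 0x52afac7eb8e) (nat_lit 1539))
 (.leaf (nat_lit 0x52b1287eb8e) (nat_lit 1539))
)))))) (.node (nat_lit 0x5488c88491f) (.node (nat_lit 0x5380906e3d6) (.node (nat_lit 0x5301ad22138) (.node (nat_lit 0x52e08c70bd7) (.node (nat_lit 0x52c9218e837) (.node (nat_lit 0x52c5bd8e837) (.leaf (nat_lit 0x52c0318e837) (nat_lit 1538))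
 (.leaf (nat_lit 0x52c5bd8e837) (nat_lit 1539))
) (.node (nat_lit 0x52d1bd8e837) (.leaf (nat_lit 0x52c9218e837) (nat_lit 1280))
 (.leaf (nat_lit 0x52d1bd8e837) (nat_lit 1795))
)) (.node (nat_lit 0x52ec9c70bd7) (.node (nat_lit 0x52e68c70bd7) (.leaf (nat_lit 0x52e08c70bd7) (nat_lit 1795))
 (.leaf (nat_lit 0x52e68c70bd7) (nat_lit 2051))
) (.node (nat_lit 0x52ed0c70bd7) (.leaf (nat_lit 0x52ec9c70bd7) (nat_lit 1283))
 (.leaf (nat_lit 0x52ed0c70bd7) (nat_lit 2050))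
))) (.node (nat_lit 0x5320358f836) (.node (nat_lit 0x530e8522138) (.node (nat_lit 0x530a9922138) (.leaf (nat_lit 0x5301ad22138) (nat_lit 1281))
 (.leaf (nat_lit 0x530a9922138) (nat_lit 1537))
) (.node (nat_lit 0x53149122138) (.leaf (nat_lit 0x530e8522138) (nat_lit 1793))
 (.leaf (nat_lit 0x53149122138) (nat_lit 1539))
)) (.node (nat_lit 0x5329298f836) (.node (nat_lit 0x5325b98f836) (.leaf (nat_lit 0x5320358f836) (nat_lit 1536))
 (.leaf (nat_lit 0x5325b98f836) (nat_lit 1538))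
) (.node (nat_lit 0x5331b98f836) (.leaf (nat_lit 0x5329298f836) (nat_lit 1795))
 (.leaf (nat_lit 0x5331b98f836) (nat_lit 1795))
)))) (.node (nat_lit 0x54280638ca9) (.node (nat_lit 0x53a1b122939) (.node (nat_lit 0x538ca06e3d6) (.node (nat_lit 0x5386946e3d6) (.leaf (nat_lit 0x5380906e3d6) (nat_lit 1281))
 (.leaf (nat_lit 0x5386946e3d6) (nat_lit 2049))
) (.node (nat_lit 0x538d146e3d6) (.leaf (nat_lit 0x538ca06e3d6) (nat_lit 1283))
 (.leaf (nat_lit 0x538d146e3d6) (nat_lit 2048))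
)) (.node (nat_lit 0x53ae8122939) (.node (nat_lit 0x53aa9d22939) (.leaf (nat_lit 0x53a1b122939) (nat_lit 1794))
 (.leaf (nat_lit 0x53aa9d22939) (nat_lit 1539))
) (.node (nat_lit 0x53b49522939) (.leaf (nat_lit 0x53ae8122939) (nat_lit 1793))
 (.leaf (nat_lit 0x53b49522939) (nat_lit 1027))
))) (.node (nat_lit 0x5468cc85120) (.node (nat_lit 0x542e4a38ca9) (.node (nat_lit 0x542d8a38ca9) (.leaf (nat_lit 0x54280638ca9) (nat_lit 1025))
 (.leaf (nat_lit 0x542d8a38ca9) (nat_lit 1794))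
) (.node (nat_lit 0x54352e38ca9) (.leaf (nat_lit 0x542e4a38ca9) (nat_lit 1795))
 (.leaf (nat_lit 0x54352e38ca9) (nat_lit 1536))
)) (.node (nat_lit 0x54703885120) (.node (nat_lit 0x546b5085120) (.leaf (nat_lit 0x5468cc85120) (nat_lit 1795))
 (.leaf (nat_lit 0x546b5085120) (nat_lit 1792))
) (.node (nat_lit 0x5475c485120) (.leaf (nat_lit 0x54703885120) (nat_lit 1026))
 (.leaf (nat_lit 0x5475c485120) (nat_lit 1539))
))))) (.node (nat_lit 0x55403120993) (.node (nat_lit 0x54c04c4c825) (.node (nat_lit 0x54a80e384aa) (.node (nat_lit 0x54903c8491f) (.node (nat_lit 0x548b548491f) (.leaf (nat_lit 0x5488c88491f) (nat_lit 1792))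
 (.leaf (nat_lit 0x548b548491f) (nat_lit 1793))
) (.node (nat_lit 0x5495bc8491f) (.leaf (nat_lit 0x54903c8491f) (nat_lit 1538))
 (.leaf (nat_lit 0x5495bc8491f) (nat_lit 1538))
)) (.node (nat_lit 0x54ae42384aa) (.node (nat_lit 0x54ad92384aa) (.leaf (nat_lit 0x54a80e384aa) (nat_lit 1027))
 (.leaf (nat_lit 0x54ad92384aa) (nat_lit 1793))
) (.node (nat_lit 0x54b526384aa) (.leaf (nat_lit 0x54ae42384aa) (nat_lit 1792))
 (.leaf (nat_lit 0x54b526384aa) (nat_lit 1539))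
))) (.node (nat_lit 0x54e0504d827) (.node (nat_lit 0x54cac04c825) (.node (nat_lit 0x54c9104c825) (.leaf (nat_lit 0x54c04c4c825) (nat_lit 1537))
 (.leaf (nat_lit 0x54c9104c825) (nat_lit 1795))
) (.node (nat_lit 0x54d2ec4c825) (.leaf (nat_lit 0x54cac04c825) (nat_lit 1539))
 (.leaf (nat_lit 0x54d2ec4c825) (nat_lit 1794))
)) (.node (nat_lit 0x54eaec4d827) (.node (nat_lit 0x54e9144d827) (.leaf (nat_lit 0x54e0504d827) (nat_lit 1536))
 (.leaf (nat_lit 0x54e9144d827) (nat_lit 1795))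
) (.node (nat_lit 0x54f2e44d827) (.leaf (nat_lit 0x54eaec4d827) (nat_lit 1536))
 (.leaf (nat_lit 0x54f2e44d827) (nat_lit 1283))
)))) (.node (nat_lit 0x55cd6eb039f) (.node (nat_lit 0x5560352018d) (.node (nat_lit 0x55492120993) (.node (nat_lit 0x5545bd20993) (.leaf (nat_lit 0x55403120993) (nat_lit 1281))
 (.leaf (nat_lit 0x5545bd20993) (nat_lit 1793))
) (.node (nat_lit 0x5551bd20993) (.leaf (nat_lit 0x55492120993) (nat_lit 1539))
 (.leaf (nat_lit 0x5551bd20993) (nat_lit 1538))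
)) (.node (nat_lit 0x5569292018d) (.node (nat_lit 0x5565b92018d) (.leaf (nat_lit 0x5560352018d) (nat_lit 1281))
 (.leaf (nat_lit 0x5565b92018d) (nat_lit 1282))
) (.node (nat_lit 0x5571b92018d) (.leaf (nat_lit 0x5569292018d) (nat_lit 1539))
 (.leaf (nat_lit 0x5571b92018d) (nat_lit 1539))
))) (.node (nat_lit 0x55ed6aaf39b) (.node (nat_lit 0x55cfb6b039f) (.node (nat_lit 0x55cddeb039f) (.leaf (nat_lit 0x55cd6eb039f) (nat_lit 1539))
 (.leaf (nat_lit 0x55cddeb039f) (nat_lit 1794))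
) (.node (nat_lit 0x55d242b039f) (.leaf (nat_lit 0x55cfb6b039f) (nat_lit 2048))
 (.leaf (nat_lit 0x55d242b039f) (nat_lit 1795))
)) (.node (nat_lit 0x55efb2af39b) (.node (nat_lit 0x55edceaf39b) (.leaf (nat_lit 0x55ed6aaf39b) (nat_lit 2050))
 (.leaf (nat_lit 0x55edceaf39b) (nat_lit 1283))
) (.node (nat_lit 0x55f23aaf39b) (.leaf (nat_lit 0x55efb2af39b) (nat_lit 2049))
 (.leaf (nat_lit 0x55f23aaf39b) (nat_lit 1281))
))))))) (.node (nat_lit 0x5a842972b5f) (.node (nat_lit 0x58021d2fa36) (.node (nat_lit 0x56c96dd00fe) (.node (nat_lit 0x56894dd08f8) (.node (nat_lit 0x56666882b31) (.node (nat_lit 0x560bb163428) (.node (nat_lit 0x560ad163428) (.leaf (nat_lit 0x56026563428) (nat_lit 1795))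
 (.leaf (nat_lit 0x560ad163428) (nat_lit 1539))
) (.node (nat_lit 0x560f6163428) (.leaf (nat_lit 0x560bb163428) (nat_lit 1539))
 (.leaf (nat_lit 0x560f6163428) (nat_lit 1794))
)) (.node (nat_lit 0x566f7482b31) (.node (nat_lit 0x56676882b31) (.leaf (nat_lit 0x56666882b31) (nat_lit 1539))
 (.leaf (nat_lit 0x56676882b31) (nat_lit 1283))
) (.node (nat_lit 0x56750882b31) (.leaf (nat_lit 0x566f7482b31) (nat_lit 769))
 (.leaf (nat_lit 0x56750882b31) (nat_lit 1537))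
))) (.node (nat_lit 0x56a95525100) (.node (nat_lit 0x568b19d08f8) (.node (nat_lit 0x568a61d08f8) (.leaf (nat_lit 0x56894dd08f8) (nat_lit 1795))
 (.leaf (nat_lit 0x568a61d08f8) (nat_lit 1538))
) (.node (nat_lit 0x5691e9d08f8) (.leaf (nat_lit 0x568b19d08f8) (nat_lit 1794))
 (.leaf (nat_lit 0x5691e9d08f8) (nat_lit 1537))
)) (.node (nat_lit 0x56aaad25100) (.node (nat_lit 0x56aa6525100) (.leaf (nat_lit 0x56a95525100) (nat_lit 1283))
 (.leaf (nat_lit 0x56aa6525100) (nat_lit 1537))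
) (.node (nat_lit 0x56ac2925100) (.leaf (nat_lit 0x56aaad25100) (nat_lit 1283))
 (.leaf (nat_lit 0x56ac2925100) (nat_lit 1538))
)))) (.node (nat_lit 0x57626d63c29) (.node (nat_lit 0x56e945240ff) (.node (nat_lit 0x56cb1dd00fe) (.node (nat_lit 0x56ca75d00fe) (.leaf (nat_lit 0x56c96dd00fe) (nat_lit 1795))
 (.leaf (nat_lit 0x56ca75d00fe) (nat_lit 1537))
) (.node (nat_lit 0x56d1e5d00fe) (.leaf (nat_lit 0x56cb1dd00fe) (nat_lit 1283))
 (.leaf (nat_lit 0x56d1e5d00fe) (nat_lit 2049))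
)) (.node (nat_lit 0x56eaa9240ff) (.node (nat_lit 0x56ea59240ff) (.leaf (nat_lit 0x56e945240ff) (nat_lit 1795))
 (.leaf (nat_lit 0x56ea59240ff) (nat_lit 1538))
) (.node (nat_lit 0x56ec45240ff) (.leaf (nat_lit 0x56eaa9240ff) (nat_lit 1792))
 (.leaf (nat_lit 0x56ec45240ff) (nat_lit 1537))
))) (.node (nat_lit 0x57e2212f237) (.node (nat_lit 0x576bb563c29) (.node (nat_lit 0x576ad963c29) (.leaf (nat_lit 0x57626d63c29) (nat_lit 1794))
 (.leaf (nat_lit 0x576ad963c29) (nat_lit 1024))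
) (.node (nat_lit 0x576f6563c29) (.leaf (nat_lit 0x576bb563c29) (nat_lit 1539))
 (.leaf (nat_lit 0x576f6563c29) (nat_lit 1792))
)) (.node (nat_lit 0x57f0992f237) (.node (nat_lit 0x57ecd52f237) (.leaf (nat_lit 0x57e2212f237) (nat_lit 1539))
 (.leaf (nat_lit 0x57ecd52f237) (nat_lit 1792))
) (.node (nat_lit 0x57f43d2f237) (.leaf (nat_lit 0x57f0992f237) (nat_lit 1025))
 (.leaf (nat_lit 0x57f43d2f237) (nat_lit 1282))
))))) (.node (nat_lit 0x58c1ac09996) (.node (nat_lit 0x5840dc1e80d) (.node (nat_lit 0x58266c83330) (.node (nat_lit 0x58109d2fa36) (.node (nat_lit 0x580cd12fa36) (.leaf (nat_lit 0x58021d2fa36) (nat_lit 1536))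
 (.leaf (nat_lit 0x580cd12fa36) (nat_lit 1282))
) (.node (nat_lit 0x5814392fa36) (.leaf (nat_lit 0x58109d2fa36) (nat_lit 1539))
 (.leaf (nat_lit 0x5814392fa36) (nat_lit 1280))
)) (.node (nat_lit 0x582f6c83330) (.node (nat_lit 0x58277083330) (.leaf (nat_lit 0x58266c83330) (nat_lit 1536))
 (.leaf (nat_lit 0x58277083330) (nat_lit 1283))
) (.node (nat_lit 0x58350c83330) (.leaf (nat_lit 0x582f6c83330) (nat_lit 1793))
 (.leaf (nat_lit 0x58350c83330) (nat_lit 2048))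
))) (.node (nat_lit 0x5860d81f00c) (.node (nat_lit 0x58464c1e80d) (.node (nat_lit 0x5841d41e80d) (.leaf (nat_lit 0x5840dc1e80d) (nat_lit 1539))
 (.leaf (nat_lit 0x5841d41e80d) (nat_lit 1792))
) (.node (nat_lit 0x5849ac1e80d) (.leaf (nat_lit 0x58464c1e80d) (nat_lit 1793))
 (.leaf (nat_lit 0x5849ac1e80d) (nat_lit 1536))
)) (.node (nat_lit 0x5866341f00c) (.node (nat_lit 0x5861d81f00c) (.leaf (nat_lit 0x5860d81f00c) (nat_lit 2050))
 (.leaf (nat_lit 0x5861d81f00c) (nat_lit 1793))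
) (.node (nat_lit 0x5869a81f00c) (.leaf (nat_lit 0x5866341f00c) (nat_lit 1793))
 (.leaf (nat_lit 0x5869a81f00c) (nat_lit 1539))
)))) (.node (nat_lit 0x5923b2b8bf0) (.node (nat_lit 0x58e1b00a197) (.node (nat_lit 0x58ce8409996) (.node (nat_lit 0x58ca9809996) (.leaf (nat_lit 0x58c1ac09996) (nat_lit 1537))
 (.leaf (nat_lit 0x58ca9809996) (nat_lit 1280))
) (.node (nat_lit 0x58d49009996) (.leaf (nat_lit 0x58ce8409996) (nat_lit 1537))
 (.leaf (nat_lit 0x58d49009996) (nat_lit 1280))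
)) (.node (nat_lit 0x58ee800a197) (.node (nat_lit 0x58ea9c0a197) (.leaf (nat_lit 0x58e1b00a197) (nat_lit 1537))
 (.leaf (nat_lit 0x58ea9c0a197) (nat_lit 1794))
) (.node (nat_lit 0x58f4940a197) (.leaf (nat_lit 0x58ee800a197) (nat_lit 1539))
 (.leaf (nat_lit 0x58f4940a197) (nat_lit 1792))
))) (.node (nat_lit 0x59439eb7bf1) (.node (nat_lit 0x592a8eb8bf0) (.node (nat_lit 0x5928f6b8bf0) (.leaf (nat_lit 0x5923b2b8bf0) (nat_lit 1538))
 (.leaf (nat_lit 0x5928f6b8bf0) (nat_lit 1538))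
) (.node (nat_lit 0x593132b8bf0) (.leaf (nat_lit 0x592a8eb8bf0) (nat_lit 1283))
 (.leaf (nat_lit 0x593132b8bf0) (nat_lit 770))
)) (.node (nat_lit 0x594a92b7bf1) (.node (nat_lit 0x5948feb7bf1) (.leaf (nat_lit 0x59439eb7bf1) (nat_lit 1538))
 (.leaf (nat_lit 0x5948feb7bf1) (nat_lit 1539))
) (.node (nat_lit 0x595136b7bf1) (.leaf (nat_lit 0x594a92b7bf1) (nat_lit 1281))
 (.leaf (nat_lit 0x595136b7bf1) (nat_lit 1794))
)))))) (.node (nat_lit 0x5d894c35c16) (.node (nat_lit 0x5c0015c9b57) (.node (nat_lit 0x5b46e138b35) (.node (nat_lit 0x5aa42570b5e) (.node (nat_lit 0x5a910972b5f) (.node (nat_lit 0x5a8fa572b5f) (.leaf (nat_lit 0x5a842972b5f) (nat_lit 1537))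
 (.leaf (nat_lit 0x5a8fa572b5f) (nat_lit 1282))
) (.node (nat_lit 0x5a912572b5f) (.leaf (nat_lit 0x5a910972b5f) (nat_lit 768))
 (.leaf (nat_lit 0x5a912572b5f) (nat_lit 1537))
)) (.node (nat_lit 0x5ab10d70b5e) (.node (nat_lit 0x5aafa170b5e) (.leaf (nat_lit 0x5aa42570b5e) (nat_lit 2050))
 (.leaf (nat_lit 0x5aafa170b5e) (nat_lit 1794))
) (.node (nat_lit 0x5ab12170b5e) (.leaf (nat_lit 0x5ab10d70b5e) (nat_lit 1282))
 (.leaf (nat_lit 0x5ab12170b5e) (nat_lit 1536))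
))) (.node (nat_lit 0x5b86d539334) (.node (nat_lit 0x5b48d938b35) (.node (nat_lit 0x5b472d38b35) (.leaf (nat_lit 0x5b46e138b35) (nat_lit 1026))
 (.leaf (nat_lit 0x5b472d38b35) (nat_lit 1793))
) (.node (nat_lit 0x5b530538b35) (.leaf (nat_lit 0x5b48d938b35) (nat_lit 1792))
 (.leaf (nat_lit 0x5b530538b35) (nat_lit 1536))
)) (.node (nat_lit 0x5b88dd39334) (.node (nat_lit 0x5b872939334) (.leaf (nat_lit 0x5b86d539334) (nat_lit 1539))
 (.leaf (nat_lit 0x5b872939334) (nat_lit 1793))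
) (.node (nat_lit 0x5b930d39334) (.leaf (nat_lit 0x5b88dd39334) (nat_lit 1794))
 (.leaf (nat_lit 0x5b930d39334) (nat_lit 1538))
)))) (.node (nat_lit 0x5c4019c8b56) (.node (nat_lit 0x5c239d19044) (.node (nat_lit 0x5c05c1c9b57) (.node (nat_lit 0x5c0071c9b57) (.leaf (nat_lit 0x5c0015c9b57) (nat_lit 768))
 (.leaf (nat_lit 0x5c0071c9b57) (nat_lit 771))
) (.node (nat_lit 0x5c0925c9b57) (.leaf (nat_lit 0x5c05c1c9b57) (nat_lit 1026))
 (.leaf (nat_lit 0x5c0925c9b57) (nat_lit 1538))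
)) (.node (nat_lit 0x5c2a9119044) (.node (nat_lit 0x5c28fd19044) (.leaf (nat_lit 0x5c239d19044) (nat_lit 1795))
 (.leaf (nat_lit 0x5c28fd19044) (nat_lit 1281))
) (.node (nat_lit 0x5c313519044) (.leaf (nat_lit 0x5c2a9119044) (nat_lit 1539))
 (.leaf (nat_lit 0x5c313519044) (nat_lit 1024))
))) (.node (nat_lit 0x5ca3b119843) (.node (nat_lit 0x5c45c5c8b56) (.node (nat_lit 0x5c4069c8b56) (.leaf (nat_lit 0x5c4019c8b56) (nat_lit 1281))
 (.leaf (nat_lit 0x5c4069c8b56) (nat_lit 1283))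
) (.node (nat_lit 0x5c492dc8b56) (.leaf (nat_lit 0x5c45c5c8b56) (nat_lit 1538))
 (.leaf (nat_lit 0x5c492dc8b56) (nat_lit 1538))
)) (.node (nat_lit 0x5caa8d19843) (.node (nat_lit 0x5ca8f519843) (.leaf (nat_lit 0x5ca3b119843) (nat_lit 1792))
 (.leaf (nat_lit 0x5ca8f519843) (nat_lit 1795))
) (.node (nat_lit 0x5cb13119843) (.leaf (nat_lit 0x5caa8d19843) (nat_lit 1536))
 (.leaf (nat_lit 0x5cb13119843) (nat_lit 1538))
))))) (.node (nat_lit 0x5ec1112923d) (.node (nat_lit 0x5e8315871fd) (.node (nat_lit 0x5da96c36417) (.node (nat_lit 0x5d8b1835c16) (.node (nat_lit 0x5d8a6035c16) (.leaf (nat_lit 0x5d894c35c16) (nat_lit 1795))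
 (.leaf (nat_lit 0x5d8a6035c16) (nat_lit 1537))
) (.node (nat_lit 0x5d91e835c16) (.leaf (nat_lit 0x5d8b1835c16) (nat_lit 1794))
 (.leaf (nat_lit 0x5d91e835c16) (nat_lit 1025))
)) (.node (nat_lit 0x5dab1c36417) (.node (nat_lit 0x5daa7436417) (.leaf (nat_lit 0x5da96c36417) (nat_lit 1793))
 (.leaf (nat_lit 0x5daa7436417) (nat_lit 2049))
) (.node (nat_lit 0x5db1e436417) (.leaf (nat_lit 0x5dab1c36417) (nat_lit 1794))
 (.leaf (nat_lit 0x5db1e436417) (nat_lit 1536))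
))) (.node (nat_lit 0x5ea319849fc) (.node (nat_lit 0x5e8e39871fd) (.node (nat_lit 0x5e86d1871fd) (.leaf (nat_lit 0x5e8315871fd) (nat_lit 1283))
 (.leaf (nat_lit 0x5e86d1871fd) (nat_lit 1537))
) (.node (nat_lit 0x5e90d5871fd) (.leaf (nat_lit 0x5e8e39871fd) (nat_lit 1793))
 (.leaf (nat_lit 0x5e90d5871fd) (nat_lit 1537))
)) (.node (nat_lit 0x5eae3d849fc) (.node (nat_lit 0x5ea6dd849fc) (.leaf (nat_lit 0x5ea319849fc) (nat_lit 768))
 (.leaf (nat_lit 0x5ea6dd849fc) (nat_lit 1538))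
) (.node (nat_lit 0x5eb0ad849fc) (.leaf (nat_lit 0x5eae3d849fc) (nat_lit 1280))
 (.leaf (nat_lit 0x5eb0ad849fc) (nat_lit 1538))
)))) (.node (nat_lit 0x6020fdeec98) (.node (nat_lit 0x5ee10d2c23f) (.node (nat_lit 0x5ec8a52923d) (.node (nat_lit 0x5ec5292923d) (.leaf (nat_lit 0x5ec1112923d) (nat_lit 1795))
 (.leaf (nat_lit 0x5ec5292923d) (nat_lit 1794))
) (.node (nat_lit 0x5ecfc52923d) (.leaf (nat_lit 0x5ec8a52923d) (nat_lit 1538))
 (.leaf (nat_lit 0x5ecfc52923d) (nat_lit 1538))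
)) (.node (nat_lit 0x5ee8a12c23f) (.node (nat_lit 0x5ee5252c23f) (.leaf (nat_lit 0x5ee10d2c23f) (nat_lit 1795))
 (.leaf (nat_lit 0x5ee5252c23f) (nat_lit 1280))
) (.node (nat_lit 0x5eefc12c23f) (.leaf (nat_lit 0x5ee8a12c23f) (nat_lit 1538))
 (.leaf (nat_lit 0x5eefc12c23f) (nat_lit 1026))
))) (.node (nat_lit 0x606101edc99) (.node (nat_lit 0x60225deec98) (.node (nat_lit 0x602191eec98) (.leaf (nat_lit 0x6020fdeec98) (nat_lit 1281))
 (.leaf (nat_lit 0x602191eec98) (nat_lit 1538))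
) (.node (nat_lit 0x602acdeec98) (.leaf (nat_lit 0x60225deec98) (nat_lit 1280))
 (.leaf (nat_lit 0x602acdeec98) (nat_lit 1538))
)) (.node (nat_lit 0x606261edc99) (.node (nat_lit 0x6061a5edc99) (.leaf (nat_lit 0x606101edc99) (nat_lit 1283))
 (.leaf (nat_lit 0x6061a5edc99) (nat_lit 1026))
) (.node (nat_lit 0x606b05edc99) (.leaf (nat_lit 0x606261edc99) (nat_lit 1283))
 (.leaf (nat_lit 0x606b05edc99) (nat_lit 1024))
)))))))) (.node (nat_lit 0x6e6061ef99d) (.node (nat_lit 0x66897c972dc) (.node (nat_lit 0x64e386643bf) (.node (nat_lit 0x61c1308c468) (.node (nat_lit 0x6140342ba6a) (.node (nat_lit 0x61212c8dc6d) (.node (nat_lit 0x6110f66dd11) (.node (nat_lit 0x6106ea6dd11) (.leaf (nat_lit 0x6101ea6dd11) (nat_lit 1281))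
 (.leaf (nat_lit 0x6106ea6dd11) (nat_lit 2049))
) (.node (nat_lit 0x6113226dd11) (.leaf (nat_lit 0x6110f66dd11) (nat_lit 1280))
 (.leaf (nat_lit 0x6113226dd11) (nat_lit 1537))
)) (.node (nat_lit 0x612dec8dc6d) (.node (nat_lit 0x6128908dc6d) (.leaf (nat_lit 0x61212c8dc6d) (nat_lit 1537))
 (.leaf (nat_lit 0x6128908dc6d) (nat_lit 1793))
) (.node (nat_lit 0x612f848dc6d) (.leaf (nat_lit 0x612dec8dc6d) (nat_lit 1536))
 (.leaf (nat_lit 0x612f848dc6d) (nat_lit 1792))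
))) (.node (nat_lit 0x6161e66d510) (.node (nat_lit 0x6149282ba6a) (.node (nat_lit 0x6145b82ba6a) (.leaf (nat_lit 0x6140342ba6a) (nat_lit 1538))
 (.leaf (nat_lit 0x6145b82ba6a) (nat_lit 1536))
) (.node (nat_lit 0x6151b82ba6a) (.leaf (nat_lit 0x6149282ba6a) (nat_lit 1795))
 (.leaf (nat_lit 0x6151b82ba6a) (nat_lit 1792))
)) (.node (nat_lit 0x6170f26d510) (.node (nat_lit 0x6166e66d510) (.leaf (nat_lit 0x6161e66d510) (nat_lit 1792))
 (.leaf (nat_lit 0x6166e66d510) (nat_lit 2049))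
) (.node (nat_lit 0x6173266d510) (.leaf (nat_lit 0x6170f26d510) (nat_lit 1282))
 (.leaf (nat_lit 0x6173266d510) (nat_lit 2048))
)))) (.node (nat_lit 0x63a0c588b3e) (.node (nat_lit 0x6220302aa6b) (.node (nat_lit 0x61cde88c468) (.node (nat_lit 0x61c89c8c468) (.leaf (nat_lit 0x61c1308c468) (nat_lit 1024))
 (.leaf (nat_lit 0x61c89c8c468) (nat_lit 1793))
) (.node (nat_lit 0x61cf948c468) (.leaf (nat_lit 0x61cde88c468) (nat_lit 1538))
 (.leaf (nat_lit 0x61cf948c468) (nat_lit 1793))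
)) (.node (nat_lit 0x6229202aa6b) (.node (nat_lit 0x6225bc2aa6b) (.leaf (nat_lit 0x6220302aa6b) (nat_lit 1537))
 (.leaf (nat_lit 0x6225bc2aa6b) (nat_lit 1538))
) (.node (nat_lit 0x6231bc2aa6b) (.leaf (nat_lit 0x6229202aa6b) (nat_lit 1795))
 (.leaf (nat_lit 0x6231bc2aa6b) (nat_lit 1283))
))) (.node (nat_lit 0x63e0c98533c) (.node (nat_lit 0x63a89588b3e) (.node (nat_lit 0x63a26988b3e) (.leaf (nat_lit 0x63a0c588b3e) (nat_lit 1537))
 (.leaf (nat_lit 0x63a26988b3e) (nat_lit 1795))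
) (.node (nat_lit 0x63aadd88b3e) (.leaf (nat_lit 0x63a89588b3e) (nat_lit 2048))
 (.leaf (nat_lit 0x63aadd88b3e) (nat_lit 1280))
)) (.node (nat_lit 0x63e8a98533c) (.node (nat_lit 0x63e2718533c) (.leaf (nat_lit 0x63e0c98533c) (nat_lit 1536))
 (.leaf (nat_lit 0x63e2718533c) (nat_lit 1281))
) (.node (nat_lit 0x63ead58533c) (.leaf (nat_lit 0x63e8a98533c) (nat_lit 1538))
 (.leaf (nat_lit 0x63ead58533c) (nat_lit 1793))
))))) (.node (nat_lit 0x660748b8ac1) (.node (nat_lit 0x6589805e06d) (.node (nat_lit 0x65037264bc1) (.node (nat_lit 0x64e9c2643bf) (.node (nat_lit 0x64e632643bf) (.leaf (nat_lit 0x64e386643bf) (nat_lit 2051))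
 (.leaf (nat_lit 0x64e632643bf) (nat_lit 1280))
) (.node (nat_lit 0x64ec22643bf) (.leaf (nat_lit 0x64e9c2643bf) (nat_lit 2051))
 (.leaf (nat_lit 0x64ec22643bf) (nat_lit 1792))
)) (.node (nat_lit 0x6509ba64bc1) (.node (nat_lit 0x65062a64bc1) (.leaf (nat_lit 0x65037264bc1) (nat_lit 2050))
 (.leaf (nat_lit 0x65062a64bc1) (nat_lit 1280))
) (.node (nat_lit 0x650c2e64bc1) (.leaf (nat_lit 0x6509ba64bc1) (nat_lit 2048))
 (.leaf (nat_lit 0x650c2e64bc1) (nat_lit 1283))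
))) (.node (nat_lit 0x65a9885c86f) (.node (nat_lit 0x6592bc5e06d) (.node (nat_lit 0x658a345e06d) (.leaf (nat_lit 0x6589805e06d) (nat_lit 1537))
 (.leaf (nat_lit 0x658a345e06d) (nat_lit 1793))
) (.node (nat_lit 0x6594ac5e06d) (.leaf (nat_lit 0x6592bc5e06d) (nat_lit 1027))
 (.leaf (nat_lit 0x6594ac5e06d) (nat_lit 1792))
)) (.node (nat_lit 0x65b2b85c86f) (.node (nat_lit 0x65aa2c5c86f) (.leaf (nat_lit 0x65a9885c86f) (nat_lit 1024))
 (.leaf (nat_lit 0x65aa2c5c86f) (nat_lit 1793))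
) (.node (nat_lit 0x65b4a85c86f) (.leaf (nat_lit 0x65b2b85c86f) (nat_lit 1027))
 (.leaf (nat_lit 0x65b4a85c86f) (nat_lit 1793))
)))) (.node (nat_lit 0x664100ee1d3) (.node (nat_lit 0x66274cb82b3) (.node (nat_lit 0x661260b8ac1) (.node (nat_lit 0x660b88b8ac1) (.leaf (nat_lit 0x660748b8ac1) (nat_lit 1026))
 (.leaf (nat_lit 0x660b88b8ac1) (nat_lit 1795))
) (.node (nat_lit 0x661408b8ac1) (.leaf (nat_lit 0x661260b8ac1) (nat_lit 1538))
 (.leaf (nat_lit 0x661408b8ac1) (nat_lit 1794))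
)) (.node (nat_lit 0x663264b82b3) (.node (nat_lit 0x662b80b82b3) (.leaf (nat_lit 0x66274cb82b3) (nat_lit 1026))
 (.leaf (nat_lit 0x662b80b82b3) (nat_lit 2305))
) (.node (nat_lit 0x66340cb82b3) (.leaf (nat_lit 0x663264b82b3) (nat_lit 512))
 (.leaf (nat_lit 0x66340cb82b3) (nat_lit 1795))
))) (.node (nat_lit 0x6660fced1d2) (.node (nat_lit 0x664260ee1d3) (.node (nat_lit 0x6641a4ee1d3) (.leaf (nat_lit 0x664100ee1d3) (nat_lit 1281))
 (.leaf (nat_lit 0x6641a4ee1d3) (nat_lit 1538))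
) (.node (nat_lit 0x664b04ee1d3) (.leaf (nat_lit 0x664260ee1d3) (nat_lit 1281))
 (.leaf (nat_lit 0x664b04ee1d3) (nat_lit 1538))
)) (.node (nat_lit 0x66625ced1d2) (.node (nat_lit 0x666190ed1d2) (.leaf (nat_lit 0x6660fced1d2) (nat_lit 771))
 (.leaf (nat_lit 0x666190ed1d2) (nat_lit 1536))
) (.node (nat_lit 0x666acced1d2) (.leaf (nat_lit 0x66625ced1d2) (nat_lit 1283))
 (.leaf (nat_lit 0x666acced1d2) (nat_lit 1026))
)))))) (.node (nat_lit 0x6b4062a04ef) (.node (nat_lit 0x6863843d0c2) (.node (nat_lit 0x6781941b31f) (.node (nat_lit 0x66a9789aada) (.node (nat_lit 0x668fdc972dc) (.node (nat_lit 0x668f2c972dc) (.leaf (nat_lit 0x66897c972dc) (nat_lit 1539))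
 (.leaf (nat_lit 0x668f2c972dc) (nat_lit 1794))
) (.node (nat_lit 0x6692c8972dc) (.leaf (nat_lit 0x668fdc972dc) (nat_lit 1536))
 (.leaf (nat_lit 0x6692c8972dc) (nat_lit 1794))
)) (.node (nat_lit 0x66afe49aada) (.node (nat_lit 0x66af289aada) (.leaf (nat_lit 0x66a9789aada) (nat_lit 2048))
 (.leaf (nat_lit 0x66af289aada) (nat_lit 1795))
) (.node (nat_lit 0x66b2c09aada) (.leaf (nat_lit 0x66afe49aada) (nat_lit 1537))
 (.leaf (nat_lit 0x66b2c09aada) (nat_lit 1282))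
))) (.node (nat_lit 0x67c1a81bb1d) (.node (nat_lit 0x678b0c1b31f) (.node (nat_lit 0x6783d01b31f) (.leaf (nat_lit 0x6781941b31f) (nat_lit 1538))
 (.leaf (nat_lit 0x6783d01b31f) (nat_lit 1536))
) (.node (nat_lit 0x6792a01b31f) (.leaf (nat_lit 0x678b0c1b31f) (nat_lit 1795))
 (.leaf (nat_lit 0x6792a01b31f) (nat_lit 1283))
)) (.node (nat_lit 0x67cb081bb1d) (.node (nat_lit 0x67c3d41bb1d) (.leaf (nat_lit 0x67c1a81bb1d) (nat_lit 1538))
 (.leaf (nat_lit 0x67c3d41bb1d) (nat_lit 2048))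
) (.node (nat_lit 0x67d2981bb1d) (.leaf (nat_lit 0x67cb081bb1d) (nat_lit 1283))
 (.leaf (nat_lit 0x67d2981bb1d) (nat_lit 1280))
)))) (.node (nat_lit 0x6ac0fea12e2) (.node (nat_lit 0x68a3703c8c0) (.node (nat_lit 0x6869c03d0c2) (.node (nat_lit 0x6866303d0c2) (.leaf (nat_lit 0x6863843d0c2) (nat_lit 1283))
 (.leaf (nat_lit 0x6866303d0c2) (nat_lit 1539))
) (.node (nat_lit 0x686c203d0c2) (.leaf (nat_lit 0x6869c03d0c2) (nat_lit 1283))
 (.leaf (nat_lit 0x686c203d0c2) (nat_lit 1539))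
)) (.node (nat_lit 0x68a9b83c8c0) (.node (nat_lit 0x68a6283c8c0) (.leaf (nat_lit 0x68a3703c8c0) (nat_lit 1792))
 (.leaf (nat_lit 0x68a6283c8c0) (nat_lit 1025))
) (.node (nat_lit 0x68ac2c3c8c0) (.leaf (nat_lit 0x68a9b83c8c0) (nat_lit 1793))
 (.leaf (nat_lit 0x68ac2c3c8c0) (nat_lit 1024))
))) (.node (nat_lit 0x6ae102a1ae0) (.node (nat_lit 0x6ac25ea12e2) (.node (nat_lit 0x6ac192a12e2) (.leaf (nat_lit 0x6ac0fea12e2) (nat_lit 1538))
 (.leaf (nat_lit 0x6ac192a12e2) (nat_lit 1795))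
) (.node (nat_lit 0x6acacea12e2) (.leaf (nat_lit 0x6ac25ea12e2) (nat_lit 1025))
 (.leaf (nat_lit 0x6acacea12e2) (nat_lit 1794))
)) (.node (nat_lit 0x6ae262a1ae0) (.node (nat_lit 0x6ae1a6a1ae0) (.leaf (nat_lit 0x6ae102a1ae0) (nat_lit 1537))
 (.leaf (nat_lit 0x6ae1a6a1ae0) (nat_lit 1793))
) (.node (nat_lit 0x6aeb06a1ae0) (.leaf (nat_lit 0x6ae262a1ae0) (nat_lit 1539))
 (.leaf (nat_lit 0x6aeb06a1ae0) (nat_lit 1794))
))))) (.node (nat_lit 0x6c400677d40) (.node (nat_lit 0x6bc2e0a52d5) (.node (nat_lit 0x6b6002a0cee) (.node (nat_lit 0x6b444ea04ef) (.node (nat_lit 0x6b419aa04ef) (.leaf (nat_lit 0x6b4062a04ef) (nat_lit 1026))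
 (.leaf (nat_lit 0x6b419aa04ef) (nat_lit 1282))
) (.node (nat_lit 0x6b557aa04ef) (.leaf (nat_lit 0x6b444ea04ef) (nat_lit 1538))
 (.leaf (nat_lit 0x6b557aa04ef) (nat_lit 1280))
)) (.node (nat_lit 0x6b61a2a0cee) (.node (nat_lit 0x6b605aa0cee) (.leaf (nat_lit 0x6b6002a0cee) (nat_lit 1537))
 (.leaf (nat_lit 0x6b605aa0cee) (nat_lit 1025))
) (.node (nat_lit 0x6b7582a0cee) (.leaf (nat_lit 0x6b61a2a0cee) (nat_lit 1282))
 (.leaf (nat_lit 0x6b7582a0cee) (nat_lit 1282))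
))) (.node (nat_lit 0x6be2dca4ad4) (.node (nat_lit 0x6bcbd8a52d5) (.node (nat_lit 0x6bc480a52d5) (.leaf (nat_lit 0x6bc2e0a52d5) (nat_lit 1281))
 (.leaf (nat_lit 0x6bc480a52d5) (nat_lit 1795))
) (.node (nat_lit 0x6bd424a52d5) (.leaf (nat_lit 0x6bcbd8a52d5) (nat_lit 1026))
 (.leaf (nat_lit 0x6bd424a52d5) (nat_lit 1538))
)) (.node (nat_lit 0x6bebdca4ad4) (.node (nat_lit 0x6be47ca4ad4) (.leaf (nat_lit 0x6be2dca4ad4) (nat_lit 1281))
 (.leaf (nat_lit 0x6be47ca4ad4) (nat_lit 1280))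
) (.node (nat_lit 0x6bf420a4ad4) (.leaf (nat_lit 0x6bebdca4ad4) (nat_lit 2050))
 (.leaf (nat_lit 0x6bf420a4ad4) (nat_lit 1538))
)))) (.node (nat_lit 0x6c800a77541) (.node (nat_lit 0x6c602170543) (.node (nat_lit 0x6c45ae77d40) (.node (nat_lit 0x6c402e77d40) (.leaf (nat_lit 0x6c400677d40) (nat_lit 1282))
 (.leaf (nat_lit 0x6c402e77d40) (nat_lit 1025))
) (.node (nat_lit 0x6c51c677d40) (.leaf (nat_lit 0x6c45ae77d40) (nat_lit 1282))
 (.leaf (nat_lit 0x6c51c677d40) (nat_lit 1539))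
)) (.node (nat_lit 0x6c65b170543) (.node (nat_lit 0x6c63cd70543) (.leaf (nat_lit 0x6c602170543) (nat_lit 1794))
 (.leaf (nat_lit 0x6c63cd70543) (nat_lit 1536))
) (.node (nat_lit 0x6c6cc570543) (.leaf (nat_lit 0x6c65b170543) (nat_lit 1794))
 (.leaf (nat_lit 0x6c6cc570543) (nat_lit 1539))
))) (.node (nat_lit 0x6ca01d71542) (.node (nat_lit 0x6c859a77541) (.node (nat_lit 0x6c802677541) (.leaf (nat_lit 0x6c800a77541) (nat_lit 1794))
 (.leaf (nat_lit 0x6c802677541) (nat_lit 1536))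
) (.node (nat_lit 0x6c91c277541) (.leaf (nat_lit 0x6c859a77541) (nat_lit 1794))
 (.leaf (nat_lit 0x6c91c277541) (nat_lit 515))
)) (.node (nat_lit 0x6ca5b571542) (.node (nat_lit 0x6ca3d971542) (.leaf (nat_lit 0x6ca01d71542) (nat_lit 1794))
 (.leaf (nat_lit 0x6ca3d971542) (nat_lit 1027))
) (.node (nat_lit 0x6cacc171542) (.leaf (nat_lit 0x6ca5b571542) (nat_lit 1794))
 (.leaf (nat_lit 0x6cacc171542) (nat_lit 1537))
))))))) (.node (nat_lit 0x77c221fc9ca) (.node (nat_lit 0x7240041c998) (.node (nat_lit 0x71c93df2a95) (.node (nat_lit 0x6f44621ad70) (.node (nat_lit 0x6ee001ef19c) (.node (nat_lit 0x6e644def99d) (.node (nat_lit 0x6e6199ef99d) (.leaf (nat_lit 0x6e6061ef99d) (nat_lit 1795))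
 (.leaf (nat_lit 0x6e6199ef99d) (nat_lit 1536))
) (.node (nat_lit 0x6e7579ef99d) (.leaf (nat_lit 0x6e644def99d) (nat_lit 1795))
 (.leaf (nat_lit 0x6e7579ef99d) (nat_lit 1538))
)) (.node (nat_lit 0x6ee1a1ef19c) (.node (nat_lit 0x6ee059ef19c) (.leaf (nat_lit 0x6ee001ef19c) (nat_lit 1792))
 (.leaf (nat_lit 0x6ee059ef19c) (nat_lit 1283))
) (.node (nat_lit 0x6ef581ef19c) (.leaf (nat_lit 0x6ee1a1ef19c) (nat_lit 1538))
 (.leaf (nat_lit 0x6ef581ef19c) (nat_lit 1536))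
))) (.node (nat_lit 0x6f646e15d6e) (.node (nat_lit 0x6f4bd21ad70) (.node (nat_lit 0x6f45ea1ad70) (.leaf (nat_lit 0x6f44621ad70) (nat_lit 1282))
 (.leaf (nat_lit 0x6f45ea1ad70) (nat_lit 1537))
) (.node (nat_lit 0x6f4fd21ad70) (.leaf (nat_lit 0x6f4bd21ad70) (nat_lit 1794))
 (.leaf (nat_lit 0x6f4fd21ad70) (nat_lit 1025))
)) (.node (nat_lit 0x6f6bd615d6e) (.node (nat_lit 0x6f65d215d6e) (.leaf (nat_lit 0x6f646e15d6e) (nat_lit 1795))
 (.leaf (nat_lit 0x6f65d215d6e) (nat_lit 1537))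
) (.node (nat_lit 0x6f6fd615d6e) (.leaf (nat_lit 0x6f6bd615d6e) (nat_lit 1794))
 (.leaf (nat_lit 0x6f6fd615d6e) (nat_lit 1536))
)))) (.node (nat_lit 0x7200081d199) (.node (nat_lit 0x71e935f0a94) (.node (nat_lit 0x71d4fdf2a95) (.node (nat_lit 0x71cc39f2a95) (.leaf (nat_lit 0x71c93df2a95) (nat_lit 1536))
 (.leaf (nat_lit 0x71cc39f2a95) (nat_lit 1539))
) (.node (nat_lit 0x71d531f2a95) (.leaf (nat_lit 0x71d4fdf2a95) (nat_lit 1795))
 (.leaf (nat_lit 0x71d531f2a95) (nat_lit 1795))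
)) (.node (nat_lit 0x71f4f9f0a94) (.node (nat_lit 0x71ec25f0a94) (.leaf (nat_lit 0x71e935f0a94) (nat_lit 1027))
 (.leaf (nat_lit 0x71ec25f0a94) (nat_lit 1024))
) (.node (nat_lit 0x71f539f0a94) (.leaf (nat_lit 0x71f4f9f0a94) (nat_lit 1792))
 (.leaf (nat_lit 0x71f539f0a94) (nat_lit 1794))
))) (.node (nat_lit 0x72201e8119a) (.node (nat_lit 0x7205981d199) (.node (nat_lit 0x7200241d199) (.leaf (nat_lit 0x7200081d199) (nat_lit 1794))
 (.leaf (nat_lit 0x7200241d199) (nat_lit 1027))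
) (.node (nat_lit 0x7211c01d199) (.leaf (nat_lit 0x7205981d199) (nat_lit 1794))
 (.leaf (nat_lit 0x7211c01d199) (nat_lit 1537))
)) (.node (nat_lit 0x7225b68119a) (.node (nat_lit 0x7223da8119a) (.leaf (nat_lit 0x72201e8119a) (nat_lit 1792))
 (.leaf (nat_lit 0x7223da8119a) (nat_lit 1027))
) (.node (nat_lit 0x722cc28119a) (.leaf (nat_lit 0x7225b68119a) (nat_lit 1282))
 (.leaf (nat_lit 0x722cc28119a) (nat_lit 1024))
))))) (.node (nat_lit 0x73c300b218c) (.node (nat_lit 0x73680c04aaf) (.node (nat_lit 0x7260228199b) (.node (nat_lit 0x7245ac1c998) (.node (nat_lit 0x72402c1c998) (.leaf (nat_lit 0x7240041c998) (nat_lit 1282))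
 (.leaf (nat_lit 0x72402c1c998) (nat_lit 1027))
) (.node (nat_lit 0x7251c41c998) (.leaf (nat_lit 0x7245ac1c998) (nat_lit 1282))
 (.leaf (nat_lit 0x7251c41c998) (nat_lit 1024))
)) (.node (nat_lit 0x7265b28199b) (.node (nat_lit 0x7263ce8199b) (.leaf (nat_lit 0x7260228199b) (nat_lit 1794))
 (.leaf (nat_lit 0x7263ce8199b) (nat_lit 1536))
) (.node (nat_lit 0x726cc68199b) (.leaf (nat_lit 0x7265b28199b) (nat_lit 1794))
 (.leaf (nat_lit 0x726cc68199b) (nat_lit 1539))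
))) (.node (nat_lit 0x73a308b398a) (.node (nat_lit 0x736e4004aaf) (.node (nat_lit 0x736d9004aaf) (.leaf (nat_lit 0x73680c04aaf) (nat_lit 1536))
 (.leaf (nat_lit 0x736d9004aaf) (nat_lit 1795))
) (.node (nat_lit 0x73752404aaf) (.leaf (nat_lit 0x736e4004aaf) (nat_lit 1793))
 (.leaf (nat_lit 0x73752404aaf) (nat_lit 1024))
)) (.node (nat_lit 0x73aefcb398a) (.node (nat_lit 0x73a344b398a) (.leaf (nat_lit 0x73a308b398a) (nat_lit 1539))
 (.leaf (nat_lit 0x73a344b398a) (nat_lit 1792))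
) (.node (nat_lit 0x73b338b398a) (.leaf (nat_lit 0x73aefcb398a) (nat_lit 1792))
 (.leaf (nat_lit 0x73b338b398a) (nat_lit 1025))
)))) (.node (nat_lit 0x74005176904) (.node (nat_lit 0x73e80405aae) (.node (nat_lit 0x73cf04b218c) (.node (nat_lit 0x73c34cb218c) (.leaf (nat_lit 0x73c300b218c) (nat_lit 1027))
 (.leaf (nat_lit 0x73c34cb218c) (nat_lit 1793))
) (.node (nat_lit 0x73d33cb218c) (.leaf (nat_lit 0x73cf04b218c) (nat_lit 1793))
 (.leaf (nat_lit 0x73d33cb218c) (nat_lit 1537))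
)) (.node (nat_lit 0x73ee4805aae) (.node (nat_lit 0x73ed8805aae) (.leaf (nat_lit 0x73e80405aae) (nat_lit 1027))
 (.leaf (nat_lit 0x73ed8805aae) (nat_lit 1793))
) (.node (nat_lit 0x73f52c05aae) (.leaf (nat_lit 0x73ee4805aae) (nat_lit 1281))
 (.leaf (nat_lit 0x73f52c05aae) (nat_lit 515))
))) (.node (nat_lit 0x74204d760fa) (.node (nat_lit 0x740aed76904) (.node (nat_lit 0x74091576904) (.leaf (nat_lit 0x74005176904) (nat_lit 1282))
 (.leaf (nat_lit 0x74091576904) (nat_lit 1539))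
) (.node (nat_lit 0x7412e576904) (.leaf (nat_lit 0x740aed76904) (nat_lit 1281))
 (.leaf (nat_lit 0x7412e576904) (nat_lit 1539))
)) (.node (nat_lit 0x742ac1760fa) (.node (nat_lit 0x742911760fa) (.leaf (nat_lit 0x74204d760fa) (nat_lit 1794))
 (.leaf (nat_lit 0x742911760fa) (nat_lit 1539))
) (.node (nat_lit 0x7432ed760fa) (.leaf (nat_lit 0x742ac1760fa) (nat_lit 1792))
 (.leaf (nat_lit 0x7432ed760fa) (nat_lit 1537))
)))))) (.node (nat_lit 0x79a2a48684c) (.node (nat_lit 0x7861a8c9a41) (.node (nat_lit 0x78021dfb9cb) (.node (nat_lit 0x77e59e57327) (.node (nat_lit 0x77d099fc9ca) (.node (nat_lit 0x77ccd5fc9ca) (.leaf (nat_lit 0x77c221fc9ca) (nat_lit 1538))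
 (.leaf (nat_lit 0x77ccd5fc9ca) (nat_lit 1792))
) (.node (nat_lit 0x77d43dfc9ca) (.leaf (nat_lit 0x77d099fc9ca) (nat_lit 1539))
 (.leaf (nat_lit 0x77d43dfc9ca) (nat_lit 1794))
)) (.node (nat_lit 0x77ef5a57327) (.node (nat_lit 0x77ecb657327) (.leaf (nat_lit 0x77e59e57327) (nat_lit 1027))
 (.leaf (nat_lit 0x77ecb657327) (nat_lit 1283))
) (.node (nat_lit 0x77efca57327) (.leaf (nat_lit 0x77ef5a57327) (nat_lit 1793))
 (.leaf (nat_lit 0x77efca57327) (nat_lit 1027))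
))) (.node (nat_lit 0x78259257b28) (.node (nat_lit 0x78109dfb9cb) (.node (nat_lit 0x780cd1fb9cb) (.leaf (nat_lit 0x78021dfb9cb) (nat_lit 1537))
 (.leaf (nat_lit 0x780cd1fb9cb) (nat_lit 1282))
) (.node (nat_lit 0x781439fb9cb) (.leaf (nat_lit 0x78109dfb9cb) (nat_lit 2051))
 (.leaf (nat_lit 0x781439fb9cb) (nat_lit 1280))
)) (.node (nat_lit 0x782f5e57b28) (.node (nat_lit 0x782cb257b28) (.leaf (nat_lit 0x78259257b28) (nat_lit 1537))
 (.leaf (nat_lit 0x782cb257b28) (nat_lit 1795))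
) (.node (nat_lit 0x782fce57b28) (.leaf (nat_lit 0x782f5e57b28) (nat_lit 1795))
 (.leaf (nat_lit 0x782fce57b28) (nat_lit 1024))
)))) (.node (nat_lit 0x79427ca7c0d) (.node (nat_lit 0x788194c6a40) (.node (nat_lit 0x786b08c9a41) (.node (nat_lit 0x7863d4c9a41) (.leaf (nat_lit 0x7861a8c9a41) (nat_lit 1793))
 (.leaf (nat_lit 0x7863d4c9a41) (nat_lit 1281))
) (.node (nat_lit 0x787298c9a41) (.leaf (nat_lit 0x786b08c9a41) (nat_lit 1538))
 (.leaf (nat_lit 0x787298c9a41) (nat_lit 1539))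
)) (.node (nat_lit 0x788b0cc6a40) (.node (nat_lit 0x7883d0c6a40) (.leaf (nat_lit 0x788194c6a40) (nat_lit 1281))
 (.leaf (nat_lit 0x7883d0c6a40) (nat_lit 1795))
) (.node (nat_lit 0x7892a0c6a40) (.leaf (nat_lit 0x788b0cc6a40) (nat_lit 1027))
 (.leaf (nat_lit 0x7892a0c6a40) (nat_lit 1536))
))) (.node (nat_lit 0x796280aec0b) (.node (nat_lit 0x794f54a7c0d) (.node (nat_lit 0x7944d4a7c0d) (.leaf (nat_lit 0x79427ca7c0d) (nat_lit 1539))
 (.leaf (nat_lit 0x7944d4a7c0d) (nat_lit 2051))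
) (.node (nat_lit 0x795234a7c0d) (.leaf (nat_lit 0x794f54a7c0d) (nat_lit 1793))
 (.leaf (nat_lit 0x795234a7c0d) (nat_lit 1795))
)) (.node (nat_lit 0x796f50aec0b) (.node (nat_lit 0x7964b8aec0b) (.leaf (nat_lit 0x796280aec0b) (nat_lit 1538))
 (.leaf (nat_lit 0x7964b8aec0b) (nat_lit 1537))
) (.node (nat_lit 0x797230aec0b) (.leaf (nat_lit 0x796f50aec0b) (nat_lit 1795))
 (.leaf (nat_lit 0x797230aec0b) (nat_lit 1282))
))))) (.node (nat_lit 0x7ac988a6a9c) (.node (nat_lit 0x7a8576139b1) (.node (nat_lit 0x79e29c8584b) (.node (nat_lit 0x79a8508684c) (.node (nat_lit 0x79a5948684c) (.leaf (nat_lit 0x79a2a48684c) (nat_lit 1281))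
 (.leaf (nat_lit 0x79a5948684c) (nat_lit 769))
) (.node (nat_lit 0x79b1b48684c) (.leaf (nat_lit 0x79a8508684c) (nat_lit 1536))
 (.leaf (nat_lit 0x79b1b48684c) (nat_lit 1536))
)) (.node (nat_lit 0x79e8488584b) (.node (nat_lit 0x79e5a88584b) (.leaf (nat_lit 0x79e29c8584b) (nat_lit 1283))
 (.leaf (nat_lit 0x79e5a88584b) (nat_lit 770))
) (.node (nat_lit 0x79f1a08584b) (.leaf (nat_lit 0x79e8488584b) (nat_lit 1539))
 (.leaf (nat_lit 0x79f1a08584b) (nat_lit 1539))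
))) (.node (nat_lit 0x7aa53e131b0) (.node (nat_lit 0x7a8f02139b1) (.node (nat_lit 0x7a8b02139b1) (.leaf (nat_lit 0x7a8576139b1) (nat_lit 1536))
 (.leaf (nat_lit 0x7a8b02139b1) (nat_lit 1792))
) (.node (nat_lit 0x7a9416139b1) (.leaf (nat_lit 0x7a8f02139b1) (nat_lit 1282))
 (.leaf (nat_lit 0x7a9416139b1) (nat_lit 1537))
)) (.node (nat_lit 0x7aaefa131b0) (.node (nat_lit 0x7aaafe131b0) (.leaf (nat_lit 0x7aa53e131b0) (nat_lit 1027))
 (.leaf (nat_lit 0x7aaafe131b0) (nat_lit 1794))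
) (.node (nat_lit 0x7ab41a131b0) (.leaf (nat_lit 0x7aaefa131b0) (nat_lit 1280))
 (.leaf (nat_lit 0x7ab41a131b0) (nat_lit 1537))
)))) (.node (nat_lit 0x7b094d531ae) (.node (nat_lit 0x7ae980a6297) (.node (nat_lit 0x7ad2b8a6a9c) (.node (nat_lit 0x7aca2ca6a9c) (.leaf (nat_lit 0x7ac988a6a9c) (nat_lit 1539))
 (.leaf (nat_lit 0x7aca2ca6a9c) (nat_lit 1794))
) (.node (nat_lit 0x7ad4a8a6a9c) (.leaf (nat_lit 0x7ad2b8a6a9c) (nat_lit 1536))
 (.leaf (nat_lit 0x7ad4a8a6a9c) (nat_lit 1795))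
)) (.node (nat_lit 0x7af2bca6297) (.node (nat_lit 0x7aea34a6297) (.leaf (nat_lit 0x7ae980a6297) (nat_lit 515))
 (.leaf (nat_lit 0x7aea34a6297) (nat_lit 1792))
) (.node (nat_lit 0x7af4aca6297) (.leaf (nat_lit 0x7af2bca6297) (nat_lit 1025))
 (.leaf (nat_lit 0x7af4aca6297) (nat_lit 1281))
))) (.node (nat_lit 0x7b296d539af) (.node (nat_lit 0x7b0b19531ae) (.node (nat_lit 0x7b0a61531ae) (.leaf (nat_lit 0x7b094d531ae) (nat_lit 1539))
 (.leaf (nat_lit 0x7b0a61531ae) (nat_lit 1795))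
) (.node (nat_lit 0x7b11e9531ae) (.leaf (nat_lit 0x7b0b19531ae) (nat_lit 1027))
 (.leaf (nat_lit 0x7b11e9531ae) (nat_lit 1793))
)) (.node (nat_lit 0x7b2b1d539af) (.node (nat_lit 0x7b2a75539af) (.leaf (nat_lit 0x7b296d539af) (nat_lit 1539))
 (.leaf (nat_lit 0x7b2a75539af) (nat_lit 1794))
) (.node (nat_lit 0x7b31e5539af) (.leaf (nat_lit 0x7b2b1d539af) (nat_lit 1536))
 (.leaf (nat_lit 0x7b31e5539af) (nat_lit 1282))
))))))))) (.node (nat_lit 0x9380949ca45) (.node (nat_lit 0x8640951dcb9) (.node (nat_lit 0x7e83169fc4b) (.node (nat_lit 0x7d41445397a) (.node (nat_lit 0x7c246c63051) (.node (nat_lit 0x7bc05e48549) (.node (nat_lit 0x7ba0a199d4a) (.node (nat_lit 0x7b641999548) (.node (nat_lit 0x7b618999548) (.leaf (nat_lit 0x7b609999548) (nat_lit 1537))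
 (.leaf (nat_lit 0x7b618999548) (nat_lit 1792))
) (.node (nat_lit 0x7b663d99548) (.leaf (nat_lit 0x7b641999548) (nat_lit 1537))
 (.leaf (nat_lit 0x7b663d99548) (nat_lit 1282))
)) (.node (nat_lit 0x7ba41599d4a) (.node (nat_lit 0x7ba18599d4a) (.leaf (nat_lit 0x7ba0a199d4a) (nat_lit 1539))
 (.leaf (nat_lit 0x7ba18599d4a) (nat_lit 1282))
) (.node (nat_lit 0x7ba64599d4a) (.leaf (nat_lit 0x7ba41599d4a) (nat_lit 1539))
 (.leaf (nat_lit 0x7ba64599d4a) (nat_lit 1280))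
))) (.node (nat_lit 0x7be0564754b) (.node (nat_lit 0x7bcaba48549) (.node (nat_lit 0x7bc64248549) (.leaf (nat_lit 0x7bc05e48549) (nat_lit 770))
 (.leaf (nat_lit 0x7bc64248549) (nat_lit 1280))
) (.node (nat_lit 0x7bd2a648549) (.leaf (nat_lit 0x7bcaba48549) (nat_lit 1537))
 (.leaf (nat_lit 0x7bd2a648549) (nat_lit 1024))
)) (.node (nat_lit 0x7beabe4754b) (.node (nat_lit 0x7be63a4754b) (.leaf (nat_lit 0x7be0564754b) (nat_lit 1282))
 (.leaf (nat_lit 0x7be63a4754b) (nat_lit 1794))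
) (.node (nat_lit 0x7bf2aa4754b) (.leaf (nat_lit 0x7beabe4754b) (nat_lit 1027))
 (.leaf (nat_lit 0x7bf2aa4754b) (nat_lit 1027))
)))) (.node (nat_lit 0x7d04091fa58) (.node (nat_lit 0x7ca4606284f) (.node (nat_lit 0x7c2bd463051) (.node (nat_lit 0x7c25d063051) (.leaf (nat_lit 0x7c246c63051) (nat_lit 1539))
 (.leaf (nat_lit 0x7c25d063051) (nat_lit 1283))
) (.node (nat_lit 0x7c2fd463051) (.leaf (nat_lit 0x7c2bd463051) (nat_lit 1539))
 (.leaf (nat_lit 0x7c2fd463051) (nat_lit 1280))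
)) (.node (nat_lit 0x7cabd06284f) (.node (nat_lit 0x7ca5e86284f) (.leaf (nat_lit 0x7ca4606284f) (nat_lit 1539))
 (.leaf (nat_lit 0x7ca5e86284f) (nat_lit 1283))
) (.node (nat_lit 0x7cafd06284f) (.leaf (nat_lit 0x7cabd06284f) (nat_lit 1537))
 (.leaf (nat_lit 0x7cafd06284f) (nat_lit 1280))
))) (.node (nat_lit 0x7d240d1ea52) (.node (nat_lit 0x7d0b291fa58) (.node (nat_lit 0x7d09f91fa58) (.leaf (nat_lit 0x7d04091fa58) (nat_lit 1283))
 (.leaf (nat_lit 0x7d09f91fa58) (nat_lit 2050))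
) (.node (nat_lit 0x7d0b851fa58) (.leaf (nat_lit 0x7d0b291fa58) (nat_lit 1793))
 (.leaf (nat_lit 0x7d0b851fa58) (nat_lit 1536))
)) (.node (nat_lit 0x7d2b251ea52) (.node (nat_lit 0x7d2a4d1ea52) (.leaf (nat_lit 0x7d240d1ea52) (nat_lit 1792))
 (.leaf (nat_lit 0x7d2a4d1ea52) (nat_lit 1024))
) (.node (nat_lit 0x7d2b951ea52) (.leaf (nat_lit 0x7d2b251ea52) (nat_lit 1793))
 (.leaf (nat_lit 0x7d2b951ea52) (nat_lit 1538))
))))) (.node (nat_lit 0x7e091c5a2c9) (.node (nat_lit 0x7d8060cc039) (.node (nat_lit 0x7d613c54974) (.node (nat_lit 0x7d4f3c5397a) (.node (nat_lit 0x7d43f05397a) (.leaf (nat_lit 0x7d41445397a) (nat_lit 771))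
 (.leaf (nat_lit 0x7d43f05397a) (nat_lit 1281))
) (.node (nat_lit 0x7d55b85397a) (.leaf (nat_lit 0x7d4f3c5397a) (nat_lit 1538))
 (.leaf (nat_lit 0x7d55b85397a) (nat_lit 1539))
)) (.node (nat_lit 0x7d6f3454974) (.node (nat_lit 0x7d63f454974) (.leaf (nat_lit 0x7d613c54974) (nat_lit 771))
 (.leaf (nat_lit 0x7d63f454974) (nat_lit 1281))
) (.node (nat_lit 0x7d75c054974) (.leaf (nat_lit 0x7d6f3454974) (nat_lit 1536))
 (.leaf (nat_lit 0x7d75c054974) (nat_lit 2049))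
))) (.node (nat_lit 0x7da000cc83a) (.node (nat_lit 0x7d844ccc039) (.node (nat_lit 0x7d8198cc039) (.leaf (nat_lit 0x7d8060cc039) (nat_lit 1539))
 (.leaf (nat_lit 0x7d8198cc039) (nat_lit 1794))
) (.node (nat_lit 0x7d9578cc039) (.leaf (nat_lit 0x7d844ccc039) (nat_lit 513))
 (.leaf (nat_lit 0x7d9578cc039) (nat_lit 1794))
)) (.node (nat_lit 0x7da1a0cc83a) (.node (nat_lit 0x7da058cc83a) (.leaf (nat_lit 0x7da000cc83a) (nat_lit 1027))
 (.leaf (nat_lit 0x7da058cc83a) (nat_lit 1539))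
) (.node (nat_lit 0x7db580cc83a) (.leaf (nat_lit 0x7da1a0cc83a) (nat_lit 1283))
 (.leaf (nat_lit 0x7db580cc83a) (nat_lit 1281))
)))) (.node (nat_lit 0x7e4989cea73) (.node (nat_lit 0x7e291859aca) (.node (nat_lit 0x7e15105a2c9) (.node (nat_lit 0x7e09605a2c9) (.leaf (nat_lit 0x7e091c5a2c9) (nat_lit 1795))
 (.leaf (nat_lit 0x7e09605a2c9) (nat_lit 1283))
) (.node (nat_lit 0x7e151c5a2c9) (.leaf (nat_lit 0x7e15105a2c9) (nat_lit 1536))
 (.leaf (nat_lit 0x7e151c5a2c9) (nat_lit 1538))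
)) (.node (nat_lit 0x7e351459aca) (.node (nat_lit 0x7e294859aca) (.leaf (nat_lit 0x7e291859aca) (nat_lit 1793))
 (.leaf (nat_lit 0x7e294859aca) (nat_lit 1793))
) (.node (nat_lit 0x7e351859aca) (.leaf (nat_lit 0x7e351459aca) (nat_lit 1537))
 (.leaf (nat_lit 0x7e351859aca) (nat_lit 1538))
))) (.node (nat_lit 0x7e6981cf26f) (.node (nat_lit 0x7e52b9cea73) (.node (nat_lit 0x7e4a2dcea73) (.leaf (nat_lit 0x7e4989cea73) (nat_lit 1283))
 (.leaf (nat_lit 0x7e4a2dcea73) (nat_lit 2049))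
) (.node (nat_lit 0x7e54a9cea73) (.leaf (nat_lit 0x7e52b9cea73) (nat_lit 1283))
 (.leaf (nat_lit 0x7e54a9cea73) (nat_lit 1536))
)) (.node (nat_lit 0x7e72bdcf26f) (.node (nat_lit 0x7e6a35cf26f) (.leaf (nat_lit 0x7e6981cf26f) (nat_lit 1283))
 (.leaf (nat_lit 0x7e6a35cf26f) (nat_lit 1538))
) (.node (nat_lit 0x7e74adcf26f) (.leaf (nat_lit 0x7e72bdcf26f) (nat_lit 1283))
 (.leaf (nat_lit 0x7e74adcf26f) (nat_lit 1537))
)))))) (.node (nat_lit 0x82c7987d2ec) (.node (nat_lit 0x8163ca60bcb) (.node (nat_lit 0x7ee281601a7) (.node (nat_lit 0x7ea31a9f44a) (.node (nat_lit 0x7e8e3a9fc4b) (.node (nat_lit 0x7e86d29fc4b) (.leaf (nat_lit 0x7e83169fc4b) (nat_lit 1027))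
 (.leaf (nat_lit 0x7e86d29fc4b) (nat_lit 1794))
) (.node (nat_lit 0x7e90d69fc4b) (.leaf (nat_lit 0x7e8e3a9fc4b) (nat_lit 1539))
 (.leaf (nat_lit 0x7e90d69fc4b) (nat_lit 1794))
)) (.node (nat_lit 0x7eae3e9f44a) (.node (nat_lit 0x7ea6de9f44a) (.leaf (nat_lit 0x7ea31a9f44a) (nat_lit 1538))
 (.leaf (nat_lit 0x7ea6de9f44a) (nat_lit 1282))
) (.node (nat_lit 0x7eb0ae9f44a) (.leaf (nat_lit 0x7eae3e9f44a) (nat_lit 1539))
 (.leaf (nat_lit 0x7eb0ae9f44a) (nat_lit 1794))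
))) (.node (nat_lit 0x7f227d5f9a6) (.node (nat_lit 0x7eef51601a7) (.node (nat_lit 0x7ee4b9601a7) (.leaf (nat_lit 0x7ee281601a7) (nat_lit 1792))
 (.leaf (nat_lit 0x7ee4b9601a7) (nat_lit 1795))
) (.node (nat_lit 0x7ef231601a7) (.leaf (nat_lit 0x7eef51601a7) (nat_lit 1026))
 (.leaf (nat_lit 0x7ef231601a7) (nat_lit 1536))
)) (.node (nat_lit 0x7f2f555f9a6) (.node (nat_lit 0x7f24d55f9a6) (.leaf (nat_lit 0x7f227d5f9a6) (nat_lit 1793))
 (.leaf (nat_lit 0x7f24d55f9a6) (nat_lit 1793))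
) (.node (nat_lit 0x7f32355f9a6) (.leaf (nat_lit 0x7f2f555f9a6) (nat_lit 1538))
 (.leaf (nat_lit 0x7f32355f9a6) (nat_lit 1026))
)))) (.node (nat_lit 0x81c429648b4) (.node (nat_lit 0x81a3c661bca) (.node (nat_lit 0x8169d660bcb) (.node (nat_lit 0x81694260bcb) (.leaf (nat_lit 0x8163ca60bcb) (nat_lit 1024))
 (.leaf (nat_lit 0x81694260bcb) (nat_lit 1794))
) (.node (nat_lit 0x816b6a60bcb) (.leaf (nat_lit 0x8169d660bcb) (nat_lit 1537))
 (.leaf (nat_lit 0x816b6a60bcb) (nat_lit 1793))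
)) (.node (nat_lit 0x81a9d261bca) (.node (nat_lit 0x81a95261bca) (.leaf (nat_lit 0x81a3c661bca) (nat_lit 1538))
 (.leaf (nat_lit 0x81a95261bca) (nat_lit 1794))
) (.node (nat_lit 0x81ab7261bca) (.leaf (nat_lit 0x81a9d261bca) (nat_lit 1026))
 (.leaf (nat_lit 0x81ab7261bca) (nat_lit 1794))
))) (.node (nat_lit 0x81e425650b3) (.node (nat_lit 0x81d109648b4) (.node (nat_lit 0x81cfa5648b4) (.leaf (nat_lit 0x81c429648b4) (nat_lit 1283))
 (.leaf (nat_lit 0x81cfa5648b4) (nat_lit 1538))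
) (.node (nat_lit 0x81d125648b4) (.leaf (nat_lit 0x81d109648b4) (nat_lit 1538))
 (.leaf (nat_lit 0x81d125648b4) (nat_lit 1795))
)) (.node (nat_lit 0x81f10d650b3) (.node (nat_lit 0x81efa1650b3) (.leaf (nat_lit 0x81e425650b3) (nat_lit 1795))
 (.leaf (nat_lit 0x81efa1650b3) (nat_lit 1538))
) (.node (nat_lit 0x81f121650b3) (.leaf (nat_lit 0x81f10d650b3) (nat_lit 1539))
 (.leaf (nat_lit 0x81f121650b3) (nat_lit 1792))
))))) (.node (nat_lit 0x85009c102b0) (.node (nat_lit 0x84c97a46a75) (.node (nat_lit 0x82e79c822ed) (.node (nat_lit 0x82d0c87d2ec) (.node (nat_lit 0x82d0a47d2ec) (.leaf (nat_lit 0x82c7987d2ec) (nat_lit 1537))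
 (.leaf (nat_lit 0x82d0a47d2ec) (nat_lit 1539))
) (.node (nat_lit 0x82d2707d2ec) (.leaf (nat_lit 0x82d0c87d2ec) (nat_lit 1792))
 (.leaf (nat_lit 0x82d2707d2ec) (nat_lit 1794))
)) (.node (nat_lit 0x82f0c4822ed) (.node (nat_lit 0x82f0a0822ed) (.leaf (nat_lit 0x82e79c822ed) (nat_lit 1539))
 (.leaf (nat_lit 0x82f0a0822ed) (nat_lit 1539))
) (.node (nat_lit 0x82f278822ed) (.leaf (nat_lit 0x82f0c4822ed) (nat_lit 1794))
 (.leaf (nat_lit 0x82f278822ed) (nat_lit 1793))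
))) (.node (nat_lit 0x84e97e46274) (.node (nat_lit 0x84cfe646a75) (.node (nat_lit 0x84cf2a46a75) (.leaf (nat_lit 0x84c97a46a75) (nat_lit 1282))
 (.leaf (nat_lit 0x84cf2a46a75) (nat_lit 1026))
) (.node (nat_lit 0x84d2c246a75) (.leaf (nat_lit 0x84cfe646a75) (nat_lit 1794))
 (.leaf (nat_lit 0x84d2c246a75) (nat_lit 1538))
)) (.node (nat_lit 0x84efde46274) (.node (nat_lit 0x84ef2e46274) (.leaf (nat_lit 0x84e97e46274) (nat_lit 1793))
 (.leaf (nat_lit 0x84ef2e46274) (nat_lit 1024))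
) (.node (nat_lit 0x84f2ca46274) (.leaf (nat_lit 0x84efde46274) (nat_lit 1283))
 (.leaf (nat_lit 0x84f2ca46274) (nat_lit 1536))
)))) (.node (nat_lit 0x8569342590b) (.node (nat_lit 0x8520940fabb) (.node (nat_lit 0x850410102b0) (.node (nat_lit 0x85019c102b0) (.leaf (nat_lit 0x85009c102b0) (nat_lit 1024))
 (.leaf (nat_lit 0x85019c102b0) (nat_lit 1537))
) (.node (nat_lit 0x851584102b0) (.leaf (nat_lit 0x850410102b0) (nat_lit 1793))
 (.leaf (nat_lit 0x851584102b0) (nat_lit 1794))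
)) (.node (nat_lit 0x8523e80fabb) (.node (nat_lit 0x85218c0fabb) (.leaf (nat_lit 0x8520940fabb) (nat_lit 1025))
 (.leaf (nat_lit 0x85218c0fabb) (nat_lit 1537))
) (.node (nat_lit 0x85357c0fabb) (.leaf (nat_lit 0x8523e80fabb) (nat_lit 1793))
 (.leaf (nat_lit 0x85357c0fabb) (nat_lit 1795))
))) (.node (nat_lit 0x86209d1d4bb) (.node (nat_lit 0x8574f82590b) (.node (nat_lit 0x856c242590b) (.leaf (nat_lit 0x8569342590b) (nat_lit 769))
 (.leaf (nat_lit 0x856c242590b) (nat_lit 1281))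
) (.node (nat_lit 0x8575382590b) (.leaf (nat_lit 0x8574f82590b) (nat_lit 1539))
 (.leaf (nat_lit 0x8575382590b) (nat_lit 1027))
)) (.node (nat_lit 0x8624111d4bb) (.node (nat_lit 0x86219d1d4bb) (.leaf (nat_lit 0x86209d1d4bb) (nat_lit 1281))
 (.leaf (nat_lit 0x86219d1d4bb) (nat_lit 1282))
) (.node (nat_lit 0x8635851d4bb) (.leaf (nat_lit 0x8624111d4bb) (nat_lit 1539))
 (.leaf (nat_lit 0x8635851d4bb) (nat_lit 1537))
))))))) (.node (nat_lit 0x8dc11d5a86a) (.node (nat_lit 0x89040952544) (.node (nat_lit 0x88440c76246) (.node (nat_lit 0x8781bda2d2b) (.node (nat_lit 0x86a93c2610d) (.node (nat_lit 0x8643e91dcb9) (.node (nat_lit 0x86418d1dcb9) (.leaf (nat_lit 0x8640951dcb9) (nat_lit 1793))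
 (.leaf (nat_lit 0x86418d1dcb9) (nat_lit 1793))
) (.node (nat_lit 0x86557d1dcb9) (.leaf (nat_lit 0x8643e91dcb9) (nat_lit 1536))
 (.leaf (nat_lit 0x86557d1dcb9) (nat_lit 1538))
)) (.node (nat_lit 0x86b4fc2610d) (.node (nat_lit 0x86ac382610d) (.leaf (nat_lit 0x86a93c2610d) (nat_lit 1283))
 (.leaf (nat_lit 0x86ac382610d) (nat_lit 1283))
) (.node (nat_lit 0x86b5302610d) (.leaf (nat_lit 0x86b4fc2610d) (nat_lit 2049))
 (.leaf (nat_lit 0x86b5302610d) (nat_lit 1539))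
))) (.node (nat_lit 0x87a1b5a1d2a) (.node (nat_lit 0x878a71a2d2b) (.node (nat_lit 0x8789cda2d2b) (.leaf (nat_lit 0x8781bda2d2b) (nat_lit 1793))
 (.leaf (nat_lit 0x8789cda2d2b) (nat_lit 1536))
) (.node (nat_lit 0x879369a2d2b) (.leaf (nat_lit 0x878a71a2d2b) (nat_lit 1281))
 (.leaf (nat_lit 0x879369a2d2b) (nat_lit 2051))
)) (.node (nat_lit 0x87aa5da1d2a) (.node (nat_lit 0x87a9bda1d2a) (.leaf (nat_lit 0x87a1b5a1d2a) (nat_lit 1793))
 (.leaf (nat_lit 0x87a9bda1d2a) (nat_lit 1539))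
) (.node (nat_lit 0x87b36da1d2a) (.leaf (nat_lit 0x87aa5da1d2a) (nat_lit 1281))
 (.leaf (nat_lit 0x87b36da1d2a) (nat_lit 1538))
)))) (.node (nat_lit 0x88c2ddf8571) (.node (nat_lit 0x88640873a47) (.node (nat_lit 0x884b2476246) (.node (nat_lit 0x884a4c76246) (.leaf (nat_lit 0x88440c76246) (nat_lit 1281))
 (.leaf (nat_lit 0x884a4c76246) (nat_lit 1539))
) (.node (nat_lit 0x884b9476246) (.leaf (nat_lit 0x884b2476246) (nat_lit 1795))
 (.leaf (nat_lit 0x884b9476246) (nat_lit 1538))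
)) (.node (nat_lit 0x886b2873a47) (.node (nat_lit 0x8869f873a47) (.leaf (nat_lit 0x88640873a47) (nat_lit 1793))
 (.leaf (nat_lit 0x8869f873a47) (nat_lit 1537))
) (.node (nat_lit 0x886b8473a47) (.leaf (nat_lit 0x886b2873a47) (nat_lit 1795))
 (.leaf (nat_lit 0x886b8473a47) (nat_lit 1536))
))) (.node (nat_lit 0x88e2e1f8d6f) (.node (nat_lit 0x88cbddf8571) (.node (nat_lit 0x88c47df8571) (.leaf (nat_lit 0x88c2ddf8571) (nat_lit 2050))
 (.leaf (nat_lit 0x88c47df8571) (nat_lit 2050))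
) (.node (nat_lit 0x88d421f8571) (.leaf (nat_lit 0x88cbddf8571) (nat_lit 1281))
 (.leaf (nat_lit 0x88d421f8571) (nat_lit 1792))
)) (.node (nat_lit 0x88ebd9f8d6f) (.node (nat_lit 0x88e481f8d6f) (.leaf (nat_lit 0x88e2e1f8d6f) (nat_lit 1537))
 (.leaf (nat_lit 0x88e481f8d6f) (nat_lit 2049))
) (.node (nat_lit 0x88f425f8d6f) (.leaf (nat_lit 0x88ebd9f8d6f) (nat_lit 1794))
 (.leaf (nat_lit 0x88f425f8d6f) (nat_lit 1282))
))))) (.node (nat_lit 0x8988ce248b8) (.node (nat_lit 0x89413cb2bf5) (.node (nat_lit 0x89240d51d45) (.node (nat_lit 0x890b2952544) (.node (nat_lit 0x8909f952544) (.leaf (nat_lit 0x89040952544) (nat_lit 2050))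
 (.leaf (nat_lit 0x8909f952544) (nat_lit 770))
) (.node (nat_lit 0x890b8552544) (.leaf (nat_lit 0x890b2952544) (nat_lit 2051))
 (.leaf (nat_lit 0x890b8552544) (nat_lit 1282))
)) (.node (nat_lit 0x892b2551d45) (.node (nat_lit 0x892a4d51d45) (.leaf (nat_lit 0x89240d51d45) (nat_lit 2050))
 (.leaf (nat_lit 0x892a4d51d45) (nat_lit 1794))
) (.node (nat_lit 0x892b9551d45) (.leaf (nat_lit 0x892b2551d45) (nat_lit 1536))
 (.leaf (nat_lit 0x892b9551d45) (nat_lit 1281))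
))) (.node (nat_lit 0x896144b53f4) (.node (nat_lit 0x894f34b2bf5) (.node (nat_lit 0x8943f4b2bf5) (.leaf (nat_lit 0x89413cb2bf5) (nat_lit 769))
 (.leaf (nat_lit 0x8943f4b2bf5) (nat_lit 259))
) (.node (nat_lit 0x8955c0b2bf5) (.leaf (nat_lit 0x894f34b2bf5) (nat_lit 2051))
 (.leaf (nat_lit 0x8955c0b2bf5) (nat_lit 2050))
)) (.node (nat_lit 0x896f3cb53f4) (.node (nat_lit 0x8963f0b53f4) (.leaf (nat_lit 0x896144b53f4) (nat_lit 1793))
 (.leaf (nat_lit 0x8963f0b53f4) (nat_lit 1283))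
) (.node (nat_lit 0x8975b8b53f4) (.leaf (nat_lit 0x896f3cb53f4) (nat_lit 1537))
 (.leaf (nat_lit 0x8975b8b53f4) (nat_lit 1537))
)))) (.node (nat_lit 0x8d0294feb0e) (.node (nat_lit 0x89a8ca240b7) (.node (nat_lit 0x89903a248b8) (.node (nat_lit 0x898b52248b8) (.leaf (nat_lit 0x8988ce248b8) (nat_lit 1795))
 (.leaf (nat_lit 0x898b52248b8) (nat_lit 1792))
) (.node (nat_lit 0x8995c6248b8) (.leaf (nat_lit 0x89903a248b8) (nat_lit 1539))
 (.leaf (nat_lit 0x8995c6248b8) (nat_lit 1538))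
)) (.node (nat_lit 0x89b03e240b7) (.node (nat_lit 0x89ab56240b7) (.leaf (nat_lit 0x89a8ca240b7) (nat_lit 1795))
 (.leaf (nat_lit 0x89ab56240b7) (nat_lit 1793))
) (.node (nat_lit 0x89b5be240b7) (.leaf (nat_lit 0x89b03e240b7) (nat_lit 1538))
 (.leaf (nat_lit 0x89b5be240b7) (nat_lit 1538))
))) (.node (nat_lit 0x8da298fe309) (.node (nat_lit 0x8d0580feb0e) (.node (nat_lit 0x8d042cfeb0e) (.leaf (nat_lit 0x8d0294feb0e) (nat_lit 1025))
 (.leaf (nat_lit 0x8d042cfeb0e) (nat_lit 1280))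
) (.node (nat_lit 0x8d0a50feb0e) (.leaf (nat_lit 0x8d0580feb0e) (nat_lit 1283))
 (.leaf (nat_lit 0x8d0a50feb0e) (nat_lit 2049))
)) (.node (nat_lit 0x8da584fe309) (.node (nat_lit 0x8da434fe309) (.leaf (nat_lit 0x8da298fe309) (nat_lit 1536))
 (.leaf (nat_lit 0x8da434fe309) (nat_lit 1281))
) (.node (nat_lit 0x8daa54fe309) (.leaf (nat_lit 0x8da584fe309) (nat_lit 1283))
 (.leaf (nat_lit 0x8daa54fe309) (nat_lit 1536))
)))))) (.node (nat_lit 0x9041cd6d135) (.node (nat_lit 0x8e43c51ba5e) (.node (nat_lit 0x8e00e9cdd5e) (.node (nat_lit 0x8de1155b865) (.node (nat_lit 0x8dc9015a86a) (.node (nat_lit 0x8dc15d5a86a) (.leaf (nat_lit 0x8dc11d5a86a) (nat_lit 1281))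
 (.leaf (nat_lit 0x8dc15d5a86a) (nat_lit 1537))
) (.node (nat_lit 0x8dcc7d5a86a) (.leaf (nat_lit 0x8dc9015a86a) (nat_lit 1793))
 (.leaf (nat_lit 0x8dcc7d5a86a) (nat_lit 1538))
)) (.node (nat_lit 0x8de9055b865) (.node (nat_lit 0x8de1555b865) (.leaf (nat_lit 0x8de1155b865) (nat_lit 1282))
 (.leaf (nat_lit 0x8de1555b865) (nat_lit 1539))
) (.node (nat_lit 0x8dec755b865) (.leaf (nat_lit 0x8de9055b865) (nat_lit 1281))
 (.leaf (nat_lit 0x8dec755b865) (nat_lit 2051))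
))) (.node (nat_lit 0x8e20e5cfd60) (.node (nat_lit 0x8e0759cdd5e) (.node (nat_lit 0x8e0671cdd5e) (.leaf (nat_lit 0x8e00e9cdd5e) (nat_lit 1282))
 (.leaf (nat_lit 0x8e0671cdd5e) (nat_lit 2051))
) (.node (nat_lit 0x8e13b9cdd5e) (.leaf (nat_lit 0x8e0759cdd5e) (nat_lit 1538))
 (.leaf (nat_lit 0x8e13b9cdd5e) (nat_lit 770))
)) (.node (nat_lit 0x8e275dcfd60) (.node (nat_lit 0x8e2675cfd60) (.leaf (nat_lit 0x8e20e5cfd60) (nat_lit 1280))
 (.leaf (nat_lit 0x8e2675cfd60) (nat_lit 2049))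
) (.node (nat_lit 0x8e33bdcfd60) (.leaf (nat_lit 0x8e275dcfd60) (nat_lit 2049))
 (.leaf (nat_lit 0x8e33bdcfd60) (nat_lit 1283))
)))) (.node (nat_lit 0x8f21b25ca3b) (.node (nat_lit 0x8e63c91b25f) (.node (nat_lit 0x8e49d11ba5e) (.node (nat_lit 0x8e49511ba5e) (.leaf (nat_lit 0x8e43c51ba5e) (nat_lit 1282))
 (.leaf (nat_lit 0x8e49511ba5e) (nat_lit 1539))
) (.node (nat_lit 0x8e4b711ba5e) (.leaf (nat_lit 0x8e49d11ba5e) (nat_lit 1794))
 (.leaf (nat_lit 0x8e4b711ba5e) (nat_lit 1536))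
)) (.node (nat_lit 0x8e69d51b25f) (.node (nat_lit 0x8e69411b25f) (.leaf (nat_lit 0x8e63c91b25f) (nat_lit 1282))
 (.leaf (nat_lit 0x8e69411b25f) (nat_lit 1539))
) (.node (nat_lit 0x8e6b691b25f) (.leaf (nat_lit 0x8e69d51b25f) (nat_lit 770))
 (.leaf (nat_lit 0x8e6b691b25f) (nat_lit 2049))
))) (.node (nat_lit 0x8f41ae5da3a) (.node (nat_lit 0x8f2e825ca3b) (.node (nat_lit 0x8f2a9e5ca3b) (.leaf (nat_lit 0x8f21b25ca3b) (nat_lit 1792))
 (.leaf (nat_lit 0x8f2a9e5ca3b) (nat_lit 1537))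
) (.node (nat_lit 0x8f34965ca3b) (.leaf (nat_lit 0x8f2e825ca3b) (nat_lit 1793))
 (.leaf (nat_lit 0x8f34965ca3b) (nat_lit 1539))
)) (.node (nat_lit 0x8f4e865da3a) (.node (nat_lit 0x8f4a9a5da3a) (.leaf (nat_lit 0x8f41ae5da3a) (nat_lit 1281))
 (.leaf (nat_lit 0x8f4a9a5da3a) (nat_lit 1539))
) (.node (nat_lit 0x8f54925da3a) (.leaf (nat_lit 0x8f4e865da3a) (nat_lit 1282))
 (.leaf (nat_lit 0x8f54925da3a) (nat_lit 1539))
))))) (.node (nat_lit 0x91c060ef1d7) (.node (nat_lit 0x918574438e5) (.node (nat_lit 0x9061c96e12e) (.node (nat_lit 0x90502d6d135) (.node (nat_lit 0x90469d6d135) (.leaf (nat_lit 0x9041cd6d135) (nat_lit 1537))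
 (.leaf (nat_lit 0x90469d6d135) (nat_lit 1794))
) (.node (nat_lit 0x9051cd6d135) (.leaf (nat_lit 0x90502d6d135) (nat_lit 2048))
 (.leaf (nat_lit 0x9051cd6d135) (nat_lit 1280))
)) (.node (nat_lit 0x9070356e12e) (.node (nat_lit 0x9066996e12e) (.leaf (nat_lit 0x9061c96e12e) (nat_lit 1537))
 (.leaf (nat_lit 0x9066996e12e) (nat_lit 1283))
) (.node (nat_lit 0x9071c96e12e) (.leaf (nat_lit 0x9070356e12e) (nat_lit 1539))
 (.leaf (nat_lit 0x9071c96e12e) (nat_lit 1795))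
))) (.node (nat_lit 0x91a53c440e6) (.node (nat_lit 0x918f00438e5) (.node (nat_lit 0x918b00438e5) (.leaf (nat_lit 0x918574438e5) (nat_lit 1025))
 (.leaf (nat_lit 0x918b00438e5) (nat_lit 1792))
) (.node (nat_lit 0x919414438e5) (.leaf (nat_lit 0x918f00438e5) (nat_lit 1282))
 (.leaf (nat_lit 0x919414438e5) (nat_lit 1539))
)) (.node (nat_lit 0x91aef8440e6) (.node (nat_lit 0x91aafc440e6) (.leaf (nat_lit 0x91a53c440e6) (nat_lit 1537))
 (.leaf (nat_lit 0x91aafc440e6) (nat_lit 1794))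
) (.node (nat_lit 0x91b418440e6) (.leaf (nat_lit 0x91aef8440e6) (nat_lit 1280))
 (.leaf (nat_lit 0x91b418440e6) (nat_lit 1539))
)))) (.node (nat_lit 0x93001900301) (.node (nat_lit 0x920000ee9d6) (.node (nat_lit 0x91c44cef1d7) (.node (nat_lit 0x91c198ef1d7) (.leaf (nat_lit 0x91c060ef1d7) (nat_lit 1280))
 (.leaf (nat_lit 0x91c198ef1d7) (nat_lit 1536))
) (.node (nat_lit 0x91d578ef1d7) (.leaf (nat_lit 0x91c44cef1d7) (nat_lit 1795))
 (.leaf (nat_lit 0x91d578ef1d7) (nat_lit 1026))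
)) (.node (nat_lit 0x9201a0ee9d6) (.node (nat_lit 0x920058ee9d6) (.leaf (nat_lit 0x920000ee9d6) (nat_lit 1283))
 (.leaf (nat_lit 0x920058ee9d6) (nat_lit 1283))
) (.node (nat_lit 0x921580ee9d6) (.leaf (nat_lit 0x9201a0ee9d6) (nat_lit 1538))
 (.leaf (nat_lit 0x921580ee9d6) (nat_lit 1538))
))) (.node (nat_lit 0x93201501303) (.node (nat_lit 0x9305c500301) (.node (nat_lit 0x93006900301) (.leaf (nat_lit 0x93001900301) (nat_lit 1537))
 (.leaf (nat_lit 0x93006900301) (nat_lit 1537))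
) (.node (nat_lit 0x93092d00301) (.leaf (nat_lit 0x9305c500301) (nat_lit 1794))
 (.leaf (nat_lit 0x93092d00301) (nat_lit 1794))
)) (.node (nat_lit 0x9325c101303) (.node (nat_lit 0x93207101303) (.leaf (nat_lit 0x93201501303) (nat_lit 1537))
 (.leaf (nat_lit 0x93207101303) (nat_lit 1025))
) (.node (nat_lit 0x93292501303) (.leaf (nat_lit 0x9325c101303) (nat_lit 1282))
 (.leaf (nat_lit 0x93292501303) (nat_lit 1794))
)))))))) (.node (nat_lit 0xa20309f930b) (.node (nat_lit 0x9901b411a62) (.node (nat_lit 0x95c2e4689ba) (.node (nat_lit 0x9500da5396f) (.node (nat_lit 0x94c0de5596e) (.node (nat_lit 0x93c09c9c244) (.node (nat_lit 0x9383e89ca45) (.node (nat_lit 0x93818c9ca45) (.leaf (nat_lit 0x9380949ca45) (nat_lit 1794))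
 (.leaf (nat_lit 0x93818c9ca45) (nat_lit 1793))
) (.node (nat_lit 0x93957c9ca45) (.leaf (nat_lit 0x9383e89ca45) (nat_lit 1539))
 (.leaf (nat_lit 0x93957c9ca45) (nat_lit 1027))
)) (.node (nat_lit 0x93c4109c244) (.node (nat_lit 0x93c19c9c244) (.leaf (nat_lit 0x93c09c9c244) (nat_lit 1793))
 (.leaf (nat_lit 0x93c19c9c244) (nat_lit 1793))
) (.node (nat_lit 0x93d5849c244) (.leaf (nat_lit 0x93c4109c244) (nat_lit 2050))
 (.leaf (nat_lit 0x93d5849c244) (nat_lit 2048))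
))) (.node (nat_lit 0x94e7c161a25) (.node (nat_lit 0x94c64e5596e) (.node (nat_lit 0x94c1d65596e) (.leaf (nat_lit 0x94c0de5596e) (nat_lit 1027))
 (.leaf (nat_lit 0x94c1d65596e) (nat_lit 1281))
) (.node (nat_lit 0x94c9ae5596e) (.leaf (nat_lit 0x94c64e5596e) (nat_lit 1281))
 (.leaf (nat_lit 0x94c9ae5596e) (nat_lit 1538))
)) (.node (nat_lit 0x94ecf161a25) (.node (nat_lit 0x94e87561a25) (.leaf (nat_lit 0x94e7c161a25) (nat_lit 1537))
 (.leaf (nat_lit 0x94e87561a25) (nat_lit 1283))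
) (.node (nat_lit 0x94ef1161a25) (.leaf (nat_lit 0x94ecf161a25) (nat_lit 1537))
 (.leaf (nat_lit 0x94ef1161a25) (nat_lit 1283))
)))) (.node (nat_lit 0x954d68332a5) (.node (nat_lit 0x952d6c342a1) (.node (nat_lit 0x9506365396f) (.node (nat_lit 0x9501da5396f) (.leaf (nat_lit 0x9500da5396f) (nat_lit 2048))
 (.leaf (nat_lit 0x9501da5396f) (nat_lit 1793))
) (.node (nat_lit 0x9509aa5396f) (.leaf (nat_lit 0x9506365396f) (nat_lit 1792))
 (.leaf (nat_lit 0x9509aa5396f) (nat_lit 1539))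
)) (.node (nat_lit 0x952fb4342a1) (.node (nat_lit 0x952ddc342a1) (.leaf (nat_lit 0x952d6c342a1) (nat_lit 1537))
 (.leaf (nat_lit 0x952ddc342a1) (nat_lit 1282))
) (.node (nat_lit 0x953240342a1) (.leaf (nat_lit 0x952fb4342a1) (nat_lit 1538))
 (.leaf (nat_lit 0x953240342a1) (nat_lit 1283))
))) (.node (nat_lit 0x9567c56122a) (.node (nat_lit 0x954fb0332a5) (.node (nat_lit 0x954dcc332a5) (.leaf (nat_lit 0x954d68332a5) (nat_lit 2049))
 (.leaf (nat_lit 0x954dcc332a5) (nat_lit 1283))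
) (.node (nat_lit 0x955238332a5) (.leaf (nat_lit 0x954fb0332a5) (nat_lit 2051))
 (.leaf (nat_lit 0x955238332a5) (nat_lit 1282))
)) (.node (nat_lit 0x956cf96122a) (.node (nat_lit 0x9568856122a) (.leaf (nat_lit 0x9567c56122a) (nat_lit 2049))
 (.leaf (nat_lit 0x9568856122a) (nat_lit 1795))
) (.node (nat_lit 0x956f0d6122a) (.leaf (nat_lit 0x956cf96122a) (nat_lit 1537))
 (.leaf (nat_lit 0x956f0d6122a) (nat_lit 1283))
))))) (.node (nat_lit 0x97226d4ec32) (.node (nat_lit 0x96027e83072) (.node (nat_lit 0x95e2f0699b9) (.node (nat_lit 0x95ce74689ba) (.node (nat_lit 0x95c534689ba) (.leaf (nat_lit 0x95c2e4689ba) (nat_lit 1793))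
 (.leaf (nat_lit 0x95c534689ba) (nat_lit 1280))
) (.node (nat_lit 0x95d440689ba) (.leaf (nat_lit 0x95ce74689ba) (nat_lit 1538))
 (.leaf (nat_lit 0x95d440689ba) (nat_lit 2048))
)) (.node (nat_lit 0x95ee78699b9) (.node (nat_lit 0x95e530699b9) (.leaf (nat_lit 0x95e2f0699b9) (nat_lit 1283))
 (.leaf (nat_lit 0x95e530699b9) (nat_lit 1281))
) (.node (nat_lit 0x95f444699b9) (.leaf (nat_lit 0x95ee78699b9) (nat_lit 2050))
 (.leaf (nat_lit 0x95f444699b9) (nat_lit 1539))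
))) (.node (nat_lit 0x96428282873) (.node (nat_lit 0x960f5683072) (.node (nat_lit 0x9604d683072) (.leaf (nat_lit 0x96027e83072) (nat_lit 1536))
 (.leaf (nat_lit 0x9604d683072) (nat_lit 1539))
) (.node (nat_lit 0x96123683072) (.leaf (nat_lit 0x960f5683072) (nat_lit 1794))
 (.leaf (nat_lit 0x96123683072) (nat_lit 1794))
)) (.node (nat_lit 0x964f5282873) (.node (nat_lit 0x9644ba82873) (.leaf (nat_lit 0x96428282873) (nat_lit 1539))
 (.leaf (nat_lit 0x9644ba82873) (nat_lit 1027))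
) (.node (nat_lit 0x96523282873) (.leaf (nat_lit 0x964f5282873) (nat_lit 1794))
 (.leaf (nat_lit 0x96523282873) (nat_lit 1281))
)))) (.node (nat_lit 0x98239839d05) (.node (nat_lit 0x9762654c431) (.node (nat_lit 0x972bb54ec32) (.node (nat_lit 0x972ad94ec32) (.leaf (nat_lit 0x97226d4ec32) (nat_lit 1537))
 (.leaf (nat_lit 0x972ad94ec32) (nat_lit 1795))
) (.node (nat_lit 0x972f654ec32) (.leaf (nat_lit 0x972bb54ec32) (nat_lit 1795))
 (.leaf (nat_lit 0x972f654ec32) (nat_lit 1025))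
)) (.node (nat_lit 0x976bb14c431) (.node (nat_lit 0x976ad14c431) (.leaf (nat_lit 0x9762654c431) (nat_lit 2050))
 (.leaf (nat_lit 0x976ad14c431) (nat_lit 1282))
) (.node (nat_lit 0x976f614c431) (.leaf (nat_lit 0x976bb14c431) (nat_lit 1794))
 (.leaf (nat_lit 0x976f614c431) (nat_lit 1536))
))) (.node (nat_lit 0x98639439506) (.node (nat_lit 0x9829c439d05) (.node (nat_lit 0x9826c039d05) (.leaf (nat_lit 0x98239839d05) (nat_lit 2051))
 (.leaf (nat_lit 0x9826c039d05) (nat_lit 1539))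
) (.node (nat_lit 0x98320839d05) (.leaf (nat_lit 0x9829c439d05) (nat_lit 1794))
 (.leaf (nat_lit 0x98320839d05) (nat_lit 1282))
)) (.node (nat_lit 0x9869c839506) (.node (nat_lit 0x9866c439506) (.leaf (nat_lit 0x98639439506) (nat_lit 2049))
 (.leaf (nat_lit 0x9866c439506) (nat_lit 2049))
) (.node (nat_lit 0x98720c39506) (.leaf (nat_lit 0x9869c839506) (nat_lit 1280))
 (.leaf (nat_lit 0x98720c39506) (nat_lit 1793))
)))))) (.node (nat_lit 0xa04019b2d39) (.node (nat_lit 0x9b4090c5167) (.node (nat_lit 0x99c59d459a3) (.node (nat_lit 0x9921bc12260) (.node (nat_lit 0x990a5c11a62) (.node (nat_lit 0x9909bc11a62) (.leaf (nat_lit 0x9901b411a62) (nat_lit 1536))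
 (.leaf (nat_lit 0x9909bc11a62) (nat_lit 1792))
) (.node (nat_lit 0x99136c11a62) (.leaf (nat_lit 0x990a5c11a62) (nat_lit 1539))
 (.leaf (nat_lit 0x99136c11a62) (nat_lit 1283))
)) (.node (nat_lit 0x992a7012260) (.node (nat_lit 0x9929cc12260) (.leaf (nat_lit 0x9921bc12260) (nat_lit 512))
 (.leaf (nat_lit 0x9929cc12260) (nat_lit 1795))
) (.node (nat_lit 0x99336812260) (.leaf (nat_lit 0x992a7012260) (nat_lit 1027))
 (.leaf (nat_lit 0x99336812260) (nat_lit 1795))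
))) (.node (nat_lit 0x99e591469a5) (.node (nat_lit 0x99cf59459a3) (.node (nat_lit 0x99ccb5459a3) (.leaf (nat_lit 0x99c59d459a3) (nat_lit 1794))
 (.leaf (nat_lit 0x99ccb5459a3) (nat_lit 1539))
) (.node (nat_lit 0x99cfc9459a3) (.leaf (nat_lit 0x99cf59459a3) (nat_lit 1539))
 (.leaf (nat_lit 0x99cfc9459a3) (nat_lit 1281))
)) (.node (nat_lit 0x99ef5d469a5) (.node (nat_lit 0x99ecb1469a5) (.leaf (nat_lit 0x99e591469a5) (nat_lit 769))
 (.leaf (nat_lit 0x99ecb1469a5) (nat_lit 2048))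
) (.node (nat_lit 0x99efcd469a5) (.leaf (nat_lit 0x99ef5d469a5) (nat_lit 1538))
 (.leaf (nat_lit 0x99efcd469a5) (nat_lit 1282))
)))) (.node (nat_lit 0x9dc00dc835b) (.node (nat_lit 0x9b608cc6164) (.node (nat_lit 0x9b4ca0c5167) (.node (nat_lit 0x9b4694c5167) (.leaf (nat_lit 0x9b4090c5167) (nat_lit 1537))
 (.leaf (nat_lit 0x9b4694c5167) (nat_lit 1280))
) (.node (nat_lit 0x9b4d14c5167) (.leaf (nat_lit 0x9b4ca0c5167) (nat_lit 1538))
 (.leaf (nat_lit 0x9b4d14c5167) (nat_lit 1794))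
)) (.node (nat_lit 0x9b6c9cc6164) (.node (nat_lit 0x9b668cc6164) (.leaf (nat_lit 0x9b608cc6164) (nat_lit 1537))
 (.leaf (nat_lit 0x9b668cc6164) (nat_lit 1281))
) (.node (nat_lit 0x9b6d0cc6164) (.leaf (nat_lit 0x9b6c9cc6164) (nat_lit 512))
 (.leaf (nat_lit 0x9b6d0cc6164) (nat_lit 1281))
))) (.node (nat_lit 0x9de011c935a) (.node (nat_lit 0x9dca95c835b) (.node (nat_lit 0x9dc06dc835b) (.leaf (nat_lit 0x9dc00dc835b) (nat_lit 1283))
 (.leaf (nat_lit 0x9dc06dc835b) (nat_lit 1280))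
) (.node (nat_lit 0x9dce6dc835b) (.leaf (nat_lit 0x9dca95c835b) (nat_lit 1538))
 (.leaf (nat_lit 0x9dce6dc835b) (nat_lit 1538))
)) (.node (nat_lit 0x9dea85c935a) (.node (nat_lit 0x9de065c935a) (.leaf (nat_lit 0x9de011c935a) (nat_lit 1792))
 (.leaf (nat_lit 0x9de065c935a) (nat_lit 771))
) (.node (nat_lit 0x9dee7dc935a) (.leaf (nat_lit 0x9dea85c935a) (nat_lit 2050))
 (.leaf (nat_lit 0x9dee7dc935a) (nat_lit 1537))
))))) (.node (nat_lit 0xa1010d238e7) (.node (nat_lit 0xa0a21de5cc1) (.node (nat_lit 0xa06015b1d38) (.node (nat_lit 0xa045c5b2d39) (.node (nat_lit 0xa04069b2d39) (.leaf (nat_lit 0xa04019b2d39) (nat_lit 1283))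
 (.leaf (nat_lit 0xa04069b2d39) (nat_lit 1280))
) (.node (nat_lit 0xa0492db2d39) (.leaf (nat_lit 0xa045c5b2d39) (nat_lit 1538))
 (.leaf (nat_lit 0xa0492db2d39) (nat_lit 1538))
)) (.node (nat_lit 0xa065c1b1d38) (.node (nat_lit 0xa06071b1d38) (.leaf (nat_lit 0xa06015b1d38) (nat_lit 1283))
 (.leaf (nat_lit 0xa06071b1d38) (nat_lit 1280))
) (.node (nat_lit 0xa06925b1d38) (.leaf (nat_lit 0xa065c1b1d38) (nat_lit 2050))
 (.leaf (nat_lit 0xa06925b1d38) (nat_lit 1538))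
))) (.node (nat_lit 0xa0c221e54c3) (.node (nat_lit 0xa0b09de5cc1) (.node (nat_lit 0xa0acd1e5cc1) (.leaf (nat_lit 0xa0a21de5cc1) (nat_lit 1794))
 (.leaf (nat_lit 0xa0acd1e5cc1) (nat_lit 1538))
) (.node (nat_lit 0xa0b439e5cc1) (.leaf (nat_lit 0xa0b09de5cc1) (nat_lit 1795))
 (.leaf (nat_lit 0xa0b439e5cc1) (nat_lit 1538))
)) (.node (nat_lit 0xa0d099e54c3) (.node (nat_lit 0xa0ccd5e54c3) (.leaf (nat_lit 0xa0c221e54c3) (nat_lit 1282))
 (.leaf (nat_lit 0xa0ccd5e54c3) (nat_lit 1536))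
) (.node (nat_lit 0xa0d43de54c3) (.leaf (nat_lit 0xa0d099e54c3) (nat_lit 1283))
 (.leaf (nat_lit 0xa0d43de54c3) (nat_lit 1538))
)))) (.node (nat_lit 0xa1c97c50254) (.node (nat_lit 0xa12111230ec) (.node (nat_lit 0xa108a1238e7) (.node (nat_lit 0xa10525238e7) (.leaf (nat_lit 0xa1010d238e7) (nat_lit 1793))
 (.leaf (nat_lit 0xa10525238e7) (nat_lit 1283))
) (.node (nat_lit 0xa10fc1238e7) (.leaf (nat_lit 0xa108a1238e7) (nat_lit 1537))
 (.leaf (nat_lit 0xa10fc1238e7) (nat_lit 1026))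
)) (.node (nat_lit 0xa128a5230ec) (.node (nat_lit 0xa12529230ec) (.leaf (nat_lit 0xa12111230ec) (nat_lit 1281))
 (.leaf (nat_lit 0xa12529230ec) (nat_lit 1283))
) (.node (nat_lit 0xa12fc5230ec) (.leaf (nat_lit 0xa128a5230ec) (nat_lit 1538))
 (.leaf (nat_lit 0xa12fc5230ec) (nat_lit 1536))
))) (.node (nat_lit 0xa1e9784fa50) (.node (nat_lit 0xa1cfdc50254) (.node (nat_lit 0xa1cf2c50254) (.leaf (nat_lit 0xa1c97c50254) (nat_lit 2049))
 (.leaf (nat_lit 0xa1cf2c50254) (nat_lit 1794))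
) (.node (nat_lit 0xa1d2c850254) (.leaf (nat_lit 0xa1cfdc50254) (nat_lit 1536))
 (.leaf (nat_lit 0xa1d2c850254) (nat_lit 1283))
)) (.node (nat_lit 0xa1efe44fa50) (.node (nat_lit 0xa1ef284fa50) (.leaf (nat_lit 0xa1e9784fa50) (nat_lit 1539))
 (.leaf (nat_lit 0xa1ef284fa50) (nat_lit 1282))
) (.node (nat_lit 0xa1f2c04fa50) (.leaf (nat_lit 0xa1efe44fa50) (nat_lit 2051))
 (.leaf (nat_lit 0xa1f2c04fa50) (nat_lit 1282))
))))))) (.node (nat_lit 0xa8c2cc9010a) (.node (nat_lit 0xa7c12cba0a9) (.node (nat_lit 0xa542e66743d) (.node (nat_lit 0xa4804dec063) (.node (nat_lit 0xa22301f9b08) (.node (nat_lit 0xa20efdf930b) (.node (nat_lit 0xa20345f930b) (.leaf (nat_lit 0xa20309f930b) (nat_lit 1537))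
 (.leaf (nat_lit 0xa20345f930b) (nat_lit 1281))
) (.node (nat_lit 0xa21339f930b) (.leaf (nat_lit 0xa20efdf930b) (nat_lit 1281))
 (.leaf (nat_lit 0xa21339f930b) (nat_lit 1027))
)) (.node (nat_lit 0xa22f05f9b08) (.node (nat_lit 0xa2234df9b08) (.leaf (nat_lit 0xa22301f9b08) (nat_lit 1024))
 (.leaf (nat_lit 0xa2234df9b08) (nat_lit 1280))
) (.node (nat_lit 0xa2333df9b08) (.leaf (nat_lit 0xa22f05f9b08) (nat_lit 1792))
 (.leaf (nat_lit 0xa2333df9b08) (nat_lit 1027))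
))) (.node (nat_lit 0xa4a051ec867) (.node (nat_lit 0xa48ac1ec063) (.node (nat_lit 0xa48911ec063) (.leaf (nat_lit 0xa4804dec063) (nat_lit 1537))
 (.leaf (nat_lit 0xa48911ec063) (nat_lit 1795))
) (.node (nat_lit 0xa492edec063) (.leaf (nat_lit 0xa48ac1ec063) (nat_lit 2048))
 (.leaf (nat_lit 0xa492edec063) (nat_lit 1792))
)) (.node (nat_lit 0xa4aaedec867) (.node (nat_lit 0xa4a915ec867) (.leaf (nat_lit 0xa4a051ec867) (nat_lit 1537))
 (.leaf (nat_lit 0xa4a915ec867) (nat_lit 1282))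
) (.node (nat_lit 0xa4b2e5ec867) (.leaf (nat_lit 0xa4aaedec867) (nat_lit 1537))
 (.leaf (nat_lit 0xa4b2e5ec867) (nat_lit 1794))
)))) (.node (nat_lit 0xa70100cdd03) (.node (nat_lit 0xa562f267c3c) (.node (nat_lit 0xa54e766743d) (.node (nat_lit 0xa545366743d) (.leaf (nat_lit 0xa542e66743d) (nat_lit 1539))
 (.leaf (nat_lit 0xa545366743d) (nat_lit 1026))
) (.node (nat_lit 0xa554426743d) (.leaf (nat_lit 0xa54e766743d) (nat_lit 1795))
 (.leaf (nat_lit 0xa554426743d) (nat_lit 1792))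
)) (.node (nat_lit 0xa56e7a67c3c) (.node (nat_lit 0xa5653267c3c) (.leaf (nat_lit 0xa562f267c3c) (nat_lit 1537))
 (.leaf (nat_lit 0xa5653267c3c) (nat_lit 1025))
) (.node (nat_lit 0xa5744667c3c) (.leaf (nat_lit 0xa56e7a67c3c) (nat_lit 1283))
 (.leaf (nat_lit 0xa5744667c3c) (nat_lit 1283))
))) (.node (nat_lit 0xa720fccd502) (.node (nat_lit 0xa70260cdd03) (.node (nat_lit 0xa701a4cdd03) (.leaf (nat_lit 0xa70100cdd03) (nat_lit 1024))
 (.leaf (nat_lit 0xa701a4cdd03) (nat_lit 1794))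
) (.node (nat_lit 0xa70b04cdd03) (.leaf (nat_lit 0xa70260cdd03) (nat_lit 1539))
 (.leaf (nat_lit 0xa70b04cdd03) (nat_lit 1794))
)) (.node (nat_lit 0xa7225ccd502) (.node (nat_lit 0xa72190cd502) (.leaf (nat_lit 0xa720fccd502) (nat_lit 1538))
 (.leaf (nat_lit 0xa72190cd502) (nat_lit 1282))
) (.node (nat_lit 0xa72acccd502) (.leaf (nat_lit 0xa7225ccd502) (nat_lit 1025))
 (.leaf (nat_lit 0xa72acccd502) (nat_lit 1794))
))))) (.node (nat_lit 0xa840a29cb65) (.node (nat_lit 0xa80055f6362) (.node (nat_lit 0xa7e130bd0a7) (.node (nat_lit 0xa7cdecba0a9) (.node (nat_lit 0xa7c890ba0a9) (.leaf (nat_lit 0xa7c12cba0a9) (nat_lit 771))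
 (.leaf (nat_lit 0xa7c890ba0a9) (nat_lit 1537))
) (.node (nat_lit 0xa7cf84ba0a9) (.leaf (nat_lit 0xa7cdecba0a9) (nat_lit 1283))
 (.leaf (nat_lit 0xa7cf84ba0a9) (nat_lit 1537))
)) (.node (nat_lit 0xa7ede8bd0a7) (.node (nat_lit 0xa7e89cbd0a7) (.leaf (nat_lit 0xa7e130bd0a7) (nat_lit 1792))
 (.leaf (nat_lit 0xa7e89cbd0a7) (nat_lit 1538))
) (.node (nat_lit 0xa7ef94bd0a7) (.leaf (nat_lit 0xa7ede8bd0a7) (nat_lit 769))
 (.leaf (nat_lit 0xa7ef94bd0a7) (nat_lit 2049))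
))) (.node (nat_lit 0xa8205df6b64) (.node (nat_lit 0xa80abdf6362) (.node (nat_lit 0xa80639f6362) (.leaf (nat_lit 0xa80055f6362) (nat_lit 1538))
 (.leaf (nat_lit 0xa80639f6362) (nat_lit 1538))
) (.node (nat_lit 0xa812a9f6362) (.leaf (nat_lit 0xa80abdf6362) (nat_lit 1283))
 (.leaf (nat_lit 0xa812a9f6362) (nat_lit 1281))
)) (.node (nat_lit 0xa82ab9f6b64) (.node (nat_lit 0xa82641f6b64) (.leaf (nat_lit 0xa8205df6b64) (nat_lit 1536))
 (.leaf (nat_lit 0xa82641f6b64) (nat_lit 1538))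
) (.node (nat_lit 0xa832a5f6b64) (.leaf (nat_lit 0xa82ab9f6b64) (nat_lit 1280))
 (.leaf (nat_lit 0xa832a5f6b64) (nat_lit 1282))
)))) (.node (nat_lit 0xa882d05bc48) (.node (nat_lit 0xa8609a9c363) (.node (nat_lit 0xa844169cb65) (.node (nat_lit 0xa841869cb65) (.leaf (nat_lit 0xa840a29cb65) (nat_lit 1283))
 (.leaf (nat_lit 0xa841869cb65) (nat_lit 1537))
) (.node (nat_lit 0xa846469cb65) (.leaf (nat_lit 0xa844169cb65) (nat_lit 768))
 (.leaf (nat_lit 0xa846469cb65) (nat_lit 1539))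
)) (.node (nat_lit 0xa8641a9c363) (.node (nat_lit 0xa8618a9c363) (.leaf (nat_lit 0xa8609a9c363) (nat_lit 1283))
 (.leaf (nat_lit 0xa8618a9c363) (nat_lit 1026))
) (.node (nat_lit 0xa8663e9c363) (.leaf (nat_lit 0xa8641a9c363) (nat_lit 1282))
 (.leaf (nat_lit 0xa8663e9c363) (nat_lit 1538))
))) (.node (nat_lit 0xa8a2cc5c449) (.node (nat_lit 0xa88d7c5bc48) (.node (nat_lit 0xa888b85bc48) (.leaf (nat_lit 0xa882d05bc48) (nat_lit 1795))
 (.leaf (nat_lit 0xa888b85bc48) (nat_lit 1538))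
) (.node (nat_lit 0xa891185bc48) (.leaf (nat_lit 0xa88d7c5bc48) (nat_lit 1539))
 (.leaf (nat_lit 0xa891185bc48) (nat_lit 1793))
)) (.node (nat_lit 0xa8ad785c449) (.node (nat_lit 0xa8a8c05c449) (.leaf (nat_lit 0xa8a2cc5c449) (nat_lit 1280))
 (.leaf (nat_lit 0xa8a8c05c449) (nat_lit 1538))
) (.node (nat_lit 0xa8b11c5c449) (.leaf (nat_lit 0xa8ad785c449) (nat_lit 1539))
 (.leaf (nat_lit 0xa8b11c5c449) (nat_lit 1793))
)))))) (.node (nat_lit 0xabc66255470) (.node (nat_lit 0xa9401e4c3dd) (.node (nat_lit 0xa900224cbdb) (.node (nat_lit 0xa8e2d08f909) (.node (nat_lit 0xa8cd789010a) (.node (nat_lit 0xa8c8c09010a) (.leaf (nat_lit 0xa8c2cc9010a) (nat_lit 1281))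
 (.leaf (nat_lit 0xa8c8c09010a) (nat_lit 1536))
) (.node (nat_lit 0xa8d11c9010a) (.leaf (nat_lit 0xa8cd789010a) (nat_lit 1539))
 (.leaf (nat_lit 0xa8d11c9010a) (nat_lit 1283))
)) (.node (nat_lit 0xa8ed7c8f909) (.node (nat_lit 0xa8e8b88f909) (.leaf (nat_lit 0xa8e2d08f909) (nat_lit 1281))
 (.leaf (nat_lit 0xa8e8b88f909) (nat_lit 1538))
) (.node (nat_lit 0xa8f1188f909) (.leaf (nat_lit 0xa8ed7c8f909) (nat_lit 1539))
 (.leaf (nat_lit 0xa8f1188f909) (nat_lit 1792))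
))) (.node (nat_lit 0xa92008ce3de) (.node (nat_lit 0xa905b24cbdb) (.node (nat_lit 0xa903ce4cbdb) (.leaf (nat_lit 0xa900224cbdb) (nat_lit 1538))
 (.leaf (nat_lit 0xa903ce4cbdb) (nat_lit 1283))
) (.node (nat_lit 0xa90cc64cbdb) (.leaf (nat_lit 0xa905b24cbdb) (nat_lit 1538))
 (.leaf (nat_lit 0xa90cc64cbdb) (nat_lit 1280))
)) (.node (nat_lit 0xa92598ce3de) (.node (nat_lit 0xa92024ce3de) (.leaf (nat_lit 0xa92008ce3de) (nat_lit 1538))
 (.leaf (nat_lit 0xa92024ce3de) (nat_lit 1793))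
) (.node (nat_lit 0xa931c0ce3de) (.leaf (nat_lit 0xa92598ce3de) (nat_lit 2050))
 (.leaf (nat_lit 0xa931c0ce3de) (nat_lit 1795))
)))) (.node (nat_lit 0xa98131fa16a) (.node (nat_lit 0xa96004cebdf) (.node (nat_lit 0xa945b64c3dd) (.node (nat_lit 0xa943da4c3dd) (.leaf (nat_lit 0xa9401e4c3dd) (nat_lit 1538))
 (.leaf (nat_lit 0xa943da4c3dd) (nat_lit 769))
) (.node (nat_lit 0xa94cc24c3dd) (.leaf (nat_lit 0xa945b64c3dd) (nat_lit 1538))
 (.leaf (nat_lit 0xa94cc24c3dd) (nat_lit 1281))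
)) (.node (nat_lit 0xa965accebdf) (.node (nat_lit 0xa9602ccebdf) (.leaf (nat_lit 0xa96004cebdf) (nat_lit 1538))
 (.leaf (nat_lit 0xa9602ccebdf) (nat_lit 1281))
) (.node (nat_lit 0xa971c4cebdf) (.leaf (nat_lit 0xa965accebdf) (nat_lit 1538))
 (.leaf (nat_lit 0xa971c4cebdf) (nat_lit 1281))
))) (.node (nat_lit 0xa9c12dfa965) (.node (nat_lit 0xa98de9fa16a) (.node (nat_lit 0xa9889dfa16a) (.leaf (nat_lit 0xa98131fa16a) (nat_lit 1282))
 (.leaf (nat_lit 0xa9889dfa16a) (nat_lit 1537))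
) (.node (nat_lit 0xa98f95fa16a) (.leaf (nat_lit 0xa98de9fa16a) (nat_lit 1283))
 (.leaf (nat_lit 0xa98f95fa16a) (nat_lit 1537))
)) (.node (nat_lit 0xa9cdedfa965) (.node (nat_lit 0xa9c891fa965) (.leaf (nat_lit 0xa9c12dfa965) (nat_lit 1281))
 (.leaf (nat_lit 0xa9c891fa965) (nat_lit 1537))
) (.node (nat_lit 0xa9cf85fa965) (.leaf (nat_lit 0xa9cdedfa965) (nat_lit 1280))
 (.leaf (nat_lit 0xa9cf85fa965) (nat_lit 1539))
))))) (.node (nat_lit 0xadc29cb037b) (.node (nat_lit 0xac066654c71) (.node (nat_lit 0xabe07e0b06b) (.node (nat_lit 0xabcf7e55470) (.node (nat_lit 0xabc77a55470) (.leaf (nat_lit 0xabc66255470) (nat_lit 1537))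
 (.leaf (nat_lit 0xabc77a55470) (nat_lit 1281))
) (.node (nat_lit 0xabd50255470) (.leaf (nat_lit 0xabcf7e55470) (nat_lit 1792))
 (.leaf (nat_lit 0xabd50255470) (nat_lit 1027))
)) (.node (nat_lit 0xabe65e0b06b) (.node (nat_lit 0xabe4e60b06b) (.leaf (nat_lit 0xabe07e0b06b) (nat_lit 1537))
 (.leaf (nat_lit 0xabe4e60b06b) (nat_lit 1793))
) (.node (nat_lit 0xabe8ee0b06b) (.leaf (nat_lit 0xabe65e0b06b) (nat_lit 1536))
 (.leaf (nat_lit 0xabe8ee0b06b) (nat_lit 1795))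
))) (.node (nat_lit 0xac20820b86c) (.node (nat_lit 0xac0f7a54c71) (.node (nat_lit 0xac077654c71) (.leaf (nat_lit 0xac066654c71) (nat_lit 1027))
 (.leaf (nat_lit 0xac077654c71) (nat_lit 1793))
) (.node (nat_lit 0xac150654c71) (.leaf (nat_lit 0xac0f7a54c71) (nat_lit 1793))
 (.leaf (nat_lit 0xac150654c71) (nat_lit 1539))
)) (.node (nat_lit 0xac265a0b86c) (.node (nat_lit 0xac24e20b86c) (.leaf (nat_lit 0xac20820b86c) (nat_lit 1536))
 (.leaf (nat_lit 0xac24e20b86c) (nat_lit 1794))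
) (.node (nat_lit 0xac28ea0b86c) (.leaf (nat_lit 0xac265a0b86c) (nat_lit 1537))
 (.leaf (nat_lit 0xac28ea0b86c) (nat_lit 1794))
)))) (.node (nat_lit 0xae02a4b0b7a) (.node (nat_lit 0xade42481447) (.node (nat_lit 0xadc848b037b) (.node (nat_lit 0xadc5a8b037b) (.leaf (nat_lit 0xadc29cb037b) (nat_lit 257))
 (.leaf (nat_lit 0xadc5a8b037b) (nat_lit 1283))
) (.node (nat_lit 0xadd1a0b037b) (.leaf (nat_lit 0xadc848b037b) (nat_lit 1539))
 (.leaf (nat_lit 0xadd1a0b037b) (nat_lit 1536))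
)) (.node (nat_lit 0xadf10c81447) (.node (nat_lit 0xadefa081447) (.leaf (nat_lit 0xade42481447) (nat_lit 1795))
 (.leaf (nat_lit 0xadefa081447) (nat_lit 1539))
) (.node (nat_lit 0xadf12081447) (.leaf (nat_lit 0xadf10c81447) (nat_lit 1026))
 (.leaf (nat_lit 0xadf12081447) (nat_lit 1795))
))) (.node (nat_lit 0xae242881c46) (.node (nat_lit 0xae0850b0b7a) (.node (nat_lit 0xae0594b0b7a) (.leaf (nat_lit 0xae02a4b0b7a) (nat_lit 1282))
 (.leaf (nat_lit 0xae0594b0b7a) (nat_lit 1795))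
) (.node (nat_lit 0xae11b4b0b7a) (.leaf (nat_lit 0xae0850b0b7a) (nat_lit 2051))
 (.leaf (nat_lit 0xae11b4b0b7a) (nat_lit 1027))
)) (.node (nat_lit 0xae310881c46) (.node (nat_lit 0xae2fa481c46) (.leaf (nat_lit 0xae242881c46) (nat_lit 1793))
 (.leaf (nat_lit 0xae2fa481c46) (nat_lit 1537))
) (.node (nat_lit 0xae312481c46) (.leaf (nat_lit 0xae310881c46) (nat_lit 2050))
 (.leaf (nat_lit 0xae312481c46) (nat_lit 1794))
)))))))))))
theorem tS_ok : genOK A cS tS (nat_lit 2048) = true := by decide +kernel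

/-- A search tree. -/
noncomputable def tR : ST :=
(.node (nat_lit 0x3e019535057) (.node (nat_lit 0xc2c041f81c) (.node (nat_lit 0x32804b5817) (.node (nat_lit 0x120e952866) (.node (nat_lit 0x680c0118e) (.node (nat_lit 0x40e80d913) (.node (nat_lit 0x275c0c800) (.node (nat_lit 0x26740c800) (.leaf (nat_lit 0x20e40c800) (nat_lit 0))
 (.leaf (nat_lit 0x26740c800) (nat_lit 1026))
) (.node (nat_lit 0x33bc0c800) (.leaf (nat_lit 0x275c0c800) (nat_lit 1284))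
 (.leaf (nat_lit 0x33bc0c800) (nat_lit 1284))
)) (.node (nat_lit 0x47580d913) (.node (nat_lit 0x46700d913) (.leaf (nat_lit 0x40e80d913) (nat_lit 260))
 (.leaf (nat_lit 0x46700d913) (nat_lit 1284))
) (.node (nat_lit 0x53b80d913) (.leaf (nat_lit 0x47580d913) (nat_lit 1027))
 (.leaf (nat_lit 0x53b80d913) (nat_lit 1027))
))) (.node (nat_lit 0x880400990) (.node (nat_lit 0x6e400118e) (.node (nat_lit 0x6d900118e) (.leaf (nat_lit 0x680c0118e) (nat_lit 517))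
 (.leaf (nat_lit 0x6d900118e) (nat_lit 513))
) (.node (nat_lit 0x75240118e) (.leaf (nat_lit 0x6e400118e) (nat_lit 1280))
 (.leaf (nat_lit 0x75240118e) (nat_lit 1285))
)) (.node (nat_lit 0x8e4800990) (.node (nat_lit 0x8d8800990) (.leaf (nat_lit 0x880400990) (nat_lit 773))
 (.leaf (nat_lit 0x8d8800990) (nat_lit 769))
) (.node (nat_lit 0x952c00990) (.leaf (nat_lit 0x8e4800990) (nat_lit 1024))
 (.leaf (nat_lit 0x952c00990) (nat_lit 1029))
)))) (.node (nat_lit 0x26265299e7) (.node (nat_lit 0x160e550868) (.node (nat_lit 0x1275952866) (.node (nat_lit 0x1267152866) (.leaf (nat_lit 0x120e952866) (nat_lit 774))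
 (.leaf (nat_lit 0x1267152866) (nat_lit 1026))
) (.node (nat_lit 0x133b952866) (.leaf (nat_lit 0x1275952866) (nat_lit 1286))
 (.leaf (nat_lit 0x133b952866) (nat_lit 1542))
)) (.node (nat_lit 0x1675d50868) (.node (nat_lit 0x1667550868) (.leaf (nat_lit 0x160e550868) (nat_lit 518))
 (.leaf (nat_lit 0x1667550868) (nat_lit 1282))
) (.node (nat_lit 0x173bd50868) (.leaf (nat_lit 0x1675d50868) (nat_lit 1030))
 (.leaf (nat_lit 0x173bd50868) (nat_lit 1798))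
))) (.node (nat_lit 0x2826d2d9e6) (.node (nat_lit 0x26bb1299e7) (.node (nat_lit 0x26ad1299e7) (.leaf (nat_lit 0x26265299e7) (nat_lit 1024))
 (.leaf (nat_lit 0x26ad1299e7) (nat_lit 1029))
) (.node (nat_lit 0x26f61299e7) (.leaf (nat_lit 0x26bb1299e7) (nat_lit 773))
 (.leaf (nat_lit 0x26f61299e7) (nat_lit 773))
)) (.node (nat_lit 0x28bb52d9e6) (.node (nat_lit 0x28ad92d9e6) (.leaf (nat_lit 0x2826d2d9e6) (nat_lit 768))
 (.leaf (nat_lit 0x28ad92d9e6) (nat_lit 773))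
) (.node (nat_lit 0x28f652d9e6) (.leaf (nat_lit 0x28bb52d9e6) (nat_lit 1029))
 (.leaf (nat_lit 0x28f652d9e6) (nat_lit 1029))
))))) (.node (nat_lit 0x6c0f8f8299) (.node (nat_lit 0x4cc0d60971) (.node (nat_lit 0x3680cb3015) (.node (nat_lit 0x32e48b5817) (.node (nat_lit 0x32d88b5817) (.leaf (nat_lit 0x32804b5817) (nat_lit 1029))
 (.leaf (nat_lit 0x32d88b5817) (nat_lit 1029))
) (.node (nat_lit 0x3352cb5817) (.leaf (nat_lit 0x32e48b5817) (nat_lit 773))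
 (.leaf (nat_lit 0x3352cb5817) (nat_lit 768))
)) (.node (nat_lit 0x36e40b3015) (.node (nat_lit 0x36d90b3015) (.leaf (nat_lit 0x3680cb3015) (nat_lit 1285))
 (.leaf (nat_lit 0x36d90b3015) (nat_lit 1285))
) (.node (nat_lit 0x37524b3015) (.leaf (nat_lit 0x36e40b3015) (nat_lit 517))
 (.leaf (nat_lit 0x37524b3015) (nat_lit 512))
))) (.node (nat_lit 0x50c0559970) (.node (nat_lit 0x4cd5d60971) (.node (nat_lit 0x4ccc960971) (.leaf (nat_lit 0x4cc0d60971) (nat_lit 1030))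
 (.leaf (nat_lit 0x4ccc960971) (nat_lit 1286))
) (.node (nat_lit 0x4d4e160971) (.leaf (nat_lit 0x4cd5d60971) (nat_lit 1030))
 (.leaf (nat_lit 0x4d4e160971) (nat_lit 1282))
)) (.node (nat_lit 0x50d5959970) (.node (nat_lit 0x50ccd59970) (.leaf (nat_lit 0x50c0559970) (nat_lit 774))
 (.leaf (nat_lit 0x50ccd59970) (nat_lit 1542))
) (.node (nat_lit 0x514e559970) (.leaf (nat_lit 0x50d5959970) (nat_lit 774))
 (.leaf (nat_lit 0x514e559970) (nat_lit 1538))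
)))) (.node (nat_lit 0x7e668c8808) (.node (nat_lit 0x6e0f4f8a96) (.node (nat_lit 0x6c3fcf8299) (.node (nat_lit 0x6c1ecf8299) (.leaf (nat_lit 0x6c0f8f8299) (nat_lit 514))
 (.leaf (nat_lit 0x6c1ecf8299) (nat_lit 1030))
) (.node (nat_lit 0x6d29cf8299) (.leaf (nat_lit 0x6c3fcf8299) (nat_lit 774))
 (.leaf (nat_lit 0x6d29cf8299) (nat_lit 1286))
)) (.node (nat_lit 0x6e400f8a96) (.node (nat_lit 0x6e1f0f8a96) (.leaf (nat_lit 0x6e0f4f8a96) (nat_lit 770))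
 (.leaf (nat_lit 0x6e1f0f8a96) (nat_lit 1286))
) (.node (nat_lit 0x6f2acf8a96) (.leaf (nat_lit 0x6e400f8a96) (nat_lit 518))
 (.leaf (nat_lit 0x6f2acf8a96) (nat_lit 1030))
))) (.node (nat_lit 0x8066cc7807) (.node (nat_lit 0x7ef74c8808) (.node (nat_lit 0x7e768c8808) (.leaf (nat_lit 0x7e668c8808) (nat_lit 1025))
 (.leaf (nat_lit 0x7e768c8808) (nat_lit 1285))
) (.node (nat_lit 0x7f508c8808) (.leaf (nat_lit 0x7ef74c8808) (nat_lit 517))
 (.leaf (nat_lit 0x7f508c8808) (nat_lit 1280))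
)) (.node (nat_lit 0x80f6cc7807) (.node (nat_lit 0x80770c7807) (.leaf (nat_lit 0x8066cc7807) (nat_lit 769))
 (.leaf (nat_lit 0x80770c7807) (nat_lit 1541))
) (.node (nat_lit 0x8150cc7807) (.leaf (nat_lit 0x80f6cc7807) (nat_lit 261))
 (.leaf (nat_lit 0x8150cc7807) (nat_lit 1536))
)))))) (.node (nat_lit 0x20ac0432249) (.node (nat_lit 0xea0f5e1a51) (.node (nat_lit 0xc8668140f3) (.node (nat_lit 0xc4c0c2001a) (.node (nat_lit 0xc2d581f81c) (.node (nat_lit 0xc2ccc1f81c) (.leaf (nat_lit 0xc2c041f81c) (nat_lit 1540))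
 (.leaf (nat_lit 0xc2ccc1f81c) (nat_lit 770))
) (.node (nat_lit 0xc34e41f81c) (.leaf (nat_lit 0xc2d581f81c) (nat_lit 256))
 (.leaf (nat_lit 0xc34e41f81c) (nat_lit 1028))
)) (.node (nat_lit 0xc4d5c2001a) (.node (nat_lit 0xc4cc82001a) (.leaf (nat_lit 0xc4c0c2001a) (nat_lit 1283))
 (.leaf (nat_lit 0xc4cc82001a) (nat_lit 1028))
) (.node (nat_lit 0xc54e02001a) (.leaf (nat_lit 0xc4d5c2001a) (nat_lit 516))
 (.leaf (nat_lit 0xc54e02001a) (nat_lit 771))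
))) (.node (nat_lit 0xd266c130f6) (.node (nat_lit 0xc8f74140f3) (.node (nat_lit 0xc8768140f3) (.leaf (nat_lit 0xc8668140f3) (nat_lit 770))
 (.leaf (nat_lit 0xc8768140f3) (nat_lit 1286))
) (.node (nat_lit 0xc9508140f3) (.leaf (nat_lit 0xc8f74140f3) (nat_lit 518))
 (.leaf (nat_lit 0xc9508140f3) (nat_lit 1025))
)) (.node (nat_lit 0xd2f6c130f6) (.node (nat_lit 0xd2770130f6) (.leaf (nat_lit 0xd266c130f6) (nat_lit 1026))
 (.leaf (nat_lit 0xd2770130f6) (nat_lit 1542))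
) (.node (nat_lit 0xd350c130f6) (.leaf (nat_lit 0xd2f6c130f6) (nat_lit 262))
 (.leaf (nat_lit 0xd350c130f6) (nat_lit 769))
)))) (.node (nat_lit 0x12e6683096c) (.node (nat_lit 0xec0f9e2255) (.node (nat_lit 0xea401e1a51) (.node (nat_lit 0xea1f1e1a51) (.leaf (nat_lit 0xea0f5e1a51) (nat_lit 1029))
 (.leaf (nat_lit 0xea1f1e1a51) (nat_lit 1285))
) (.node (nat_lit 0xeb2ade1a51) (.leaf (nat_lit 0xea401e1a51) (nat_lit 517))
 (.leaf (nat_lit 0xeb2ade1a51) (nat_lit 1280))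
)) (.node (nat_lit 0xec3fde2255) (.node (nat_lit 0xec1ede2255) (.leaf (nat_lit 0xec0f9e2255) (nat_lit 1285))
 (.leaf (nat_lit 0xec1ede2255) (nat_lit 1029))
) (.node (nat_lit 0xed29de2255) (.leaf (nat_lit 0xec3fde2255) (nat_lit 773))
 (.leaf (nat_lit 0xed29de2255) (nat_lit 1024))
))) (.node (nat_lit 0x13066c3116d) (.node (nat_lit 0x12ef743096c) (.node (nat_lit 0x12e7683096c) (.leaf (nat_lit 0x12e6683096c) (nat_lit 773))
 (.leaf (nat_lit 0x12e7683096c) (nat_lit 1024))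
) (.node (nat_lit 0x12f5083096c) (.leaf (nat_lit 0x12ef743096c) (nat_lit 1285))
 (.leaf (nat_lit 0x12f5083096c) (nat_lit 1029))
)) (.node (nat_lit 0x130f6c3116d) (.node (nat_lit 0x1307703116d) (.leaf (nat_lit 0x13066c3116d) (nat_lit 1029))
 (.leaf (nat_lit 0x1307703116d) (nat_lit 768))
) (.node (nat_lit 0x13150c3116d) (.leaf (nat_lit 0x130f6c3116d) (nat_lit 1541))
 (.leaf (nat_lit 0x13150c3116d) (nat_lit 773))
))))) (.node (nat_lit 0x31a0f90eaab) (.node (nat_lit 0x2cc0e801818) (.node (nat_lit 0x20cc0c34a4b) (.node (nat_lit 0x20ad5832249) (.node (nat_lit 0x20accc32249) (.leaf (nat_lit 0x20ac0432249) (nat_lit 1538))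
 (.leaf (nat_lit 0x20accc32249) (nat_lit 774))
) (.node (nat_lit 0x20b4e432249) (.leaf (nat_lit 0x20ad5832249) (nat_lit 1542))
 (.leaf (nat_lit 0x20b4e432249) (nat_lit 774))
)) (.node (nat_lit 0x20cd5c34a4b) (.node (nat_lit 0x20ccc834a4b) (.leaf (nat_lit 0x20cc0c34a4b) (nat_lit 1282))
 (.leaf (nat_lit 0x20ccc834a4b) (nat_lit 1030))
) (.node (nat_lit 0x20d4e034a4b) (.leaf (nat_lit 0x20cd5c34a4b) (nat_lit 1286))
 (.leaf (nat_lit 0x20d4e034a4b) (nat_lit 1030))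
))) (.node (nat_lit 0x2d60e402016) (.node (nat_lit 0x2cc75801818) (.node (nat_lit 0x2cc67001818) (.leaf (nat_lit 0x2cc0e801818) (nat_lit 1027))
 (.leaf (nat_lit 0x2cc67001818) (nat_lit 515))
) (.node (nat_lit 0x2cd3b801818) (.leaf (nat_lit 0x2cc75801818) (nat_lit 772))
 (.leaf (nat_lit 0x2cd3b801818) (nat_lit 1285))
)) (.node (nat_lit 0x2d675c02016) (.node (nat_lit 0x2d667402016) (.leaf (nat_lit 0x2d60e402016) (nat_lit 1284))
 (.leaf (nat_lit 0x2d667402016) (nat_lit 772))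
) (.node (nat_lit 0x2d73bc02016) (.leaf (nat_lit 0x2d675c02016) (nat_lit 513))
 (.leaf (nat_lit 0x2d73bc02016) (nat_lit 1029))
)))) (.node (nat_lit 0x322c044b805) (.node (nat_lit 0x31ec0c4c006) (.node (nat_lit 0x31a3fd0eaab) (.node (nat_lit 0x31a1ed0eaab) (.leaf (nat_lit 0x31a0f90eaab) (nat_lit 517))
 (.leaf (nat_lit 0x31a1ed0eaab) (nat_lit 1280))
) (.node (nat_lit 0x31b29d0eaab) (.leaf (nat_lit 0x31a3fd0eaab) (nat_lit 1029))
 (.leaf (nat_lit 0x31b29d0eaab) (nat_lit 1285))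
)) (.node (nat_lit 0x31ed5c4c006) (.node (nat_lit 0x31ecc84c006) (.leaf (nat_lit 0x31ec0c4c006) (nat_lit 516))
 (.leaf (nat_lit 0x31ecc84c006) (nat_lit 771))
) (.node (nat_lit 0x31f4e04c006) (.leaf (nat_lit 0x31ed5c4c006) (nat_lit 771))
 (.leaf (nat_lit 0x31f4e04c006) (nat_lit 1029))
))) (.node (nat_lit 0x3260f510aaa) (.node (nat_lit 0x322d584b805) (.node (nat_lit 0x322ccc4b805) (.leaf (nat_lit 0x322c044b805) (nat_lit 257))
 (.leaf (nat_lit 0x322ccc4b805) (nat_lit 1028))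
) (.node (nat_lit 0x3234e44b805) (.leaf (nat_lit 0x322d584b805) (nat_lit 1028))
 (.leaf (nat_lit 0x3234e44b805) (nat_lit 773))
)) (.node (nat_lit 0x32640110aaa) (.node (nat_lit 0x3261f110aaa) (.leaf (nat_lit 0x3260f510aaa) (nat_lit 773))
 (.leaf (nat_lit 0x3261f110aaa) (nat_lit 1024))
) (.node (nat_lit 0x3272ad10aaa) (.leaf (nat_lit 0x32640110aaa) (nat_lit 1285))
 (.leaf (nat_lit 0x3272ad10aaa) (nat_lit 1029))
))))))) (.node (nat_lit 0x57626d63c29) (.node (nat_lit 0x4d40f99e30a) (.node (nat_lit 0x4882663d49e) (.node (nat_lit 0x43a1943b047) (.node (nat_lit 0x3e21a935855) (.node (nat_lit 0x3e0b0d35057) (.node (nat_lit 0x3e03d135057) (.leaf (nat_lit 0x3e019535057) (nat_lit 1286))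
 (.leaf (nat_lit 0x3e03d135057) (nat_lit 1030))
) (.node (nat_lit 0x3e12a135057) (.leaf (nat_lit 0x3e0b0d35057) (nat_lit 1282))
 (.leaf (nat_lit 0x3e12a135057) (nat_lit 1030))
)) (.node (nat_lit 0x3e2b0935855) (.node (nat_lit 0x3e23d535855) (.leaf (nat_lit 0x3e21a935855) (nat_lit 1030))
 (.leaf (nat_lit 0x3e23d535855) (nat_lit 1286))
) (.node (nat_lit 0x3e329935855) (.leaf (nat_lit 0x3e2b0935855) (nat_lit 1026))
 (.leaf (nat_lit 0x3e329935855) (nat_lit 1286))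
))) (.node (nat_lit 0x4421a83a845) (.node (nat_lit 0x43ab0c3b047) (.node (nat_lit 0x43a3d03b047) (.leaf (nat_lit 0x43a1943b047) (nat_lit 513))
 (.leaf (nat_lit 0x43a3d03b047) (nat_lit 1284))
) (.node (nat_lit 0x43b2a03b047) (.leaf (nat_lit 0x43ab0c3b047) (nat_lit 772))
 (.leaf (nat_lit 0x43b2a03b047) (nat_lit 515))
)) (.node (nat_lit 0x442b083a845) (.node (nat_lit 0x4423d43a845) (.leaf (nat_lit 0x4421a83a845) (nat_lit 772))
 (.leaf (nat_lit 0x4423d43a845) (nat_lit 1025))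
) (.node (nat_lit 0x4432983a845) (.leaf (nat_lit 0x442b083a845) (nat_lit 514))
 (.leaf (nat_lit 0x4432983a845) (nat_lit 772))
)))) (.node (nat_lit 0x4a61ad58020) (.node (nat_lit 0x48a26e3cc9c) (.node (nat_lit 0x488bb23d49e) (.node (nat_lit 0x488ad23d49e) (.leaf (nat_lit 0x4882663d49e) (nat_lit 1026))
 (.leaf (nat_lit 0x488ad23d49e) (nat_lit 774))
) (.node (nat_lit 0x488f623d49e) (.leaf (nat_lit 0x488bb23d49e) (nat_lit 1030))
 (.leaf (nat_lit 0x488f623d49e) (nat_lit 774))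
)) (.node (nat_lit 0x48abb63cc9c) (.node (nat_lit 0x48aada3cc9c) (.leaf (nat_lit 0x48a26e3cc9c) (nat_lit 770))
 (.leaf (nat_lit 0x48aada3cc9c) (nat_lit 1030))
) (.node (nat_lit 0x48af663cc9c) (.leaf (nat_lit 0x48abb63cc9c) (nat_lit 774))
 (.leaf (nat_lit 0x48af663cc9c) (nat_lit 1030))
))) (.node (nat_lit 0x4b61b15d81f) (.node (nat_lit 0x4a6e8558020) (.node (nat_lit 0x4a6a9958020) (.leaf (nat_lit 0x4a61ad58020) (nat_lit 769))
 (.leaf (nat_lit 0x4a6a9958020) (nat_lit 770))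
) (.node (nat_lit 0x4a749158020) (.leaf (nat_lit 0x4a6e8558020) (nat_lit 1028))
 (.leaf (nat_lit 0x4a749158020) (nat_lit 516))
)) (.node (nat_lit 0x4b6e815d81f) (.node (nat_lit 0x4b6a9d5d81f) (.leaf (nat_lit 0x4b61b15d81f) (nat_lit 1028))
 (.leaf (nat_lit 0x4b6a9d5d81f) (nat_lit 1028))
) (.node (nat_lit 0x4b74955d81f) (.leaf (nat_lit 0x4b6e815d81f) (nat_lit 769))
 (.leaf (nat_lit 0x4b74955d81f) (nat_lit 259))
))))) (.node (nat_lit 0x54280638ca9) (.node (nat_lit 0x5301ad22138) (.node (nat_lit 0x4d60f59f311) (.node (nat_lit 0x4d43fd9e30a) (.node (nat_lit 0x4d41ed9e30a) (.leaf (nat_lit 0x4d40f99e30a) (nat_lit 1286))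
 (.leaf (nat_lit 0x4d41ed9e30a) (nat_lit 1286))
) (.node (nat_lit 0x4d529d9e30a) (.leaf (nat_lit 0x4d43fd9e30a) (nat_lit 1026))
 (.leaf (nat_lit 0x4d529d9e30a) (nat_lit 518))
)) (.node (nat_lit 0x4d64019f311) (.node (nat_lit 0x4d61f19f311) (.leaf (nat_lit 0x4d60f59f311) (nat_lit 1030))
 (.leaf (nat_lit 0x4d61f19f311) (nat_lit 1030))
) (.node (nat_lit 0x4d72ad9f311) (.leaf (nat_lit 0x4d64019f311) (nat_lit 1282))
 (.leaf (nat_lit 0x4d72ad9f311) (nat_lit 774))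
))) (.node (nat_lit 0x53a1b122939) (.node (nat_lit 0x530e8522138) (.node (nat_lit 0x530a9922138) (.leaf (nat_lit 0x5301ad22138) (nat_lit 774))
 (.leaf (nat_lit 0x530a9922138) (nat_lit 1542))
) (.node (nat_lit 0x53149122138) (.leaf (nat_lit 0x530e8522138) (nat_lit 1542))
 (.leaf (nat_lit 0x53149122138) (nat_lit 1282))
)) (.node (nat_lit 0x53ae8122939) (.node (nat_lit 0x53aa9d22939) (.leaf (nat_lit 0x53a1b122939) (nat_lit 1030))
 (.leaf (nat_lit 0x53aa9d22939) (nat_lit 1286))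
) (.node (nat_lit 0x53b49522939) (.leaf (nat_lit 0x53ae8122939) (nat_lit 1286))
 (.leaf (nat_lit 0x53b49522939) (nat_lit 1538))
)))) (.node (nat_lit 0x56026563428) (.node (nat_lit 0x54a80e384aa) (.node (nat_lit 0x542e4a38ca9) (.node (nat_lit 0x542d8a38ca9) (.leaf (nat_lit 0x54280638ca9) (nat_lit 1281))
 (.leaf (nat_lit 0x542d8a38ca9) (nat_lit 1030))
) (.node (nat_lit 0x54352e38ca9) (.leaf (nat_lit 0x542e4a38ca9) (nat_lit 774))
 (.leaf (nat_lit 0x54352e38ca9) (nat_lit 1026))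
)) (.node (nat_lit 0x54ae42384aa) (.node (nat_lit 0x54ad92384aa) (.leaf (nat_lit 0x54a80e384aa) (nat_lit 1025))
 (.leaf (nat_lit 0x54ad92384aa) (nat_lit 1286))
) (.node (nat_lit 0x54b526384aa) (.leaf (nat_lit 0x54ae42384aa) (nat_lit 518))
 (.leaf (nat_lit 0x54b526384aa) (nat_lit 1282))
))) (.node (nat_lit 0x56666882b31) (.node (nat_lit 0x560bb163428) (.node (nat_lit 0x560ad163428) (.leaf (nat_lit 0x56026563428) (nat_lit 773))
 (.leaf (nat_lit 0x560ad163428) (nat_lit 768))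
) (.node (nat_lit 0x560f6163428) (.leaf (nat_lit 0x560bb163428) (nat_lit 1029))
 (.leaf (nat_lit 0x560f6163428) (nat_lit 1029))
)) (.node (nat_lit 0x566f7482b31) (.node (nat_lit 0x56676882b31) (.leaf (nat_lit 0x56666882b31) (nat_lit 1030))
 (.leaf (nat_lit 0x56676882b31) (nat_lit 1025))
) (.node (nat_lit 0x56750882b31) (.leaf (nat_lit 0x566f7482b31) (nat_lit 1282))
 (.leaf (nat_lit 0x56750882b31) (nat_lit 774))
)))))) (.node (nat_lit 0x7861a8c9a41) (.node (nat_lit 0x6781941b31f) (.node (nat_lit 0x58c1ac09996) (.node (nat_lit 0x58266c83330) (.node (nat_lit 0x576bb563c29) (.node (nat_lit 0x576ad963c29) (.leaf (nat_lit 0x57626d63c29) (nat_lit 1029))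
 (.leaf (nat_lit 0x576ad963c29) (nat_lit 1024))
) (.node (nat_lit 0x576f6563c29) (.leaf (nat_lit 0x576bb563c29) (nat_lit 773))
 (.leaf (nat_lit 0x576f6563c29) (nat_lit 773))
)) (.node (nat_lit 0x582f6c83330) (.node (nat_lit 0x58277083330) (.leaf (nat_lit 0x58266c83330) (nat_lit 774))
 (.leaf (nat_lit 0x58277083330) (nat_lit 769))
) (.node (nat_lit 0x58350c83330) (.leaf (nat_lit 0x582f6c83330) (nat_lit 1538))
 (.leaf (nat_lit 0x58350c83330) (nat_lit 1030))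
))) (.node (nat_lit 0x58e1b00a197) (.node (nat_lit 0x58ce8409996) (.node (nat_lit 0x58ca9809996) (.leaf (nat_lit 0x58c1ac09996) (nat_lit 1028))
 (.leaf (nat_lit 0x58ca9809996) (nat_lit 1028))
) (.node (nat_lit 0x58d49009996) (.leaf (nat_lit 0x58ce8409996) (nat_lit 258))
 (.leaf (nat_lit 0x58d49009996) (nat_lit 769))
)) (.node (nat_lit 0x58ee800a197) (.node (nat_lit 0x58ea9c0a197) (.leaf (nat_lit 0x58e1b00a197) (nat_lit 771))
 (.leaf (nat_lit 0x58ea9c0a197) (nat_lit 769))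
) (.node (nat_lit 0x58f4940a197) (.leaf (nat_lit 0x58ee800a197) (nat_lit 516))
 (.leaf (nat_lit 0x58f4940a197) (nat_lit 1028))
)))) (.node (nat_lit 0x73680c04aaf) (.node (nat_lit 0x67c1a81bb1d) (.node (nat_lit 0x678b0c1b31f) (.node (nat_lit 0x6783d01b31f) (.leaf (nat_lit 0x6781941b31f) (nat_lit 1030))
 (.leaf (nat_lit 0x6783d01b31f) (nat_lit 1282))
) (.node (nat_lit 0x6792a01b31f) (.leaf (nat_lit 0x678b0c1b31f) (nat_lit 1030))
 (.leaf (nat_lit 0x6792a01b31f) (nat_lit 1286))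
)) (.node (nat_lit 0x67cb081bb1d) (.node (nat_lit 0x67c3d41bb1d) (.leaf (nat_lit 0x67c1a81bb1d) (nat_lit 1286))
 (.leaf (nat_lit 0x67c3d41bb1d) (nat_lit 1026))
) (.node (nat_lit 0x67d2981bb1d) (.leaf (nat_lit 0x67cb081bb1d) (nat_lit 1286))
 (.leaf (nat_lit 0x67d2981bb1d) (nat_lit 1030))
))) (.node (nat_lit 0x73e80405aae) (.node (nat_lit 0x736e4004aaf) (.node (nat_lit 0x736d9004aaf) (.leaf (nat_lit 0x73680c04aaf) (nat_lit 1286))
 (.leaf (nat_lit 0x736d9004aaf) (nat_lit 513))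
) (.node (nat_lit 0x73752404aaf) (.leaf (nat_lit 0x736e4004aaf) (nat_lit 1282))
 (.leaf (nat_lit 0x73752404aaf) (nat_lit 518))
)) (.node (nat_lit 0x73ee4805aae) (.node (nat_lit 0x73ed8805aae) (.leaf (nat_lit 0x73e80405aae) (nat_lit 1030))
 (.leaf (nat_lit 0x73ed8805aae) (nat_lit 769))
) (.node (nat_lit 0x73f52c05aae) (.leaf (nat_lit 0x73ee4805aae) (nat_lit 1026))
 (.leaf (nat_lit 0x73f52c05aae) (nat_lit 774))
))))) (.node (nat_lit 0x8f21b25ca3b) (.node (nat_lit 0x8e00e9cdd5e) (.node (nat_lit 0x788194c6a40) (.node (nat_lit 0x786b08c9a41) (.node (nat_lit 0x7863d4c9a41) (.leaf (nat_lit 0x7861a8c9a41) (nat_lit 514))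
 (.leaf (nat_lit 0x7863d4c9a41) (nat_lit 772))
) (.node (nat_lit 0x787298c9a41) (.leaf (nat_lit 0x786b08c9a41) (nat_lit 1284))
 (.leaf (nat_lit 0x787298c9a41) (nat_lit 513))
)) (.node (nat_lit 0x788b0cc6a40) (.node (nat_lit 0x7883d0c6a40) (.leaf (nat_lit 0x788194c6a40) (nat_lit 772))
 (.leaf (nat_lit 0x7883d0c6a40) (nat_lit 515))
) (.node (nat_lit 0x7892a0c6a40) (.leaf (nat_lit 0x788b0cc6a40) (nat_lit 1025))
 (.leaf (nat_lit 0x7892a0c6a40) (nat_lit 772))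
))) (.node (nat_lit 0x8e20e5cfd60) (.node (nat_lit 0x8e0759cdd5e) (.node (nat_lit 0x8e0671cdd5e) (.leaf (nat_lit 0x8e00e9cdd5e) (nat_lit 1538))
 (.leaf (nat_lit 0x8e0671cdd5e) (nat_lit 1286))
) (.node (nat_lit 0x8e13b9cdd5e) (.leaf (nat_lit 0x8e0759cdd5e) (nat_lit 1030))
 (.leaf (nat_lit 0x8e13b9cdd5e) (nat_lit 1286))
)) (.node (nat_lit 0x8e275dcfd60) (.node (nat_lit 0x8e2675cfd60) (.leaf (nat_lit 0x8e20e5cfd60) (nat_lit 1794))
 (.leaf (nat_lit 0x8e2675cfd60) (nat_lit 1030))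
) (.node (nat_lit 0x8e33bdcfd60) (.leaf (nat_lit 0x8e275dcfd60) (nat_lit 1286))
 (.leaf (nat_lit 0x8e33bdcfd60) (nat_lit 1030))
)))) (.node (nat_lit 0x97226d4ec32) (.node (nat_lit 0x8f41ae5da3a) (.node (nat_lit 0x8f2e825ca3b) (.node (nat_lit 0x8f2a9e5ca3b) (.leaf (nat_lit 0x8f21b25ca3b) (nat_lit 1286))
 (.leaf (nat_lit 0x8f2a9e5ca3b) (nat_lit 1542))
) (.node (nat_lit 0x8f34965ca3b) (.leaf (nat_lit 0x8f2e825ca3b) (nat_lit 1026))
 (.leaf (nat_lit 0x8f34965ca3b) (nat_lit 774))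
)) (.node (nat_lit 0x8f4e865da3a) (.node (nat_lit 0x8f4a9a5da3a) (.leaf (nat_lit 0x8f41ae5da3a) (nat_lit 1542))
 (.leaf (nat_lit 0x8f4a9a5da3a) (nat_lit 1286))
) (.node (nat_lit 0x8f54925da3a) (.leaf (nat_lit 0x8f4e865da3a) (nat_lit 770))
 (.leaf (nat_lit 0x8f54925da3a) (nat_lit 1030))
))) (.node (nat_lit 0x9762654c431) (.node (nat_lit 0x972bb54ec32) (.node (nat_lit 0x972ad94ec32) (.leaf (nat_lit 0x97226d4ec32) (nat_lit 1030))
 (.leaf (nat_lit 0x972ad94ec32) (nat_lit 770))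
) (.node (nat_lit 0x972f654ec32) (.leaf (nat_lit 0x972bb54ec32) (nat_lit 1542))
 (.leaf (nat_lit 0x972f654ec32) (nat_lit 774))
)) (.node (nat_lit 0x976bb14c431) (.node (nat_lit 0x976ad14c431) (.leaf (nat_lit 0x9762654c431) (nat_lit 774))
 (.leaf (nat_lit 0x976ad14c431) (nat_lit 1026))
) (.node (nat_lit 0x976f614c431) (.leaf (nat_lit 0x976bb14c431) (nat_lit 1286))
 (.leaf (nat_lit 0x976f614c431) (nat_lit 1030))
))))))))
theorem tR_ok : genOK A cR tR (nat_lit 256) = true := by decide +kernel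

/-- A search tree. -/
noncomputable def t3 : ST :=
(.node (nat_lit 0x2c980c800) (.leaf (nat_lit 0x20e40c800) (nat_lit 0))
 (.node (nat_lit 0x34cc0c800) (.leaf (nat_lit 0x2c980c800) (nat_lit 512))
 (.leaf (nat_lit 0x34cc0c800) (nat_lit 256))
))
theorem t3_ok : genOK A c3 t3 (nat_lit 3) = true := by decide +kernel

/-- A search tree. -/
noncomputable def t5 : ST :=
(.node (nat_lit 0x70c18635382) (.node (nat_lit 0x45ec9643279) (.leaf (nat_lit 0x20e40c800) (nat_lit 0))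
 (.leaf (nat_lit 0x45ec9643279) (nat_lit 768))
) (.node (nat_lit 0x792af601af8) (.leaf (nat_lit 0x70c18635382) (nat_lit 1024))
 (.node (nat_lit 0x7b6d9999548) (.leaf (nat_lit 0x792af601af8) (nat_lit 512))
 (.leaf (nat_lit 0x7b6d9999548) (nat_lit 256))
)))
theorem t5_ok : genOK A c5 t5 (nat_lit 5) = true := by decide +kernel

/-- A search tree. -/
noncomputable def ta8 : ST :=
(.node (nat_lit 0x44efd1c70fd) (.node (nat_lit 0x2d667402016) (.node (nat_lit 0x6e400f8a96) (.node (nat_lit 0x33bc0c800) (.node (nat_lit 0x275c0c800) (.leaf (nat_lit 0x26740c800) (nat_lit 517))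
 (.leaf (nat_lit 0x275c0c800) (nat_lit 773))
) (.node (nat_lit 0x160e550868) (.leaf (nat_lit 0x33bc0c800) (nat_lit 769))
 (.node (nat_lit 0x173bd50868) (.leaf (nat_lit 0x160e550868) (nat_lit 1029))
 (.leaf (nat_lit 0x173bd50868) (nat_lit 1029))
))) (.node (nat_lit 0xed29de2255) (.node (nat_lit 0x6f2acf8a96) (.leaf (nat_lit 0x6e400f8a96) (nat_lit 513))
 (.node (nat_lit 0xec3fde2255) (.leaf (nat_lit 0x6f2acf8a96) (nat_lit 771))
 (.leaf (nat_lit 0xec3fde2255) (nat_lit 769))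
)) (.node (nat_lit 0x2cd3b801818) (.leaf (nat_lit 0xed29de2255) (nat_lit 515))
 (.node (nat_lit 0x2d60e402016) (.leaf (nat_lit 0x2cd3b801818) (nat_lit 0))
 (.leaf (nat_lit 0x2d60e402016) (nat_lit 513))
)))) (.node (nat_lit 0x37120a0595d) (.node (nat_lit 0x31a1ed0eaab) (.node (nat_lit 0x2d675c02016) (.leaf (nat_lit 0x2d667402016) (nat_lit 768))
 (.node (nat_lit 0x31a0f90eaab) (.leaf (nat_lit 0x2d675c02016) (nat_lit 774))
 (.leaf (nat_lit 0x31a0f90eaab) (nat_lit 768))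
)) (.node (nat_lit 0x34e9d4e5bf7) (.leaf (nat_lit 0x31a1ed0eaab) (nat_lit 1025))
 (.node (nat_lit 0x368c39bd161) (.leaf (nat_lit 0x34e9d4e5bf7) (nat_lit 1536))
 (.leaf (nat_lit 0x368c39bd161) (nat_lit 1030))
))) (.node (nat_lit 0x42858417a4d) (.node (nat_lit 0x3e0b0d35057) (.leaf (nat_lit 0x37120a0595d) (nat_lit 1537))
 (.node (nat_lit 0x3e21a935855) (.leaf (nat_lit 0x3e0b0d35057) (nat_lit 1030))
 (.leaf (nat_lit 0x3e21a935855) (nat_lit 262))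
)) (.node (nat_lit 0x43b2a03b047) (.leaf (nat_lit 0x42858417a4d) (nat_lit 1281))
 (.node (nat_lit 0x4423d43a845) (.leaf (nat_lit 0x43b2a03b047) (nat_lit 512))
 (.leaf (nat_lit 0x4423d43a845) (nat_lit 1027))
))))) (.node (nat_lit 0x7a8b02139b1) (.node (nat_lit 0x6792a01b31f) (.node (nat_lit 0x54352e38ca9) (.node (nat_lit 0x4d60f59f311) (.leaf (nat_lit 0x44efd1c70fd) (nat_lit 1539))
 (.node (nat_lit 0x4d61f19f311) (.leaf (nat_lit 0x4d60f59f311) (nat_lit 1027))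
 (.leaf (nat_lit 0x4d61f19f311) (nat_lit 771))
)) (.node (nat_lit 0x54a80e384aa) (.leaf (nat_lit 0x54352e38ca9) (nat_lit 260))
 (.node (nat_lit 0x66b2c09aada) (.leaf (nat_lit 0x54a80e384aa) (nat_lit 773))
 (.leaf (nat_lit 0x66b2c09aada) (nat_lit 1793))
))) (.node (nat_lit 0x73e80405aae) (.node (nat_lit 0x67c3d41bb1d) (.leaf (nat_lit 0x6792a01b31f) (nat_lit 1030))
 (.node (nat_lit 0x73752404aaf) (.leaf (nat_lit 0x67c3d41bb1d) (nat_lit 774))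
 (.leaf (nat_lit 0x73752404aaf) (nat_lit 772))
)) (.node (nat_lit 0x7861a8c9a41) (.leaf (nat_lit 0x73e80405aae) (nat_lit 512))
 (.node (nat_lit 0x788b0cc6a40) (.leaf (nat_lit 0x7861a8c9a41) (nat_lit 1025))
 (.leaf (nat_lit 0x788b0cc6a40) (nat_lit 770))
)))) (.node (nat_lit 0x8e20e5cfd60) (.node (nat_lit 0x8569342590b) (.node (nat_lit 0x7c25d063051) (.leaf (nat_lit 0x7a8b02139b1) (nat_lit 1286))
 (.node (nat_lit 0x7d43f05397a) (.leaf (nat_lit 0x7c25d063051) (nat_lit 1283))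
 (.leaf (nat_lit 0x7d43f05397a) (nat_lit 1539))
)) (.node (nat_lit 0x89413cb2bf5) (.leaf (nat_lit 0x8569342590b) (nat_lit 1286))
 (.node (nat_lit 0x8d042cfeb0e) (.leaf (nat_lit 0x89413cb2bf5) (nat_lit 1539))
 (.leaf (nat_lit 0x8d042cfeb0e) (nat_lit 1280))
))) (.node (nat_lit 0x91aef8440e6) (.node (nat_lit 0x8e33bdcfd60) (.leaf (nat_lit 0x8e20e5cfd60) (nat_lit 773))
 (.node (nat_lit 0x8e43c51ba5e) (.leaf (nat_lit 0x8e33bdcfd60) (nat_lit 773))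
 (.leaf (nat_lit 0x8e43c51ba5e) (nat_lit 1536))
)) (.node (nat_lit 0x9869c839506) (.leaf (nat_lit 0x91aef8440e6) (nat_lit 1286))
 (.node (nat_lit 0xa1cf2c50254) (.leaf (nat_lit 0x9869c839506) (nat_lit 1537))
 (.leaf (nat_lit 0xa1cf2c50254) (nat_lit 1538))
))))))
theorem ta8_ok : ta8.all2 (witLeaf A cX (nat_lit 0x2cd3b801818) ta8) = true := by decide +kernel

/-- A search tree. -/
noncomputable def ty : ST :=
(.node (nat_lit 0x5165346107a) (.node (nat_lit 0x1a259d31023) (.node (nat_lit 0xc54e02001a) (.node (nat_lit 0xc2d581f81c) (.node (nat_lit 0x80f6cc7807) (.leaf (nat_lit 0x7ef74c8808) (nat_lit 513))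
 (.node (nat_lit 0xc2c041f81c) (.leaf (nat_lit 0x80f6cc7807) (nat_lit 515))
 (.leaf (nat_lit 0xc2c041f81c) (nat_lit 768))
)) (.node (nat_lit 0xc4c0c2001a) (.node (nat_lit 0xc34e41f81c) (.leaf (nat_lit 0xc2d581f81c) (nat_lit 0))
 (.leaf (nat_lit 0xc34e41f81c) (nat_lit 516))
) (.node (nat_lit 0xc4d5c2001a) (.leaf (nat_lit 0xc4c0c2001a) (nat_lit 774))
 (.leaf (nat_lit 0xc4d5c2001a) (nat_lit 768))
))) (.node (nat_lit 0xd2770130f6) (.node (nat_lit 0xc8768140f3) (.leaf (nat_lit 0xc54e02001a) (nat_lit 256))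
 (.node (nat_lit 0xc8f74140f3) (.leaf (nat_lit 0xc8768140f3) (nat_lit 771))
 (.leaf (nat_lit 0xc8f74140f3) (nat_lit 512))
)) (.node (nat_lit 0x12e7683096c) (.node (nat_lit 0xd2f6c130f6) (.leaf (nat_lit 0xd2770130f6) (nat_lit 515))
 (.leaf (nat_lit 0xd2f6c130f6) (nat_lit 1025))
) (.node (nat_lit 0x1307703116d) (.leaf (nat_lit 0x12e7683096c) (nat_lit 769))
 (.leaf (nat_lit 0x1307703116d) (nat_lit 771))
)))) (.node (nat_lit 0x322ccc4b805) (.node (nat_lit 0x1c30f4368bc) (.node (nat_lit 0x1a659130024) (.leaf (nat_lit 0x1a259d31023) (nat_lit 774))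
 (.node (nat_lit 0x1b90f0378b9) (.leaf (nat_lit 0x1a659130024) (nat_lit 770))
 (.leaf (nat_lit 0x1b90f0378b9) (nat_lit 1024))
)) (.node (nat_lit 0x31ed5c4c006) (.node (nat_lit 0x31ecc84c006) (.leaf (nat_lit 0x1c30f4368bc) (nat_lit 1024))
 (.leaf (nat_lit 0x31ecc84c006) (nat_lit 518))
) (.node (nat_lit 0x31f4e04c006) (.leaf (nat_lit 0x31ed5c4c006) (nat_lit 514))
 (.leaf (nat_lit 0x31f4e04c006) (nat_lit 1024))
))) (.node (nat_lit 0x4a61ad58020) (.node (nat_lit 0x322d584b805) (.leaf (nat_lit 0x322ccc4b805) (nat_lit 1024))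
 (.node (nat_lit 0x3234e44b805) (.leaf (nat_lit 0x322d584b805) (nat_lit 774))
 (.leaf (nat_lit 0x3234e44b805) (nat_lit 258))
)) (.node (nat_lit 0x4b61b15d81f) (.node (nat_lit 0x4a749158020) (.leaf (nat_lit 0x4a61ad58020) (nat_lit 512))
 (.leaf (nat_lit 0x4a749158020) (nat_lit 773))
) (.node (nat_lit 0x4b74955d81f) (.leaf (nat_lit 0x4b61b15d81f) (nat_lit 771))
 (.leaf (nat_lit 0x4b74955d81f) (nat_lit 773))
))))) (.node (nat_lit 0x5c313519044) (.node (nat_lit 0x566f7482b31) (.node (nat_lit 0x530e8522138) (.node (nat_lit 0x51a53060079) (.leaf (nat_lit 0x5165346107a) (nat_lit 1281))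
 (.node (nat_lit 0x530a9922138) (.leaf (nat_lit 0x51a53060079) (nat_lit 1026))
 (.leaf (nat_lit 0x530a9922138) (nat_lit 518))
)) (.node (nat_lit 0x53ae8122939) (.node (nat_lit 0x53aa9d22939) (.leaf (nat_lit 0x530e8522138) (nat_lit 1030))
 (.leaf (nat_lit 0x53aa9d22939) (nat_lit 771))
) (.node (nat_lit 0x56676882b31) (.leaf (nat_lit 0x53ae8122939) (nat_lit 774))
 (.leaf (nat_lit 0x56676882b31) (nat_lit 513))
))) (.node (nat_lit 0x58ca9809996) (.node (nat_lit 0x58277083330) (.leaf (nat_lit 0x566f7482b31) (nat_lit 1027))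
 (.node (nat_lit 0x582f6c83330) (.leaf (nat_lit 0x58277083330) (nat_lit 772))
 (.leaf (nat_lit 0x582f6c83330) (nat_lit 261))
)) (.node (nat_lit 0x58ea9c0a197) (.node (nat_lit 0x58ce8409996) (.leaf (nat_lit 0x58ca9809996) (nat_lit 1025))
 (.leaf (nat_lit 0x58ce8409996) (nat_lit 768))
) (.node (nat_lit 0x58ee800a197) (.leaf (nat_lit 0x58ea9c0a197) (nat_lit 1024))
 (.leaf (nat_lit 0x58ee800a197) (nat_lit 1027))
)))) (.node (nat_lit 0x8f54925da3a) (.node (nat_lit 0x81f10d650b3) (.node (nat_lit 0x5cb13119843) (.leaf (nat_lit 0x5c313519044) (nat_lit 1282))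
 (.node (nat_lit 0x81d109648b4) (.leaf (nat_lit 0x5cb13119843) (nat_lit 1027))
 (.leaf (nat_lit 0x81d109648b4) (nat_lit 768))
)) (.node (nat_lit 0x8f34965ca3b) (.node (nat_lit 0x8f21b25ca3b) (.leaf (nat_lit 0x81f10d650b3) (nat_lit 1280))
 (.leaf (nat_lit 0x8f21b25ca3b) (nat_lit 774))
) (.node (nat_lit 0x8f41ae5da3a) (.leaf (nat_lit 0x8f34965ca3b) (nat_lit 769))
 (.leaf (nat_lit 0x8f41ae5da3a) (nat_lit 1029))
))) (.node (nat_lit 0xa10fc1238e7) (.node (nat_lit 0x9b4090c5167) (.leaf (nat_lit 0x8f54925da3a) (nat_lit 262))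
 (.node (nat_lit 0x9b608cc6164) (.leaf (nat_lit 0x9b4090c5167) (nat_lit 1025))
 (.leaf (nat_lit 0x9b608cc6164) (nat_lit 1025))
)) (.node (nat_lit 0xa8cd789010a) (.node (nat_lit 0xa12fc5230ec) (.leaf (nat_lit 0xa10fc1238e7) (nat_lit 1283))
 (.leaf (nat_lit 0xa12fc5230ec) (nat_lit 771))
) (.node (nat_lit 0xa8ed7c8f909) (.leaf (nat_lit 0xa8cd789010a) (nat_lit 518))
 (.leaf (nat_lit 0xa8ed7c8f909) (nat_lit 1030))
))))))
theorem ty_ok : ty.all2 (witLeaf A cX (nat_lit 0xc2d581f81c) ty) = true := by decide +kernel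

/-- A search tree. -/
noncomputable def tz : ST :=
(.node (nat_lit 0x448fd5c78fc) (.node (nat_lit 0x2cc75801818) (.node (nat_lit 0x6c3fcf8299) (.node (nat_lit 0x53b80d913) (.node (nat_lit 0x47580d913) (.leaf (nat_lit 0x46700d913) (nat_lit 517))
 (.leaf (nat_lit 0x47580d913) (nat_lit 773))
) (.node (nat_lit 0x120e952866) (.leaf (nat_lit 0x53b80d913) (nat_lit 769))
 (.node (nat_lit 0x133b952866) (.leaf (nat_lit 0x120e952866) (nat_lit 1029))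
 (.leaf (nat_lit 0x133b952866) (nat_lit 1029))
))) (.node (nat_lit 0xeb2ade1a51) (.node (nat_lit 0x6d29cf8299) (.leaf (nat_lit 0x6c3fcf8299) (nat_lit 513))
 (.node (nat_lit 0xea401e1a51) (.leaf (nat_lit 0x6d29cf8299) (nat_lit 771))
 (.leaf (nat_lit 0xea401e1a51) (nat_lit 769))
)) (.node (nat_lit 0x2cc0e801818) (.leaf (nat_lit 0xeb2ade1a51) (nat_lit 515))
 (.node (nat_lit 0x2cc67001818) (.leaf (nat_lit 0x2cc0e801818) (nat_lit 513))
 (.leaf (nat_lit 0x2cc67001818) (nat_lit 768))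
)))) (.node (nat_lit 0x36ec25bd960) (.node (nat_lit 0x3261f110aaa) (.node (nat_lit 0x2d73bc02016) (.leaf (nat_lit 0x2cc75801818) (nat_lit 774))
 (.node (nat_lit 0x3260f510aaa) (.leaf (nat_lit 0x2d73bc02016) (nat_lit 0))
 (.leaf (nat_lit 0x3260f510aaa) (nat_lit 768))
)) (.node (nat_lit 0x34c9d0e53f9) (.leaf (nat_lit 0x3261f110aaa) (nat_lit 1025))
 (.node (nat_lit 0x36b20e0694f) (.leaf (nat_lit 0x34c9d0e53f9) (nat_lit 1536))
 (.leaf (nat_lit 0x36b20e0694f) (nat_lit 1537))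
))) (.node (nat_lit 0x4245801824f) (.node (nat_lit 0x3e019535057) (.leaf (nat_lit 0x36ec25bd960) (nat_lit 1030))
 (.node (nat_lit 0x3e2b0935855) (.leaf (nat_lit 0x3e019535057) (nat_lit 262))
 (.leaf (nat_lit 0x3e2b0935855) (nat_lit 1030))
)) (.node (nat_lit 0x43a3d03b047) (.leaf (nat_lit 0x4245801824f) (nat_lit 1281))
 (.node (nat_lit 0x4432983a845) (.leaf (nat_lit 0x43a3d03b047) (nat_lit 1027))
 (.leaf (nat_lit 0x4432983a845) (nat_lit 512))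
))))) (.node (nat_lit 0x7aaafe131b0) (.node (nat_lit 0x6783d01b31f) (.node (nat_lit 0x54280638ca9) (.node (nat_lit 0x4d40f99e30a) (.leaf (nat_lit 0x448fd5c78fc) (nat_lit 1539))
 (.node (nat_lit 0x4d41ed9e30a) (.leaf (nat_lit 0x4d40f99e30a) (nat_lit 1027))
 (.leaf (nat_lit 0x4d41ed9e30a) (nat_lit 771))
)) (.node (nat_lit 0x54b526384aa) (.leaf (nat_lit 0x54280638ca9) (nat_lit 773))
 (.node (nat_lit 0x6692c8972dc) (.leaf (nat_lit 0x54b526384aa) (nat_lit 260))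
 (.leaf (nat_lit 0x6692c8972dc) (nat_lit 1793))
))) (.node (nat_lit 0x73f52c05aae) (.node (nat_lit 0x67d2981bb1d) (.leaf (nat_lit 0x6783d01b31f) (nat_lit 774))
 (.node (nat_lit 0x73680c04aaf) (.leaf (nat_lit 0x67d2981bb1d) (nat_lit 1030))
 (.leaf (nat_lit 0x73680c04aaf) (nat_lit 512))
)) (.node (nat_lit 0x786b08c9a41) (.leaf (nat_lit 0x73f52c05aae) (nat_lit 772))
 (.node (nat_lit 0x788194c6a40) (.leaf (nat_lit 0x786b08c9a41) (nat_lit 770))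
 (.leaf (nat_lit 0x788194c6a40) (nat_lit 1025))
)))) (.node (nat_lit 0x8e00e9cdd5e) (.node (nat_lit 0x86a93c2610d) (.node (nat_lit 0x7ca5e86284f) (.leaf (nat_lit 0x7aaafe131b0) (nat_lit 1286))
 (.node (nat_lit 0x7d63f454974) (.leaf (nat_lit 0x7ca5e86284f) (nat_lit 1283))
 (.leaf (nat_lit 0x7d63f454974) (nat_lit 1539))
)) (.node (nat_lit 0x896144b53f4) (.leaf (nat_lit 0x86a93c2610d) (nat_lit 1286))
 (.node (nat_lit 0x8da434fe309) (.leaf (nat_lit 0x896144b53f4) (nat_lit 1539))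
 (.leaf (nat_lit 0x8da434fe309) (nat_lit 1280))
))) (.node (nat_lit 0x918f00438e5) (.node (nat_lit 0x8e13b9cdd5e) (.leaf (nat_lit 0x8e00e9cdd5e) (nat_lit 773))
 (.node (nat_lit 0x8e63c91b25f) (.leaf (nat_lit 0x8e13b9cdd5e) (nat_lit 773))
 (.leaf (nat_lit 0x8e63c91b25f) (nat_lit 1536))
)) (.node (nat_lit 0x9829c439d05) (.leaf (nat_lit 0x918f00438e5) (nat_lit 1286))
 (.node (nat_lit 0xa1ef284fa50) (.leaf (nat_lit 0x9829c439d05) (nat_lit 1537))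
 (.leaf (nat_lit 0xa1ef284fa50) (nat_lit 1538))
))))))
theorem tz_ok : tz.all2 (witLeaf A cX (nat_lit 0x2d73bc02016) tz) = true := by decide +kernel

/-- A search tree. -/
noncomputable def tv : ST :=
(.node (nat_lit 0x20ac0432249) (.node (nat_lit 0xcc77957809) (.node (nat_lit 0x4e658d7aa7) (.node (nat_lit 0x2d5040b96b) (.node (nat_lit 0x28ad92d9e6) (.node (nat_lit 0x26ad1299e7) (.node (nat_lit 0x1504c8001) (.leaf (nat_lit 0x664c8001) (nat_lit 1025))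
 (.leaf (nat_lit 0x1504c8001) (nat_lit 1281))
) (.node (nat_lit 0x26f61299e7) (.leaf (nat_lit 0x26ad1299e7) (nat_lit 1795))
 (.leaf (nat_lit 0x26f61299e7) (nat_lit 1536))
)) (.node (nat_lit 0x2ad688981b) (.node (nat_lit 0x28f652d9e6) (.leaf (nat_lit 0x28ad92d9e6) (nat_lit 1795))
 (.leaf (nat_lit 0x28f652d9e6) (nat_lit 1536))
) (.node (nat_lit 0x2afb08981b) (.leaf (nat_lit 0x2ad688981b) (nat_lit 1283))
 (.node (nat_lit 0x2c6640b96b) (.leaf (nat_lit 0x2afb08981b) (nat_lit 1281))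
 (.leaf (nat_lit 0x2c6640b96b) (nat_lit 1027))
)))) (.node (nat_lit 0x4a07cd72a6) (.node (nat_lit 0x2efb400019) (.node (nat_lit 0x2ed6c00019) (.leaf (nat_lit 0x2d5040b96b) (nat_lit 1283))
 (.leaf (nat_lit 0x2ed6c00019) (nat_lit 1283))
) (.node (nat_lit 0x306600a966) (.leaf (nat_lit 0x2efb400019) (nat_lit 1281))
 (.node (nat_lit 0x315000a966) (.leaf (nat_lit 0x306600a966) (nat_lit 1027))
 (.leaf (nat_lit 0x315000a966) (nat_lit 1283))
))) (.node (nat_lit 0x4cc0d60971) (.node (nat_lit 0x4a65cd72a6) (.leaf (nat_lit 0x4a07cd72a6) (nat_lit 1797))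
 (.leaf (nat_lit 0x4a65cd72a6) (nat_lit 1285))
) (.node (nat_lit 0x4ccc960971) (.leaf (nat_lit 0x4cc0d60971) (nat_lit 0))
 (.node (nat_lit 0x4e080d7aa7) (.leaf (nat_lit 0x4ccc960971) (nat_lit 512))
 (.leaf (nat_lit 0x4e080d7aa7) (nat_lit 1797))
))))) (.node (nat_lit 0x7f508c8808) (.node (nat_lit 0x7af0e53032) (.node (nat_lit 0x50ccd59970) (.node (nat_lit 0x50c0559970) (.leaf (nat_lit 0x4e658d7aa7) (nat_lit 1285))
 (.leaf (nat_lit 0x50c0559970) (nat_lit 261))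
) (.node (nat_lit 0x7a88653032) (.leaf (nat_lit 0x50ccd59970) (nat_lit 513))
 (.leaf (nat_lit 0x7a88653032) (nat_lit 1285))
)) (.node (nat_lit 0x7cf1254031) (.node (nat_lit 0x7c87654031) (.leaf (nat_lit 0x7af0e53032) (nat_lit 1282))
 (.leaf (nat_lit 0x7c87654031) (nat_lit 1285))
) (.node (nat_lit 0x7e668c8808) (.leaf (nat_lit 0x7cf1254031) (nat_lit 1282))
 (.node (nat_lit 0x7e768c8808) (.leaf (nat_lit 0x7e668c8808) (nat_lit 770))
 (.leaf (nat_lit 0x7e768c8808) (nat_lit 1798))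
)))) (.node (nat_lit 0xc4cc82001a) (.node (nat_lit 0x80770c7807) (.node (nat_lit 0x8066cc7807) (.leaf (nat_lit 0x7f508c8808) (nat_lit 515))
 (.leaf (nat_lit 0x8066cc7807) (nat_lit 771))
) (.node (nat_lit 0x8150cc7807) (.leaf (nat_lit 0x80770c7807) (nat_lit 1798))
 (.node (nat_lit 0xc2ccc1f81c) (.leaf (nat_lit 0x8150cc7807) (nat_lit 515))
 (.leaf (nat_lit 0xc2ccc1f81c) (nat_lit 1797))
))) (.node (nat_lit 0xc665c5d524) (.node (nat_lit 0xc607c5d524) (.leaf (nat_lit 0xc4cc82001a) (nat_lit 1797))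
 (.leaf (nat_lit 0xc607c5d524) (nat_lit 1541))
) (.node (nat_lit 0xca0d83dc6f) (.leaf (nat_lit 0xc665c5d524) (nat_lit 1794))
 (.node (nat_lit 0xca9a83dc6f) (.leaf (nat_lit 0xca0d83dc6f) (nat_lit 1029))
 (.leaf (nat_lit 0xca9a83dc6f) (nat_lit 1538))
)))))) (.node (nat_lit 0x1750a412899) (.node (nat_lit 0xf6cf07a09a) (.node (nat_lit 0xd07755700b) (.node (nat_lit 0xce0805dd25) (.node (nat_lit 0xccf7d57809) (.leaf (nat_lit 0xcc77957809) (nat_lit 1281))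
 (.leaf (nat_lit 0xccf7d57809) (nat_lit 1537))
) (.node (nat_lit 0xce6585dd25) (.leaf (nat_lit 0xce0805dd25) (nat_lit 1541))
 (.leaf (nat_lit 0xce6585dd25) (nat_lit 1794))
)) (.node (nat_lit 0xd40dc3e46e) (.node (nat_lit 0xd0f795700b) (.leaf (nat_lit 0xd07755700b) (nat_lit 1281))
 (.leaf (nat_lit 0xd0f795700b) (nat_lit 1537))
) (.node (nat_lit 0xd49ac3e46e) (.leaf (nat_lit 0xd40dc3e46e) (nat_lit 1029))
 (.node (nat_lit 0xf67c07a09a) (.leaf (nat_lit 0xd49ac3e46e) (nat_lit 1538))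
 (.leaf (nat_lit 0xf67c07a09a) (nat_lit 1026))
)))) (.node (nat_lit 0x12f5083096c) (.node (nat_lit 0xf8cf87a89c) (.node (nat_lit 0xf87c47a89c) (.leaf (nat_lit 0xf6cf07a09a) (nat_lit 1541))
 (.leaf (nat_lit 0xf87c47a89c) (nat_lit 1026))
) (.node (nat_lit 0x12e6683096c) (.leaf (nat_lit 0xf8cf87a89c) (nat_lit 1536))
 (.node (nat_lit 0x12ef743096c) (.leaf (nat_lit 0x12e6683096c) (nat_lit 769))
 (.leaf (nat_lit 0x12ef743096c) (nat_lit 1542))
))) (.node (nat_lit 0x130f6c3116d) (.node (nat_lit 0x13066c3116d) (.leaf (nat_lit 0x12f5083096c) (nat_lit 513))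
 (.leaf (nat_lit 0x13066c3116d) (nat_lit 768))
) (.node (nat_lit 0x13150c3116d) (.leaf (nat_lit 0x130f6c3116d) (nat_lit 1542))
 (.node (nat_lit 0x17479812899) (.leaf (nat_lit 0x13150c3116d) (nat_lit 513))
 (.leaf (nat_lit 0x17479812899) (nat_lit 1538))
))))) (.node (nat_lit 0x1f44e47c3a1) (.node (nat_lit 0x1e89a87fa48) (.node (nat_lit 0x1770a01389b) (.node (nat_lit 0x17679c1389b) (.leaf (nat_lit 0x1750a412899) (nat_lit 1797))
 (.leaf (nat_lit 0x17679c1389b) (nat_lit 1538))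
) (.node (nat_lit 0x1e80d87fa48) (.leaf (nat_lit 0x1770a01389b) (nat_lit 1797))
 (.leaf (nat_lit 0x1e80d87fa48) (nat_lit 1538))
)) (.node (nat_lit 0x1ea9ac8024a) (.node (nat_lit 0x1ea0dc8024a) (.leaf (nat_lit 0x1e89a87fa48) (nat_lit 1028))
 (.leaf (nat_lit 0x1ea0dc8024a) (nat_lit 1538))
) (.node (nat_lit 0x1f10caafab4) (.leaf (nat_lit 0x1ea9ac8024a) (nat_lit 1028))
 (.node (nat_lit 0x1f1272afab4) (.leaf (nat_lit 0x1f10caafab4) (nat_lit 1792))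
 (.leaf (nat_lit 0x1f1272afab4) (nat_lit 1285))
)))) (.node (nat_lit 0x1fecf032ab7) (.node (nat_lit 0x1fd0c6b0ab6) (.node (nat_lit 0x1f48ec7c3a1) (.leaf (nat_lit 0x1f44e47c3a1) (nat_lit 1536))
 (.leaf (nat_lit 0x1f48ec7c3a1) (nat_lit 1797))
) (.node (nat_lit 0x1fd27ab0ab6) (.leaf (nat_lit 0x1fd0c6b0ab6) (nat_lit 1792))
 (.node (nat_lit 0x1fe7c032ab7) (.leaf (nat_lit 0x1fd27ab0ab6) (nat_lit 1285))
 (.leaf (nat_lit 0x1fe7c032ab7) (nat_lit 1024))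
))) (.node (nat_lit 0x200cf8352b5) (.node (nat_lit 0x2007c4352b5) (.leaf (nat_lit 0x1fecf032ab7) (nat_lit 1285))
 (.leaf (nat_lit 0x2007c4352b5) (nat_lit 1024))
) (.node (nat_lit 0x2084e07f3a0) (.leaf (nat_lit 0x200cf8352b5) (nat_lit 1285))
 (.node (nat_lit 0x2088e87f3a0) (.leaf (nat_lit 0x2084e07f3a0) (nat_lit 1541))
 (.leaf (nat_lit 0x2088e87f3a0) (nat_lit 1797))
))))))) (.node (nat_lit 0x5ec8a52923d) (.node (nat_lit 0x48af663cc9c) (.node (nat_lit 0x320d6c0b004) (.node (nat_lit 0x226660c7002) (.node (nat_lit 0x20cc0c34a4b) (.node (nat_lit 0x20accc32249) (.leaf (nat_lit 0x20ac0432249) (nat_lit 256))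
 (.leaf (nat_lit 0x20accc32249) (nat_lit 259))
) (.node (nat_lit 0x20ccc834a4b) (.leaf (nat_lit 0x20cc0c34a4b) (nat_lit 257))
 (.leaf (nat_lit 0x20ccc834a4b) (nat_lit 517))
)) (.node (nat_lit 0x31cd680c003) (.node (nat_lit 0x227500c7002) (.leaf (nat_lit 0x226660c7002) (nat_lit 1025))
 (.leaf (nat_lit 0x227500c7002) (nat_lit 1281))
) (.node (nat_lit 0x31cfb00c003) (.leaf (nat_lit 0x31cd680c003) (nat_lit 1539))
 (.node (nat_lit 0x31ec0c4c006) (.leaf (nat_lit 0x31cfb00c003) (nat_lit 1537))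
 (.leaf (nat_lit 0x31ec0c4c006) (nat_lit 1797))
)))) (.node (nat_lit 0x35e79c33bd9) (.node (nat_lit 0x322c044b805) (.node (nat_lit 0x320fb40b004) (.leaf (nat_lit 0x320d6c0b004) (nat_lit 1538))
 (.leaf (nat_lit 0x320fb40b004) (nat_lit 1538))
) (.node (nat_lit 0x35c79831bd8) (.leaf (nat_lit 0x322c044b805) (nat_lit 1797))
 (.node (nat_lit 0x35d0a431bd8) (.leaf (nat_lit 0x35c79831bd8) (nat_lit 1541))
 (.leaf (nat_lit 0x35d0a431bd8) (nat_lit 1541))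
))) (.node (nat_lit 0x488ad23d49e) (.node (nat_lit 0x35f0a033bd9) (.leaf (nat_lit 0x35e79c33bd9) (nat_lit 1536))
 (.leaf (nat_lit 0x35f0a033bd9) (nat_lit 1541))
) (.node (nat_lit 0x488f623d49e) (.leaf (nat_lit 0x488ad23d49e) (nat_lit 1542))
 (.node (nat_lit 0x48aada3cc9c) (.leaf (nat_lit 0x488f623d49e) (nat_lit 1798))
 (.leaf (nat_lit 0x48aada3cc9c) (nat_lit 1542))
))))) (.node (nat_lit 0x55edceaf39b) (.node (nat_lit 0x4e6ca185bf2) (.node (nat_lit 0x4dec9d843f3) (.node (nat_lit 0x4dc1e54e14d) (.leaf (nat_lit 0x48af663cc9c) (nat_lit 1798))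
 (.leaf (nat_lit 0x4dc1e54e14d) (nat_lit 2304))
) (.node (nat_lit 0x4e01e94b94c) (.leaf (nat_lit 0x4dec9d843f3) (nat_lit 2305))
 (.leaf (nat_lit 0x4e01e94b94c) (nat_lit 2304))
)) (.node (nat_lit 0x526a8d6a149) (.node (nat_lit 0x4fca916a94a) (.leaf (nat_lit 0x4e6ca185bf2) (nat_lit 2305))
 (.leaf (nat_lit 0x4fca916a94a) (nat_lit 2562))
) (.node (nat_lit 0x55cddeb039f) (.leaf (nat_lit 0x526a8d6a149) (nat_lit 2562))
 (.node (nat_lit 0x55d242b039f) (.leaf (nat_lit 0x55cddeb039f) (nat_lit 1537))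
 (.leaf (nat_lit 0x55d242b039f) (nat_lit 1539))
)))) (.node (nat_lit 0x576bb563c29) (.node (nat_lit 0x56026563428) (.node (nat_lit 0x55f23aaf39b) (.leaf (nat_lit 0x55edceaf39b) (nat_lit 1537))
 (.leaf (nat_lit 0x55f23aaf39b) (nat_lit 1539))
) (.node (nat_lit 0x560bb163428) (.leaf (nat_lit 0x56026563428) (nat_lit 1537))
 (.node (nat_lit 0x57626d63c29) (.leaf (nat_lit 0x560bb163428) (nat_lit 2051))
 (.leaf (nat_lit 0x57626d63c29) (nat_lit 1537))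
))) (.node (nat_lit 0x58464c1e80d) (.node (nat_lit 0x5841d41e80d) (.leaf (nat_lit 0x576bb563c29) (nat_lit 2051))
 (.leaf (nat_lit 0x5841d41e80d) (nat_lit 1285))
) (.node (nat_lit 0x5861d81f00c) (.leaf (nat_lit 0x58464c1e80d) (nat_lit 1282))
 (.node (nat_lit 0x5866341f00c) (.leaf (nat_lit 0x5861d81f00c) (nat_lit 1280))
 (.leaf (nat_lit 0x5866341f00c) (nat_lit 1282))
)))))) (.node (nat_lit 0x956f0d6122a) (.node (nat_lit 0x94c64e5596e) (.node (nat_lit 0x82d0c87d2ec) (.node (nat_lit 0x77efca57327) (.node (nat_lit 0x5ee8a12c23f) (.leaf (nat_lit 0x5ec8a52923d) (nat_lit 2563))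
 (.leaf (nat_lit 0x5ee8a12c23f) (nat_lit 2563))
) (.node (nat_lit 0x782fce57b28) (.leaf (nat_lit 0x77efca57327) (nat_lit 2054))
 (.leaf (nat_lit 0x782fce57b28) (nat_lit 2054))
)) (.node (nat_lit 0x82f0c4822ed) (.node (nat_lit 0x82d2707d2ec) (.leaf (nat_lit 0x82d0c87d2ec) (nat_lit 1541))
 (.leaf (nat_lit 0x82d2707d2ec) (nat_lit 1797))
) (.node (nat_lit 0x82f278822ed) (.leaf (nat_lit 0x82f0c4822ed) (nat_lit 1541))
 (.node (nat_lit 0x94c1d65596e) (.leaf (nat_lit 0x82f278822ed) (nat_lit 1794))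
 (.leaf (nat_lit 0x94c1d65596e) (nat_lit 1282))
)))) (.node (nat_lit 0x952ddc342a1) (.node (nat_lit 0x94ef1161a25) (.node (nat_lit 0x94e87561a25) (.leaf (nat_lit 0x94c64e5596e) (nat_lit 1280))
 (.leaf (nat_lit 0x94e87561a25) (nat_lit 1536))
) (.node (nat_lit 0x9501da5396f) (.leaf (nat_lit 0x94ef1161a25) (nat_lit 772))
 (.node (nat_lit 0x9506365396f) (.leaf (nat_lit 0x9501da5396f) (nat_lit 1282))
 (.leaf (nat_lit 0x9506365396f) (nat_lit 1280))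
))) (.node (nat_lit 0x954dcc332a5) (.node (nat_lit 0x953240342a1) (.leaf (nat_lit 0x952ddc342a1) (nat_lit 1793))
 (.leaf (nat_lit 0x953240342a1) (nat_lit 1795))
) (.node (nat_lit 0x955238332a5) (.leaf (nat_lit 0x954dcc332a5) (nat_lit 1793))
 (.node (nat_lit 0x9568856122a) (.leaf (nat_lit 0x955238332a5) (nat_lit 1795))
 (.leaf (nat_lit 0x9568856122a) (nat_lit 1537))
))))) (.node (nat_lit 0xabc77a55470) (.node (nat_lit 0x976bb14c431) (.node (nat_lit 0x972bb54ec32) (.node (nat_lit 0x97226d4ec32) (.leaf (nat_lit 0x956f0d6122a) (nat_lit 772))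
 (.leaf (nat_lit 0x97226d4ec32) (nat_lit 1793))
) (.node (nat_lit 0x9762654c431) (.leaf (nat_lit 0x972bb54ec32) (nat_lit 1286))
 (.leaf (nat_lit 0x9762654c431) (nat_lit 1798))
)) (.node (nat_lit 0xa562f267c3c) (.node (nat_lit 0xa542e66743d) (.leaf (nat_lit 0x976bb14c431) (nat_lit 1286))
 (.leaf (nat_lit 0xa542e66743d) (nat_lit 2561))
) (.node (nat_lit 0xa888b85bc48) (.leaf (nat_lit 0xa562f267c3c) (nat_lit 2560))
 (.node (nat_lit 0xa8a8c05c449) (.leaf (nat_lit 0xa888b85bc48) (nat_lit 2310))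
 (.leaf (nat_lit 0xa8a8c05c449) (nat_lit 2310))
)))) (.node (nat_lit 0xac0f7a54c71) (.node (nat_lit 0xabe4e60b06b) (.node (nat_lit 0xabcf7e55470) (.leaf (nat_lit 0xabc77a55470) (nat_lit 1283))
 (.leaf (nat_lit 0xabcf7e55470) (nat_lit 1539))
) (.node (nat_lit 0xabe8ee0b06b) (.leaf (nat_lit 0xabe4e60b06b) (nat_lit 1538))
 (.node (nat_lit 0xac077654c71) (.leaf (nat_lit 0xabe8ee0b06b) (nat_lit 1797))
 (.leaf (nat_lit 0xac077654c71) (nat_lit 1283))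
))) (.node (nat_lit 0xac28ea0b86c) (.node (nat_lit 0xac24e20b86c) (.leaf (nat_lit 0xac0f7a54c71) (nat_lit 1539))
 (.leaf (nat_lit 0xac24e20b86c) (nat_lit 1538))
) (.node (nat_lit 0xadefa081447) (.leaf (nat_lit 0xac28ea0b86c) (nat_lit 1797))
 (.node (nat_lit 0xae2fa481c46) (.leaf (nat_lit 0xadefa081447) (nat_lit 2560))
 (.leaf (nat_lit 0xae2fa481c46) (nat_lit 2560))
))))))))
theorem tv_ok : tv.all2 (witLeaf A cX (nat_lit 0x4cc0d60971) tv) = true := by decide +kernel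

/-- The two orbits of the subgroup of index two. -/
def colN : ℕ := (nat_lit 0x300000c00f0f000f3ff00330003fc00003c0000030003fcff0000000f003ffc0003fff0ce10ffffff9ffcfff000c3f3fe40ffffffffc03fc3ffffffffff0fff87ffc3c00fffffc78ffffff900000000ff000f000c000000000f630ff0000000000000c3000000f00ffc3ffffff3c3f00ffffffffff00fffffffc03ffcffc204003c3fff0000f3ffffff87c0000078780004870800781fff0f27e0781fe7fff87e7fe18001e187e1e01ffe01ffe01fffe)

/-- Words that carry the first point to the roots of the nodes. -/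
def gw : List (List ℕ) := [[],
  [141],
  [40,33,16,141,77,141],
  [141,7,141],
  [57,50,141,115,141],
  [37,96,141,11,107,141],
  [34,18,141,120,49,40,33,16,141,77,141],
  [41,32,99,22,141,9,116,57,50,141,115,141],
  [40,70,14,84,141,77,34,18,141,120,49,40,33,16,141,77,141]]

/-- A word. -/
def wd0 : List ℕ := [19,1,11,35,15,32,32,41,41,39,40,33,16,141,77,141,31,13,0,39,17,28,32,40,39]

/-- A word. -/
def we0 : List ℕ := [26,2,4,27,15,29,31,41,41,39,57,50,141,115,141,18,10,6,30,19,32,27,39]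

/-- A word. -/
def wb0 : List ℕ := [25,8,0,39,17,40,33,41,41,40,70,14,84,141,77,34,18,141,120,49,40,33,16,141,77,141,28,10,1,22,27,34,41,41]

/-- A word. -/
def wr0 : List ℕ := [16,35,28,28,41,39,41,32,99,22,141,9,116,57,50,141,115,141,12,2,4,19,36,32]

/-- A word. -/
def wc0 : List ℕ := [26,8,6,20,15,36,27,39,41,32,99,22,141,9,116,57,50,141,115,141,24,9,1,26,28,35,30,41,41]

/-- A word. -/
def wm2 : List ℕ := [0,40,33,16,141,77,141]

/-- A word. -/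
def wm4 : List ℕ := [17,25,34,32,27,41,39,40,33,16,141,77,141]

/-- A word. -/
def wm6 : List ℕ := [4,1,18,28,40,33,16,141,77,141]

end Cfsg.Agent.KFI.SpD.HNd
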