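import Mathlib
import Cfsg.Agent.KFI.SpA
import Cfsg.Prelude.Def_Classification2

/-! # Layers of involution centralizers in sporadic groups, cluster A -/

set_option autoImplicit false
set_option linter.unusedSectionVars false

namespace Cfsg.Agent.KFI

open Cfsg Subgroup

variable {G : Type*} [Group G] [Finite G] [IsSimpleGroup G]

theorem lay_M11 (h : Spor.IsoM11 G) (t : G) (ht : orderOf t = 2) :
    layer (centralizer ({t} : Set G)) = ⊥ ∨ Lay 1 (centralizer ({t} : Set G)) := (SpA.m11 h t ht).2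

theorem lay_M12 (h : Spor.IsoM12 G) (t : G) (ht : orderOf t = 2) :
    layer (centralizer ({t} : Set G)) = ⊥ ∨ Lay 1 (centralizer ({t} : Set G)) := (SpA.m12 h t ht).2

theorem lay_M22 (h : Spor.IsoM22 G) (t : G) (ht : orderOf t = 2) :
    layer (centralizer ({t} : Set G)) = ⊥ ∨ Lay 1 (centralizer ({t} : Set G)) := (SpA.m22 h t ht).2

theorem lay_M23 (h : Spor.IsoM23 G) (t : G) (ht : orderOf t = 2) :
    layer (centralizer ({t} : Set G)) = ⊥ ∨ Lay 1 (centralizer ({t} : Set G)) := (SpA.m23 h t ht).2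

theorem lay_M24 (h : Spor.IsoM24 G) (t : G) (ht : orderOf t = 2) :
    layer (centralizer ({t} : Set G)) = ⊥ ∨ Lay 1 (centralizer ({t} : Set G)) := (SpA.m24 h t ht).2

theorem lay_J1 (h : Spor.IsoJ1 G) (t : G) (ht : orderOf t = 2) :
    layer (centralizer ({t} : Set G)) = ⊥ ∨ Lay 1 (centralizer ({t} : Set G)) := (SpA.j1 h t ht).2

theorem lay_J2 (h : Spor.IsoJ2 G) (t : G) (ht : orderOf t = 2) :
    layer (centralizer ({t} : Set G)) = ⊥ ∨ Lay 1 (centralizer ({t} : Set G)) := (SpA.j2 h t ht).2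

theorem lay_J3 (h : Spor.IsoJ3 G) (t : G) (ht : orderOf t = 2) :
    layer (centralizer ({t} : Set G)) = ⊥ ∨ Lay 1 (centralizer ({t} : Set G)) := (SpA.j3 h t ht).2

end Cfsg.Agent.KFI
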